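import Cfsg.Agent.Lib.MaxSub.SuThree.Basic

/-!
Parameters of the transvections of a subgroup at one isotropic point, and the ring of their multipliers.
-/

set_option autoImplicit false
set_option linter.unusedSectionVars false

namespace CfsgLib.MaxSub.SuThree

open Matrix CfsgLib.MaxSub
open scoped MatrixGroups

variable {F : Type*} [Field F] [Fintype F] {q : ℕ} (hF : Fintype.card F = q ^ 2)

/-- `c` is the parameter of a transvection of `M` with centre `z` -/
def InC (M : Subgroup (GL (Fin 3) F)) (z : Fin 3 → F) (c : F) : Prop :=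
  c + qConj hF c = 0 ∧ HasTv M z (c • hDual (Cfsg.hermForm 3 F q) z)

variable {hF} {M : Subgroup (GL (Fin 3) F)} {z : Fin 3 → F}

theorem inC_zero : InC hF M z 0 := ⟨by simp, by rw [zero_smul]; exact hasTv_zero z⟩

theorem InC.add {c d : F} (hc : InC hF M z c) (hd : InC hF M z d) : InC hF M z (c + d) :=
  ⟨by rw [map_add]; linear_combination hc.1 + hd.1, by rw [add_smul]; exact hc.2.add hd.2⟩

theorem InC.neg {c : F} (hc : InC hF M z c) : InC hF M z (-c) :=
  ⟨by rw [map_neg]; linear_combination -hc.1, by rw [neg_smul]; exact hc.2.neg⟩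

theorem InC.sub {c d : F} (hc : InC hF M z c) (hd : InC hF M z d) : InC hF M z (c - d) := by
  simpa [sub_eq_add_neg] using hc.add hd.neg

variable (hF) in
/-- multipliers of the parameters at one point -/
def multRing (M : Subgroup (GL (Fin 3) F)) (z : Fin 3 → F) : Subring F where
  carrier := {m | qConj hF m = m ∧ ∀ c, InC hF M z c → InC hF M z (m * c)}
  one_mem' := ⟨map_one _, fun c hc => by rwa [one_mul]⟩
  zero_mem' := ⟨map_zero _, fun c _ => by rw [zero_mul]; exact inC_zero⟩
  mul_mem' {a b} ha hb := ⟨by rw [map_mul, ha.1, hb.1], fun c hc => by rw [mul_assoc]; exact ha.2 _ (hb.2 c hc)⟩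
  add_mem' {a b} ha hb := ⟨by rw [map_add, ha.1, hb.1], fun c hc => by rw [add_mul]; exact (ha.2 c hc).add (hb.2 c hc)⟩
  neg_mem' {a} ha := ⟨by rw [map_neg, ha.1], fun c hc => by rw [neg_mul]; exact (ha.2 c hc).neg⟩

/-- an element fixing the point multiplies the parameters by a norm -/
theorem InC.conj (hMG : M ≤ Cfsg.GU 3 F q ⊓ Cfsg.Geo.specialLinear (Fin 3) F) {g : GL (Fin 3) F}
    (hg : g ∈ M) {l : F} (hgz : (g : Matrix (Fin 3) (Fin 3) F) *ᵥ z = l • z) {c : F} (hc : InC hF M z c) :
    InC hF M z (l * qConj hF l * c) := by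
  have hf := isUnitaryForm_hermForm hF 3
  refine ⟨by rw [map_mul, map_mul, hf.involutive]; linear_combination (l * qConj hF l) * hc.1, ?_⟩
  have h := hc.2.conj hg
  rw [smul_vecMul, hDual_vecMul_inv hf (isometry_of_mem hF hMG hg), hgz, hDual_smul hf, smul_smul] at h
  rcases eq_or_ne l 0 with rfl | hl
  · rw [zero_mul, zero_mul, zero_smul]; exact hasTv_zero z
  rw [hasTv_smul_iff hl, smul_smul] at h
  rwa [show l * qConj hF l * c = l * (c * qConj hF l) by ring]

/-- the norm of an eigenvalue at the point is a multiplier -/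
theorem norm_mem_multRing (hMG : M ≤ Cfsg.GU 3 F q ⊓ Cfsg.Geo.specialLinear (Fin 3) F) {g : GL (Fin 3) F}
    (hg : g ∈ M) {l : F} (hgz : (g : Matrix (Fin 3) (Fin 3) F) *ᵥ z = l • z) :
    l * qConj hF l ∈ multRing hF M z :=
  ⟨by rw [map_mul, (isUnitaryForm_hermForm hF 3).involutive, mul_comm], fun _ hc => hc.conj hMG hg hgz⟩

/-- all fixed elements as multipliers give the whole transvection group -/
theorem uFull_of_multRing (hzz : Cfsg.hermForm 3 F q z z = 0) {c₀ : F} (h0 : c₀ ≠ 0) (hc₀ : InC hF M z c₀)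
    (h : ∀ m, qConj hF m = m → m ∈ multRing hF M z) : UFull (qConj hF) (Cfsg.hermForm 3 F q) M z := by
  refine ⟨hzz, fun c hc => ?_⟩
  have hm : qConj hF (c / c₀) = c / c₀ := by
    rw [map_div₀, show qConj hF c = -c by linear_combination hc,
      show qConj hF c₀ = -c₀ by linear_combination hc₀.1, neg_div_neg_eq]
  have := ((h _ hm).2 c₀ hc₀).2
  rwa [div_mul_cancel₀ _ h0] at this

end CfsgLib.MaxSub.SuThree
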