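import Cfsg.Agent.Lib.MaxSub.SlThree.ExtraMain
import Cfsg.Agent.Lib.MaxSub.SuThree.Chord

/-!
Normalisers of extraspecial groups of order `27` are maximal in `SU₃(p)`, `p ≡ 2 (mod 3)`.
-/

set_option autoImplicit false
set_option linter.unusedSectionVars false
set_option linter.unusedSimpArgs false

namespace CfsgLib.MaxSub.SuThree

open Matrix CfsgLib.MaxSub CfsgLib.MaxSub.SlThree CfsgLib.MaxSub.SlThree.Extra
open scoped MatrixGroups

variable {F : Type*} [Field F] [Fintype F] {q : ℕ} (hF : Fintype.card F = q ^ 2)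

theorem qConj_apply_eq (x : F) : qConj hF x = x ^ q := qConj_apply hF x

/-- The standard form, written out. -/
theorem herm_three (u v : Fin 3 → F) :
    Cfsg.hermForm 3 F q u v = u 0 * qConj hF (v 0) + u 1 * qConj hF (v 1) + u 2 * qConj hF (v 2) := by
  simp [Cfsg.hermForm, Fin.sum_univ_three, qConj_apply hF]

/-- A matrix with the stated action preserves the form. -/
theorem mem_gu_of_form {g : GL (Fin 3) F}
    (h : ∀ u v : Fin 3 → F, Cfsg.hermForm 3 F q ((g : Matrix (Fin 3) (Fin 3) F) *ᵥ u)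
      ((g : Matrix (Fin 3) (Fin 3) F) *ᵥ v) = Cfsg.hermForm 3 F q u v) : g ∈ Cfsg.GU 3 F q := h

variable {w : F} {hw : Root w}
include hF

theorem qConj_two : qConj hF (2 : F) = 2 := map_ofNat _ 2

theorem twG_mem_gu (hσ : qConj hF w = w * w) : twG hw ∈ Cfsg.GU 3 F q := by
  refine mem_gu_of_form fun u v => ?_
  rw [show ((twG hw : GL (Fin 3) F) : Matrix (Fin 3) (Fin 3) F) = !![1, 0, 0; 0, w, 0; 0, 0, w] from rfl,
    herm_three hF, herm_three hF]
  simp only [Matrix.mulVec, dotProduct, Fin.sum_univ_three, of_apply, cons_val, zero_mul, one_mul, add_zero,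
    zero_add, map_mul, hσ]
  linear_combination (u 1 * qConj hF (v 1) + u 2 * qConj hF (v 2)) * hw.cube

theorem q1G_mem_gu (hσ : qConj hF w = w * w) : q1G hw ∈ Cfsg.GU 3 F q := by
  refine mem_gu_of_form fun u v => ?_
  have h3 := hw.three
  rw [show ((q1G hw : GL (Fin 3) F) : Matrix (Fin 3) (Fin 3) F) =
    (-(w - w * w) / 3) • !![1, 1, 1; 1, w, w * w; 1, w * w, w] from rfl, herm_three hF, herm_three hF]
  simp only [Matrix.smul_mulVec, Pi.smul_apply, Matrix.smul_apply, smul_eq_mul, Matrix.mulVec, dotProduct, Fin.sum_univ_three,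
    of_apply, cons_val, one_mul, map_add, map_mul, map_div₀, map_neg, map_sub, map_ofNat, hσ]
  have := hw.eq
  field_simp
  grind

theorem q2G_mem_gu (hσ : qConj hF w = w * w) : q2G hw ∈ Cfsg.GU 3 F q :=
  mul_mem (mul_mem (twG_mem_gu hF hσ) (q1G_mem_gu hF hσ)) (inv_mem (twG_mem_gu hF hσ))

/-- A transvection preserving the form has an isotropic centre and its dual as axis. -/
theorem tv_param {M : Subgroup (GL (Fin 3) F)} (hMG : M ≤ Cfsg.GU 3 F q ⊓ Cfsg.Geo.specialLinear (Fin 3) F)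
    {a φ : Fin 3 → F} (h : HasTv M a φ) (ha : a ≠ 0) (hφ : φ ≠ 0) :
    Cfsg.hermForm 3 F q a a = 0 ∧ ∃ c : F, c ≠ 0 ∧ InC hF M a c := by
  have hf := isUnitaryForm_hermForm hF 3
  obtain ⟨h0, g, hg, hgv⟩ := h
  have key : ∀ x y, (φ ⬝ᵥ x) * Cfsg.hermForm 3 F q a y + qConj hF (φ ⬝ᵥ y) * Cfsg.hermForm 3 F q x a +
      (φ ⬝ᵥ x) * qConj hF (φ ⬝ᵥ y) * Cfsg.hermForm 3 F q a a = 0 := fun x y => by
    have := isometry_of_mem hF hMG hg x y
    rw [hgv, tvMat_mulVec, tvMat_mulVec, hf.add_left, hf.smul_left, herm_add_right hf, herm_add_right hf,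
      herm_smul_right hf, herm_smul_right hf] at this
    linear_combination this
  obtain ⟨i, hi⟩ := Function.ne_iff.1 hφ
  set x0 : Fin 3 → F := Pi.single i (φ i)⁻¹ with hx0d
  have hx0 : φ ⬝ᵥ x0 = 1 := by rw [hx0d, dotProduct_single, mul_inv_cancel₀ hi]
  set k : F := Cfsg.hermForm 3 F q a x0 + Cfsg.hermForm 3 F q a a with hk
  have hxa : ∀ x, Cfsg.hermForm 3 F q x a = -k * (φ ⬝ᵥ x) := fun x => by
    have := key x x0
    rw [hx0, map_one] at this
    linear_combination this - (φ ⬝ᵥ x) * hk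
  have haa : Cfsg.hermForm 3 F q a a = 0 := by rw [hxa a, h0, mul_zero]
  have hk0 : k ≠ 0 := fun e => by
    obtain ⟨x, hx⟩ := (hf.nondegenerate a ha).1
    exact hx (by rw [hxa x, e, neg_zero, zero_mul])
  have hkk : -k + qConj hF (-k) = 0 := by
    have h1 := hxa x0
    rw [hx0, mul_one] at h1
    have h2 := key x0 x0
    rw [hx0, map_one, haa] at h2
    have h3 : qConj hF (-k) = Cfsg.hermForm 3 F q a x0 := by rw [← h1, ← hf.herm]
    linear_combination h3 + h2 - h1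
  refine ⟨haa, (-k)⁻¹, inv_ne_zero (neg_ne_zero.2 hk0), ?_, ?_⟩
  · have hk' : qConj hF (-k) = -(-k) := by linear_combination hkk
    rw [map_inv₀, hk', inv_neg (a := -k), add_neg_cancel]
  · have e : (-k)⁻¹ • hDual (Cfsg.hermForm 3 F q) a = φ := by
      refine dotProduct_eq _ _ fun x => ?_
      rw [smul_dotProduct, hDual_dot hf, hxa, smul_eq_mul, ← mul_assoc, inv_mul_cancel₀ (neg_ne_zero.2 hk0),
        one_mul]
    rw [e]
    exact ⟨h0, g, hg, hgv⟩

/-- Over a quadratic extension of a prime field one transvection gives the whole group at its centre. -/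
theorem uFull_of_inC {p : ℕ} (hp : p.Prime) (hqp : q = p) (hc : CharP F p) {M : Subgroup (GL (Fin 3) F)}
    {z : Fin 3 → F} {c : F} (hzz : Cfsg.hermForm 3 F q z z = 0) (h0 : c ≠ 0) (hcm : InC hF M z c) :
    UFull (qConj hF) (Cfsg.hermForm 3 F q) M z := by
  have := Fact.mk hp
  refine uFull_of_multRing hzz h0 hcm fun m hm => ?_
  have hmem : m ∈ (⊥ : Subfield F) := by
    rw [Subfield.mem_bot_iff_pow_eq_self F p, ← hqp, ← qConj_apply hF, hm]
  rw [← ZMod.fieldRange_castHom_eq_bot p] at hmem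
  obtain ⟨y, rfl⟩ := hmem
  rw [← ZMod.natCast_zmod_val y, map_natCast]
  exact natCast_mem _ _

omit hF in
theorem sum_cubes {σ : F ≃+* F} (h2 : (2 : F) ≠ 0) {x y : F} (hN : x * σ x + y * σ y = 0)
    (hc : x ^ 3 + y ^ 3 = 0) : x = 0 ∧ y = 0 := by
  have h1 : σ x ^ 3 + σ y ^ 3 = 0 := by rw [← map_pow, ← map_pow, ← map_add, hc, map_zero]
  have e : 2 * (x * σ x) ^ 3 = 0 := by
    have hy : y ^ 3 = -x ^ 3 := by linear_combination hc
    have hy' : σ y ^ 3 = -σ x ^ 3 := by linear_combination h1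
    have hN' : (x * σ x) ^ 3 = -(y ^ 3 * σ y ^ 3) := by
      rw [show x * σ x = -(y * σ y) by linear_combination hN]; ring
    rw [hy, hy'] at hN'
    linear_combination hN'
  have hx : x = 0 := by
    rcases mul_eq_zero.1 (pow_eq_zero_iff (n := 3) (by norm_num) |>.1 ((mul_eq_zero.1 e).resolve_left h2))
      with h | h
    exacts [h, (map_eq_zero_iff σ σ.injective).1 h]
  subst hx
  exact ⟨rfl, by simpa using hc⟩

/-- A subgroup over the group of order `27` with a transvection contains the special unitary group. -/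
theorem su_le_of_heis {p : ℕ} (hp : p.Prime) (hqp : q = p) (hc : CharP F p) (hq : 3 ≤ q)
    {M : Subgroup (GL (Fin 3) F)} (hMG : M ≤ Cfsg.GU 3 F q ⊓ Cfsg.Geo.specialLinear (Fin 3) F)
    (hd : dG hw ∈ M) (hs : shG ∈ M) (hT : ¬ NoTv M) :
    Cfsg.GU 3 F q ⊓ Cfsg.Geo.specialLinear (Fin 3) F ≤ M := by
  have hf := isUnitaryForm_hermForm hF 3
  simp only [NoTv, not_forall, not_or] at hT
  obtain ⟨a, φ, h, ha, hφ⟩ := hT
  obtain ⟨haa, c, hc0, hcm⟩ := tv_param hF hMG h ha hφ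
  have hU := uFull_of_inC hF hp hqp hc haa hc0 hcm
  have mv : ∀ g ∈ M, UFull (qConj hF) (Cfsg.hermForm 3 F q) M ((g : Matrix (Fin 3) (Fin 3) F) *ᵥ a) :=
    fun g hg => hU.conj hf hg (isometry_of_mem hF hMG hg)
  by_cases hall : a 0 * (a 1 * a 2) = 0
  · refine su_le_of_three hF hq hU (mv _ hs) (mv _ (mul_mem hs hs)) ?_
    refine Matrix.linearIndependent_rows_of_det_ne_zero
      (A := Matrix.of ![a, (shG : GL (Fin 3) F).1 *ᵥ a, ((shG * shG : GL (Fin 3) F)).1 *ᵥ a]) ?_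
    rw [Units.val_mul, coe_shG, Matrix.det_fin_three]
    simp [Matrix.mul_apply, Matrix.mulVec, dotProduct, Fin.sum_univ_three]
    intro hdet
    rw [herm_three hF] at haa
    refine ha (funext fun i => ?_)
    rcases mul_eq_zero.1 hall with h0 | h12
    · obtain ⟨h1, h2⟩ := sum_cubes (σ := qConj hF) hw.two (x := a 1) (y := a 2)
        (by rw [h0] at haa; linear_combination haa) (by rw [h0] at hdet; linear_combination hdet)
      fin_cases i <;> assumption
    rcases mul_eq_zero.1 h12 with h1 | h2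
    · obtain ⟨h0, h2⟩ := sum_cubes (σ := qConj hF) hw.two (x := a 0) (y := a 2)
        (by rw [h1] at haa; linear_combination haa) (by rw [h1] at hdet; linear_combination hdet)
      fin_cases i <;> assumption
    · obtain ⟨h0, h1⟩ := sum_cubes (σ := qConj hF) hw.two (x := a 0) (y := a 1)
        (by rw [h2] at haa; linear_combination haa) (by rw [h2] at hdet; linear_combination hdet)
      fin_cases i <;> assumption
  · refine su_le_of_three hF hq hU (mv _ hd) (mv _ (mul_mem hd hd)) ?_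
    refine Matrix.linearIndependent_rows_of_det_ne_zero
      (A := Matrix.of ![a, (dG hw : GL (Fin 3) F).1 *ᵥ a, ((dG hw * dG hw : GL (Fin 3) F)).1 *ᵥ a]) ?_
    rw [Units.val_mul, coe_dG, Matrix.det_fin_three]
    simp [Matrix.mul_apply, Matrix.mulVec, dotProduct, Fin.sum_univ_three]
    intro hdet
    have hV : (w - 1) * ((w * w - 1) * (w * w - w)) ≠ 0 :=
      mul_ne_zero (sub_ne_zero.2 hw.ne_one) (mul_ne_zero (sub_ne_zero.2 hw.sq_ne_one)
        (sub_ne_zero.2 hw.sq_ne_self))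
    refine mul_ne_zero hall hV ?_
    linear_combination hdet

/-- Elements with norm one and cube different from one. -/
theorem exists_norm_one (hq : 4 ≤ q) : ∃ a : F, a * qConj hF a = 1 ∧ a ^ 3 ≠ 1 := by
  obtain ⟨g, hg⟩ := IsCyclic.exists_generator (α := Fˣ)
  refine ⟨(g : F) ^ (q - 1), ?_, fun h => ?_⟩
  · rw [qConj_apply hF, ← pow_succ', ← pow_mul, show (q - 1) * (q + 1) = q ^ 2 - 1 by
      rw [mul_comm, ← Nat.sq_sub_sq, one_pow]]
    rw [← hF]
    exact FiniteField.pow_card_sub_one_eq_one _ g.ne_zero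
  · rw [← pow_mul, ← Units.val_pow_eq_pow_val, Units.val_eq_one] at h
    have hd := orderOf_dvd_of_pow_eq_one h
    rw [orderOf_eq_card_of_forall_mem_zpowers hg, Nat.card_units, Nat.card_eq_fintype_card, hF] at hd
    have := Nat.le_of_dvd (by omega) hd
    have h4 : 4 * q ≤ q ^ 2 := by rw [pow_two]; exact Nat.mul_le_mul_right q hq
    omega

/-- A similarity of order dividing three has multiplier one. -/
theorem mult_eq_one {p : ℕ} (hqp : q = p) (h1 : p % 3 = 2) {y : GL (Fin 3) F} (hy3 : y ^ 3 = 1) {c : Fˣ}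
    (hc : ∀ u v, Cfsg.hermForm 3 F q ((y : Matrix (Fin 3) (Fin 3) F) *ᵥ u)
      ((y : Matrix (Fin 3) (Fin 3) F) *ᵥ v) = (c : F) * Cfsg.hermForm 3 F q u v) : (c : F) = 1 := by
  have hf := isUnitaryForm_hermForm hF 3
  obtain ⟨z, -, hz⟩ := exists_anisotropic hf (U := (⊤ : Submodule F (Fin 3 → F))) (by simp)
  have hy : (y : Matrix (Fin 3) (Fin 3) F) *ᵥ ((y : Matrix (Fin 3) (Fin 3) F) *ᵥ
      ((y : Matrix (Fin 3) (Fin 3) F) *ᵥ z)) = z := by
    rw [Matrix.mulVec_mulVec, Matrix.mulVec_mulVec, ← Units.val_mul, ← Units.val_mul,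
      show y * y * y = 1 by rw [← hy3, pow_succ, pow_two], Units.val_one, Matrix.one_mulVec]
  have key : Cfsg.hermForm 3 F q z z = (c : F) * ((c : F) * ((c : F) * Cfsg.hermForm 3 F q z z)) := by
    conv_lhs => rw [← hy]
    rw [hc, hc, hc]
  have hc3 : (c : F) ^ 3 = 1 := mul_right_cancel₀ hz (by linear_combination -key)
  have hcσ : qConj hF (c : F) = c := by
    have e := herm_self_fixed hf ((y : Matrix (Fin 3) (Fin 3) F) *ᵥ z)
    rw [hc, map_mul, herm_self_fixed hf] at e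
    exact mul_right_cancel₀ hz e
  rw [qConj_apply hF, hqp, ← Nat.div_add_mod p 3, pow_add, pow_mul, hc3, one_pow, one_mul, h1] at hcσ
  have : (c : F) * ((c : F) - 1) = 0 := by linear_combination hcσ
  exact sub_eq_zero.1 ((mul_eq_zero.1 this).resolve_left c.ne_zero)

/-- The form in the new coordinates. -/
theorem form_coord {p : ℕ} (hp : p.Prime) (hqp : q = p) (h1 : p % 3 = 2) {R : Subgroup (GL (Fin 3) F)}
    (hsim : R ≤ Cfsg.Geo.similarityGroup (Cfsg.hermForm 3 F q)) {P : GL (Fin 3) F}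
    (hP : ∀ g, g ∈ R ↔ P⁻¹ * g * P ∈ heis hw) (hσ : qConj hF w = w * w) :
    ∃ δ : F, δ ≠ 0 ∧ ∀ u v, Cfsg.hermForm 3 F q ((P : Matrix (Fin 3) (Fin 3) F) *ᵥ u)
      ((P : Matrix (Fin 3) (Fin 3) F) *ᵥ v) = δ * Cfsg.hermForm 3 F q u v := by
  have hf := isUnitaryForm_hermForm hF 3
  let g : (Fin 3 → F) → (Fin 3 → F) → F := fun u v =>
    Cfsg.hermForm 3 F q ((P : Matrix (Fin 3) (Fin 3) F) *ᵥ u) ((P : Matrix (Fin 3) (Fin 3) F) *ᵥ v)
  have iso : ∀ x ∈ heis hw, x ^ 3 = 1 → ∀ u v,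
      g ((x : Matrix (Fin 3) (Fin 3) F) *ᵥ u) ((x : Matrix (Fin 3) (Fin 3) F) *ᵥ v) = g u v := by
    intro x hx hx3 u v
    set y : GL (Fin 3) F := P * x * P⁻¹ with hy
    have hyR : y ∈ R := by rw [hP, show P⁻¹ * y * P = x by rw [hy]; group]; exact hx
    obtain ⟨c, hc⟩ := hsim hyR
    have hy3 : y ^ 3 = 1 := by rw [hy, conj_pow, hx3, mul_one, mul_inv_cancel]
    have hc1 : (c : F) = 1 := mult_eq_one hF hqp h1 hy3 hc
    have e := hc ((P : Matrix (Fin 3) (Fin 3) F) *ᵥ u) ((P : Matrix (Fin 3) (Fin 3) F) *ᵥ v)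
    rw [hc1, one_mul, Matrix.mulVec_mulVec, Matrix.mulVec_mulVec, ← Units.val_mul, hy, inv_mul_cancel_right,
      Units.val_mul, ← Matrix.mulVec_mulVec, ← Matrix.mulVec_mulVec] at e
    exact e
  have gd := iso _ (dG_mem hw) (dG_pow_three hw)
  have gs := iso _ (shG_mem hw) shG_pow_three
  set e : Fin 3 → (Fin 3 → F) := fun i => Pi.single i 1 with he
  have gsl : ∀ (a : F) u v, g (a • u) v = a * g u v := fun a u v => by
    simp only [g, Matrix.mulVec_smul, hf.smul_left]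
  have gsr : ∀ (a : F) u v, g u (a • v) = qConj hF a * g u v := fun a u v => by
    simp only [g, Matrix.mulVec_smul, herm_smul_right hf]
  have gal : ∀ u u' v, g (u + u') v = g u v + g u' v := fun u u' v => by
    simp only [g, Matrix.mulVec_add, hf.add_left]
  have gar : ∀ u v v', g u (v + v') = g u v + g u v' := fun u v v' => by
    simp only [g, Matrix.mulVec_add, herm_add_right hf]
  have d0 : (dG hw).1 *ᵥ e 0 = (1 : F) • e 0 := by
    rw [coe_dG]; ext i; fin_cases i <;> simp [e]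
  have d1 : (dG hw).1 *ᵥ e 1 = w • e 1 := by
    rw [coe_dG]; ext i; fin_cases i <;> simp [e]
  have d2 : (dG hw).1 *ᵥ e 2 = (w * w) • e 2 := by
    rw [coe_dG]; ext i; fin_cases i <;> simp [e]
  have hoff : ∀ (a b : F) i j, (dG hw).1 *ᵥ e i = a • e i → (dG hw).1 *ᵥ e j = b • e j →
      a * qConj hF b ≠ 1 → g (e i) (e j) = 0 := by
    intro a b i j hi hj hab
    have := gd (e i) (e j)
    rw [hi, hj, gsl, gsr] at this
    exact (mul_eq_zero.1 (show (a * qConj hF b - 1) * g (e i) (e j) = 0 by linear_combination this)).resolve_left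
      (sub_ne_zero.2 hab)
  have s0 : (shG : GL (Fin 3) F).1 *ᵥ e 0 = e 1 := by
    rw [coe_shG]; ext i; fin_cases i <;> simp [e]
  have s1 : (shG : GL (Fin 3) F).1 *ᵥ e 1 = e 2 := by
    rw [coe_shG]; ext i; fin_cases i <;> simp [e]
  have g11 : g (e 1) (e 1) = g (e 0) (e 0) := by rw [← gs (e 0) (e 0), s0]
  have g22 : g (e 2) (e 2) = g (e 0) (e 0) := by rw [← g11, ← gs (e 1) (e 1), s1]
  have hw1 : qConj hF (1 : F) = 1 := map_one _
  have hne := hw.ne_one
  have hne2 := hw.sq_ne_one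
  have hcu := hw.cube
  have g01 : g (e 0) (e 1) = 0 := hoff _ _ _ _ d0 d1 (by rw [hσ, one_mul]; exact hne2)
  have g02 : g (e 0) (e 2) = 0 := hoff _ _ _ _ d0 d2 (by
    rw [map_mul, hσ, one_mul]; exact fun h => hne (by linear_combination h - w * hcu))
  have g10 : g (e 1) (e 0) = 0 := hoff _ _ _ _ d1 d0 (by rw [hw1, mul_one]; exact hne)
  have g12 : g (e 1) (e 2) = 0 := hoff _ _ _ _ d1 d2 (by
    rw [map_mul, hσ]; exact fun h => hne2 (by linear_combination h - (w * w) * hcu))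
  have g20 : g (e 2) (e 0) = 0 := hoff _ _ _ _ d2 d0 (by rw [hw1, mul_one]; exact hne2)
  have g21 : g (e 2) (e 1) = 0 := hoff _ _ _ _ d2 d1 (by
    rw [hσ]; exact fun h => hne (by linear_combination h - w * hcu))
  have hexp : ∀ u : Fin 3 → F, u = u 0 • e 0 + u 1 • e 1 + u 2 • e 2 := fun u => by
    ext i; fin_cases i <;> simp [e]
  have hg : ∀ u v, g u v = g (e 0) (e 0) * Cfsg.hermForm 3 F q u v := fun u v => by
    conv_lhs => rw [hexp u, hexp v]
    rw [herm_three hF]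
    simp only [gal, gar, gsl, gsr, g01, g02, g10, g12, g20, g21, g11, g22]
    ring
  refine ⟨g (e 0) (e 0), fun h0 => ?_, hg⟩
  obtain ⟨⟨z, hz⟩, -⟩ := hf.nondegenerate ((P : Matrix (Fin 3) (Fin 3) F) *ᵥ e 0) fun h => by
    have := congrArg (((P⁻¹ : GL (Fin 3) F) : Matrix (Fin 3) (Fin 3) F) *ᵥ ·) h
    simp only [inv_mulVec_mulVec, Matrix.mulVec_zero] at this
    simpa [e] using congrFun this 0
  refine hz ?_
  have := hg (((P⁻¹ : GL (Fin 3) F) : Matrix (Fin 3) (Fin 3) F) *ᵥ z) (e 0)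
  simp only [g, mulVec_mulVec_inv] at this
  rw [this, show Cfsg.hermForm 3 F q ((P : Matrix (Fin 3) (Fin 3) F) *ᵥ e 0)
    ((P : Matrix (Fin 3) (Fin 3) F) *ᵥ e 0) = 0 from h0, zero_mul]

/-- Clause seven: normalisers of extraspecial groups of order `27`. -/
theorem symp_maximal (hq : 3 ≤ q) :
    ∀ (p : ℕ) (R : Subgroup (Matrix.GeneralLinearGroup (Fin 3) F)), p.Prime → q = p → p % 3 = 2 → 11 ≤ p →
      Cfsg.Geo.IsSymplecticTypeGroup 3 R → Cfsg.Geo.ActsAbsolutelyIrreducibly (Cfsg.Geo.matrixSet R) →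
      R ≤ Cfsg.Geo.similarityGroup (Cfsg.hermForm 3 F q) → Nat.card R = 27 →
      Nat.card (Subgroup.center R) = 3 →
      Cfsg.Geo.IsMaximalIn (Cfsg.GU 3 F q ⊓ Cfsg.Geo.specialLinear (Fin 3) F)
        (Cfsg.Geo.subgroupNormalizer R ⊓ (Cfsg.GU 3 F q ⊓ Cfsg.Geo.specialLinear (Fin 3) F)) := by
  intro p R hp hqp h1 h11 hS hA hsim _ _
  have hf := isUnitaryForm_hermForm hF 3
  have hc : CharP F p := by
    obtain ⟨r, hr⟩ := CharP.exists F
    obtain ⟨n, hrp, hn⟩ := FiniteField.card F r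
    have h : r ∣ p ^ 2 := by rw [← hqp, ← hF, hn]; exact dvd_pow_self r n.pos.ne'
    exact (Nat.prime_dvd_prime_iff_eq hrp hp).1 (hrp.dvd_of_dvd_pow h) ▸ hr
  have hsmall : ∀ n : ℕ, 0 < n → n < p → ((n : ℕ) : F) ≠ 0 := fun n hn hnp h =>
    absurd (Nat.le_of_dvd hn ((CharP.cast_eq_zero_iff F p n).1 h)) (by omega)
  obtain ⟨w, hw, P, hP⟩ := exists_heis_of hS hA (by simpa using hsmall 2 (by omega) (by omega))
    (by simpa using hsmall 3 (by omega) (by omega))
  have hσ : qConj hF w = w * w := by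
    rw [qConj_apply hF, hqp, ← Nat.div_add_mod p 3, pow_add, pow_mul, hw.pow_three, one_pow, one_mul, h1, pow_two]
  obtain ⟨δ, hδ0, hδ⟩ := form_coord hF hp hqp h1 hsim hP hσ
  set G := Cfsg.GU 3 F q ⊓ Cfsg.Geo.specialLinear (Fin 3) F with hG
  have hmem : ∀ g, g ∈ heis hw ↔ P * g * P⁻¹ ∈ R := fun g => by
    rw [hP, show P⁻¹ * (P * g * P⁻¹) * P = g by group]
  have hnorm : ∀ n, n ∈ Subgroup.normalizer (heis hw : Set (GL (Fin 3) F)) ↔
      P * n * P⁻¹ ∈ Cfsg.Geo.subgroupNormalizer R := by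
    intro n
    simp only [Cfsg.Geo.subgroupNormalizer, Subgroup.mem_normalizer_iff]
    constructor
    · intro h x
      have := h (P⁻¹ * x * P)
      rw [hmem, hmem, show P * (P⁻¹ * x * P) * P⁻¹ = x by group,
        show P * (n * (P⁻¹ * x * P) * n⁻¹) * P⁻¹ = P * n * P⁻¹ * x * (P * n * P⁻¹)⁻¹ by group] at this
      exact this
    · intro h x
      have := h (P * x * P⁻¹)
      rw [hmem, hmem, show P * (n * x * n⁻¹) * P⁻¹ = P * n * P⁻¹ * (P * x * P⁻¹) * (P * n * P⁻¹)⁻¹ by group]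
      exact this
  have hconj : ∀ g : GL (Fin 3) F, P * g * P⁻¹ ∈ G ↔ g ∈ G := by
    intro g
    refine and_congr ?_ conj_mem_sl
    constructor
    · intro h
      refine mem_gu_of_form fun u v => mul_left_cancel₀ hδ0 ?_
      have e : ∀ a b, Cfsg.hermForm 3 F q ((P * g * P⁻¹ : GL (Fin 3) F).1 *ᵥ a)
          ((P * g * P⁻¹ : GL (Fin 3) F).1 *ᵥ b) = Cfsg.hermForm 3 F q a b := h
      have e' := e ((P : Matrix (Fin 3) (Fin 3) F) *ᵥ u) ((P : Matrix (Fin 3) (Fin 3) F) *ᵥ v)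
      rw [Matrix.mulVec_mulVec, Matrix.mulVec_mulVec, ← Units.val_mul, inv_mul_cancel_right, Units.val_mul,
        ← Matrix.mulVec_mulVec, ← Matrix.mulVec_mulVec, hδ, hδ] at e'
      exact e'
    · intro h
      refine mem_gu_of_form fun a b => ?_
      have e : ∀ u v, Cfsg.hermForm 3 F q (g.1 *ᵥ u) (g.1 *ᵥ v) = Cfsg.hermForm 3 F q u v := h
      rw [Units.val_mul, Units.val_mul, ← Matrix.mulVec_mulVec, ← Matrix.mulVec_mulVec, ← Matrix.mulVec_mulVec,
        ← Matrix.mulVec_mulVec, hδ, e, ← hδ, mulVec_mulVec_inv, mulVec_mulVec_inv]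
  refine isMaximalIn_of_lt (lt_of_le_of_ne inf_le_right fun he => ?_) fun M hHM hMK g hg hgH => ?_
  · -- a torus element does not normalise
    obtain ⟨a, ha1, ha3⟩ := exists_norm_one hF (by omega : 4 ≤ q)
    have ha0 : a ≠ 0 := fun h => by rw [h, zero_mul] at ha1; exact zero_ne_one ha1
    let t : GL (Fin 3) F := ⟨!![a, 0, 0; 0, a⁻¹, 0; 0, 0, 1], !![a⁻¹, 0, 0; 0, a, 0; 0, 0, 1],
      by ext i j; fin_cases i <;> fin_cases j <;> simp [Matrix.mul_apply, Fin.sum_univ_three, ha0],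
      by ext i j; fin_cases i <;> fin_cases j <;> simp [Matrix.mul_apply, Fin.sum_univ_three, ha0]⟩
    have htG : t ∈ G := by
      refine ⟨mem_gu_of_form fun u v => ?_, mem_sl.2 ?_⟩
      · show Cfsg.hermForm 3 F q (!![a, 0, 0; 0, a⁻¹, 0; 0, 0, 1] *ᵥ u)
          (!![a, 0, 0; 0, a⁻¹, 0; 0, 0, 1] *ᵥ v) = _
        have hσa : qConj hF a = a⁻¹ := eq_inv_of_mul_eq_one_right ha1
        rw [herm_three hF, herm_three hF]
        simp only [Matrix.mulVec, dotProduct, Fin.sum_univ_three, of_apply, cons_val, zero_mul, one_mul,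
          add_zero, zero_add, map_mul, map_inv₀, hσa, inv_inv]
        field_simp
      · show (!![a, 0, 0; 0, a⁻¹, 0; 0, 0, 1] : Matrix (Fin 3) (Fin 3) F).det = 1
        rw [Matrix.det_fin_three]; simp [ha0]
    have htN : t ∈ Subgroup.normalizer (heis hw : Set (GL (Fin 3) F)) := by
      rw [hnorm]
      have hm : P * t * P⁻¹ ∈ G := (hconj t).2 htG
      rw [← he] at hm
      exact hm.1
    obtain ⟨⟨-, ⟨k, hk⟩⟩, -⟩ := (Subgroup.mem_normalizer_iff.1 htN shG).1 (shG_mem hw)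
    set X := t * shG * t⁻¹ with hX
    have hXv : (X : Matrix (Fin 3) (Fin 3) F) = !![0, 0, a; a⁻¹ * a⁻¹, 0, 0; 0, a, 0] := by
      show !![a, 0, 0; 0, a⁻¹, 0; 0, 0, 1] * ((shG : GL (Fin 3) F) : Matrix (Fin 3) (Fin 3) F) *
        !![a⁻¹, 0, 0; 0, a, 0; 0, 0, 1] = _
      rw [coe_shG]
      ext i j
      fin_cases i <;> fin_cases j <;> simp [Matrix.mul_apply, Fin.sum_univ_three]
    have hc' : (X : Matrix (Fin 3) (Fin 3) F) * ((shG : GL (Fin 3) F) : Matrix (Fin 3) (Fin 3) F) =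
        k • (((shG : GL (Fin 3) F) : Matrix (Fin 3) (Fin 3) F) * (X : Matrix (Fin 3) (Fin 3) F)) := by
      rw [← Matrix.smul_mul, ← hk, ← Units.val_mul, ← Units.val_mul, inv_mul_cancel_right]
    rw [hXv, coe_shG] at hc'
    have e1 := congrFun (congrFun hc' 0) 1
    have e2 := congrFun (congrFun hc' 1) 2
    simp [Matrix.mul_apply, Fin.sum_univ_three] at e1 e2
    refine ha3 ?_
    have hk1 : k = 1 := mul_right_cancel₀ ha0 (by rw [one_mul]; first | exact e1 | exact e1.symm)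
    rw [hk1, one_mul] at e2
    field_simp at e2
    linear_combination -e2
  · have hRG : ∀ x ∈ heis hw, x ∈ G → P * x * P⁻¹ ∈ M := fun x hx hxG => hHM
      ⟨Subgroup.le_normalizer ((hmem x).1 hx), (hconj x).2 hxG⟩
    have hheis : heis hw ≤ G := by
      intro x hx
      refine ⟨mem_gu_of_form fun u v => mul_left_cancel₀ hδ0 ?_, hx.2⟩
      have hy : P * x * P⁻¹ ∈ R := (hmem x).1 hx
      obtain ⟨c, hc'⟩ := hsim hy
      have e := hc' ((P : Matrix (Fin 3) (Fin 3) F) *ᵥ u) ((P : Matrix (Fin 3) (Fin 3) F) *ᵥ v)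
      rw [Matrix.mulVec_mulVec, Matrix.mulVec_mulVec, ← Units.val_mul, inv_mul_cancel_right, Units.val_mul,
        ← Matrix.mulVec_mulVec, ← Matrix.mulVec_mulVec, hδ, hδ] at e
      rw [e]
      have hy3 : (P * x * P⁻¹) ^ 3 = 1 := by
        have h := Monoid.pow_exponent_eq_one (⟨_, hy⟩ : R)
        rw [hS.exponent_eq, show 3 * Nat.gcd 2 3 = 3 from rfl] at h
        exact congrArg Subtype.val h
      rw [mult_eq_one hF hqp h1 hy3 hc', one_mul]
    have hM' : pull P M ≤ G := fun x hx => (hconj x).1 (hMK hx)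
    have hO : Over hw (pull P M) :=
      ⟨fun x hx => (hM' hx).2, fun x hx => hRG x hx (hheis hx),
        hHM ⟨(hnorm _).1 (q1G_normalizes hw), (hconj _).2 ⟨q1G_mem_gu hF hσ, q1G_mem_sl hw⟩⟩,
        hHM ⟨(hnorm _).1 (q2G_normalizes hw), (hconj _).2 ⟨q2G_mem_gu hF hσ, q2G_mem_sl hw⟩⟩⟩
    by_cases hT : NoTv (pull P M)
    · exfalso
      have hg' : P⁻¹ * g * P ∈ pull P M := by
        rw [mem_pull, show P * (P⁻¹ * g * P) * P⁻¹ = g by group]; exact hg
      have := (hnorm _).1 (hO.le_normalizer_of_noTv hT hp hc (by omega) hg')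
      rw [show P * (P⁻¹ * g * P) * P⁻¹ = g by group] at this
      exact hgH ⟨this, hMK hg⟩
    · intro x hx
      have hx' : P⁻¹ * x * P ∈ G :=
        (hconj _).1 (by rw [show P * (P⁻¹ * x * P) * P⁻¹ = x by group]; exact hx)
      have := su_le_of_heis (hw := hw) hF hp hqp hc hq hM' hO.d_mem hO.sh_mem hT hx'
      rw [mem_pull, show P * (P⁻¹ * x * P) * P⁻¹ = x by group] at this
      exact this

end CfsgLib.MaxSub.SuThree
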