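import Cfsg.Agent.Lib.MaxSub.HermPerp

/-!
Three-dimensional unitary spaces: three independent points with full transvection groups generate the special
unitary group; transvection parameters at one point and their multipliers.
-/

set_option autoImplicit false
set_option linter.unusedSectionVars false

namespace CfsgLib.MaxSub.SuThree

open Matrix CfsgLib.MaxSub
open scoped MatrixGroups

variable {F : Type*} [Field F] [Fintype F] {q : ℕ} (hF : Fintype.card F = q ^ 2)
include hF

/-- elements of a subgroup of the unitary group preserve the form -/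
theorem isometry_of_mem {M : Subgroup (GL (Fin 3) F)}
    (hMG : M ≤ Cfsg.GU 3 F q ⊓ Cfsg.Geo.specialLinear (Fin 3) F) {g : GL (Fin 3) F} (hg : g ∈ M)
    (x y : Fin 3 → F) :
    Cfsg.hermForm 3 F q ((g : Matrix (Fin 3) (Fin 3) F) *ᵥ x) ((g : Matrix (Fin 3) (Fin 3) F) *ᵥ y) =
      Cfsg.hermForm 3 F q x y := (hMG hg).1 x y

/-- in dimension three a subgroup with all transvection groups contains the special unitary group -/
theorem su_le_of_uFull (hq : 3 ≤ q) {M : Subgroup (GL (Fin 3) F)}
    (h : ∀ v, Cfsg.hermForm 3 F q v v = 0 → UFull (qConj hF) (Cfsg.hermForm 3 F q) M v) :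
    Cfsg.GU 3 F q ⊓ Cfsg.Geo.specialLinear (Fin 3) F ≤ M := by
  classical
  have hf := isUnitaryForm_hermForm hF 3
  let toGL : ↥(Cfsg.SU 3 F q) →* GL (Fin 3) F :=
    (Matrix.SpecialLinearGroup.toGL).comp (Cfsg.SU 3 F q).subtype
  have htop : M.comap toGL = ⊤ := by
    rw [eq_top_iff, ← CfsgLib.Classical.closure_transvections_eq_top hF (n := 3) le_rfl (by omega),
      Subgroup.closure_le]
    rintro A ⟨v, c, hv, hA⟩
    rw [SetLike.mem_coe, Subgroup.mem_comap]
    have hmat : ((toGL A : GL (Fin 3) F) : Matrix (Fin 3) (Fin 3) F) =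
        tvMat v (c • hDual (Cfsg.hermForm 3 F q) v) := by
      show ((A : Matrix.SpecialLinearGroup (Fin 3) F) : Matrix (Fin 3) (Fin 3) F) = _
      refine Matrix.ext_of_mulVec_single fun i => ?_
      rw [hA, uTv_mulVec hf, Cfsg.unitaryTransvection, add_mulVec, one_mulVec, smul_mulVec,
        vecMulVec_mulVec]
      congr 1
      funext k
      simp [Cfsg.hermForm, dotProduct, mul_comm, mul_left_comm]
    rcases eq_or_ne v 0 with rfl | hv0
    · have : toGL A = 1 := Units.ext (by rw [hmat]; exact tvMat_zero_left _)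
      rw [this]; exact one_mem M
    have hc : c + qConj hF c = 0 := by
      obtain ⟨⟨z, hz⟩, -⟩ := hf.nondegenerate v hv0
      have hp := A.2 z z
      have hg : ∀ x, Cfsg.slToMat 3 F (A : Matrix.SpecialLinearGroup (Fin 3) F) *ᵥ x =
          x + (c * Cfsg.hermForm 3 F q x v) • v := fun x => by
        rw [← uTv_mulVec hf, ← hmat]; rfl
      rw [hg, hf.add_left, hf.smul_left, herm_add_right hf, herm_add_right hf, herm_smul_right hf,
        herm_smul_right hf, hv, map_mul, ← hf.herm v z] at hp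
      have hvz : Cfsg.hermForm 3 F q v z ≠ 0 := fun e => hz (herm_eq_zero_comm hf e)
      refine (mul_eq_zero.1 ?_).resolve_right (mul_ne_zero hz hvz)
      linear_combination hp
    obtain ⟨-, g, hg, hgv⟩ := (h v hv).2 c hc
    rwa [show toGL A = g from Units.ext (hmat.trans hgv.symm)]
  rintro g ⟨hg, hgS⟩
  have hd : (g : Matrix (Fin 3) (Fin 3) F).det = 1 := by
    have : Matrix.GeneralLinearGroup.det g = 1 := hgS
    simpa using congrArg Units.val this
  have := (Subgroup.eq_top_iff' _).1 htop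
    ⟨⟨(g : Matrix (Fin 3) (Fin 3) F), hd⟩, fun u v => hg u v⟩
  rw [Subgroup.mem_comap] at this
  convert this using 1
  exact Units.ext rfl

/-- orthogonal isotropic vectors are proportional in dimension three -/
theorem mem_span_of_iso_orth {x y : Fin 3 → F} (hx0 : x ≠ 0) (hx : Cfsg.hermForm 3 F q x x = 0)
    (hy : Cfsg.hermForm 3 F q y y = 0) (hxy : Cfsg.hermForm 3 F q x y = 0) :
    y ∈ Submodule.span F {x} := by
  have hf := isUnitaryForm_hermForm hF 3
  by_contra hne
  have hind : LinearIndependent F ![x, y] :=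
    (LinearIndependent.pair_iff' hx0).2 fun a ha => hne (Submodule.mem_span_singleton.2 ⟨a, ha⟩)
  obtain ⟨u, hu, huu⟩ := exists_anisotropic hf (U := Submodule.span F (Set.range ![x, y])) (by
    rw [finrank_span_eq_card hind]; simp)
  rw [Matrix.range_cons_cons_empty, Submodule.mem_span_pair] at hu
  obtain ⟨a, b, rfl⟩ := hu
  apply huu
  simp only [hf.add_left, hf.smul_left, herm_add_right hf, herm_smul_right hf, hx, hy, hxy,
    herm_eq_zero_comm hf hxy, mul_zero, add_zero]

/-- three independent full points give the whole group -/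
theorem su_le_of_three (hq : 3 ≤ q) {M : Subgroup (GL (Fin 3) F)} {p r x : Fin 3 → F}
    (hp : UFull (qConj hF) (Cfsg.hermForm 3 F q) M p) (hr : UFull (qConj hF) (Cfsg.hermForm 3 F q) M r)
    (hx : UFull (qConj hF) (Cfsg.hermForm 3 F q) M x) (hind : LinearIndependent F ![p, r, x]) :
    Cfsg.GU 3 F q ⊓ Cfsg.Geo.specialLinear (Fin 3) F ≤ M := by
  classical
  have hf := isUnitaryForm_hermForm hF 3
  set σ := qConj hF with hσdef
  set f := Cfsg.hermForm 3 F q with hfdef
  have hp0 : p ≠ 0 := hind.ne_zero 0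
  have hpr : f p r ≠ 0 := fun e => by
    have := mem_span_of_iso_orth hF hp0 hp.1 hr.1 e
    obtain ⟨c, hc⟩ := Submodule.mem_span_singleton.1 this
    have := Fintype.linearIndependent_iff.1 hind ![c, -1, 0] (by
      simp [Fin.sum_univ_three, ← hc]) 1
    simp at this
  -- normalise `r`
  obtain ⟨κ, hκ⟩ : ∃ κ : F, κ = σ (f p r)⁻¹ := ⟨_, rfl⟩
  have hκ0 : κ ≠ 0 := by rw [hκ]; exact (map_ne_zero σ).2 (inv_ne_zero hpr)
  obtain ⟨r', hr'e⟩ : ∃ r', r' = κ • r := ⟨_, rfl⟩
  have hr' : UFull σ f M r' := hr'e ▸ hr.smul hf κ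
  have hpr' : f p r' = 1 := by
    rw [hr'e, herm_smul_right hf, hκ, hf.involutive, inv_mul_cancel₀ hpr]
  have hr'p : f r' p = 1 := by rw [hf.herm, hpr', map_one]
  obtain ⟨a, hae⟩ : ∃ a, a = x + (-f x r') • p + (-f x p) • r' := ⟨_, rfl⟩
  have hap : f a p = 0 := by
    rw [hae, hf.add_left, hf.add_left, hf.smul_left, hf.smul_left, hp.1, hr'p]; ring
  have har : f a r' = 0 := by
    rw [hae, hf.add_left, hf.add_left, hf.smul_left, hf.smul_left, hr'.1, hpr']; ring
  have hpa := herm_eq_zero_comm hf hap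
  have hra := herm_eq_zero_comm hf har
  have ha0 : a ≠ 0 := fun e => by
    have := Fintype.linearIndependent_iff.1 hind ![-f x r', -f x p * κ, 1] (by
      rw [hae, hr'e, smul_smul] at e
      simp [Fin.sum_univ_three, ← e, hr'e]; abel) 2
    simp at this
  have hind' : LinearIndependent F ![p, r', a] := by
    refine Fintype.linearIndependent_iff.2 fun c hc => ?_
    simp only [Fin.sum_univ_three, cons_val] at hc
    have h1 := congrArg (fun v => f v r') hc
    have h0 := congrArg (fun v => f v p) hc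
    simp only [hf.add_left, hf.smul_left, herm_zero_left hf, hp.1, hr'.1, hpr', hr'p, hap, har] at h0 h1
    have c0 : c 0 = 0 := by linear_combination h1
    have c1 : c 1 = 0 := by linear_combination h0
    have c2 : c 2 = 0 := by
      rw [c0, c1, zero_smul, zero_smul, zero_add, zero_add, smul_eq_zero] at hc
      exact hc.resolve_right ha0
    intro i; fin_cases i <;> assumption
  have hexp : ∀ v, ∃ α β γ : F, v = α • p + β • r' + γ • a := fun v => by
    have := hind'.span_eq_top_of_card_eq_finrank' (by simp)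
    have hv : v ∈ Submodule.span F (Set.range ![p, r', a]) := by rw [this]; trivial
    obtain ⟨c, rfl⟩ := (Submodule.mem_span_range_iff_exists_fun F).1 hv
    exact ⟨c 0, c 1, c 2, by simp [Fin.sum_univ_three]⟩
  -- value of the form
  have hval : ∀ α β γ : F, f (α • p + β • r' + γ • a) (α • p + β • r' + γ • a) =
      α * σ β + β * σ α + γ * σ γ * f a a := fun α β γ => by
    simp only [hf.add_left, hf.smul_left, herm_add_right hf, herm_smul_right hf, hp.1, hr'.1, hpr', hr'p,
      hap, har, hpa, hra]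
    ring
  obtain ⟨ε, hεe⟩ : ∃ ε, ε = f a a := ⟨_, rfl⟩
  have hε0 : ε ≠ 0 := fun e => by
    obtain ⟨c, hc⟩ := Submodule.mem_span_singleton.1
      (mem_span_of_iso_orth hF hp0 hp.1 (hεe.symm.trans e) hpa)
    have := Fintype.linearIndependent_iff.1 hind' ![c, 0, -1] (by simp [Fin.sum_univ_three, ← hc]) 2
    simp at this
  have hσε : σ ε = ε := hεe ▸ herm_self_fixed hf a
  let P : F → F → Prop := fun α β => UFull σ f M (α • p + β • r' + (1 : F) • a)
  have hrel : ∀ {α β : F}, P α β → α * σ β + β * σ α = -ε := fun {α β} h => by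
    have := h.1
    rw [hval, map_one, ← hεe] at this
    linear_combination this
  have hne : ∀ {α β : F}, α * σ β + β * σ α = -ε → α ≠ 0 ∧ β ≠ 0 := fun {α β} h => by
    constructor <;> rintro rfl <;> rw [map_zero] at h <;>
      exact hε0 (by linear_combination h)
  have hdd : ∀ v, UFull σ f M v → ∀ c : F, c + σ c = 0 → ∀ u, UFull σ f M u →
      UFull σ f M (u + (c * f u v) • v) := fun v hv c hc u hu => by
    obtain ⟨-, g, hg, hgv⟩ := hv.2 c hc
    have := hu.conj hf hg (fun s t => by rw [hgv]; exact uTv_isometry hf hv.1 hc s t)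
    rwa [hgv, uTv_mulVec hf] at this
  have movα : ∀ {α β α' : F}, P α β → α' * σ β + β * σ α' = -ε → P α' β := fun {α β α'} h h' => by
    have hb := (hne (hrel h)).2
    have hc : (α' - α) / β + σ ((α' - α) / β) = 0 := by
      have hσb : σ β ≠ 0 := (map_ne_zero σ).2 hb
      rw [map_div₀, map_sub]
      field_simp
      linear_combination h' - hrel h
    have := hdd p hp _ hc _ h
    simp only [hf.add_left, hf.smul_left, hp.1, hr'p, hap, mul_zero, mul_one, zero_add, add_zero,
      div_mul_cancel₀ _ hb] at this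
    show UFull σ f M _
    convert this using 1
    module
  have movβ : ∀ {α β β' : F}, P α β → α * σ β' + β' * σ α = -ε → P α β' := fun {α β β'} h h' => by
    have ha := (hne (hrel h)).1
    have hc : (β' - β) / α + σ ((β' - β) / α) = 0 := by
      have hσa : σ α ≠ 0 := (map_ne_zero σ).2 ha
      rw [map_div₀, map_sub]
      field_simp
      linear_combination h' - hrel h
    have := hdd r' hr' _ hc _ h
    simp only [hf.add_left, hf.smul_left, hr'.1, hpr', har, mul_zero, mul_one, add_zero,
      div_mul_cancel₀ _ ha] at this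
    show UFull σ f M _
    convert this using 1
    module
  -- two norms with independent arguments have a common solution
  have sol : ∀ β β' : F, σ β * β' - σ β' * β ≠ 0 →
      ∃ A : F, A * σ β + β * σ A = -ε ∧ A * σ β' + β' * σ A = -ε := fun β β' hD => by
    refine ⟨-ε * (β' - β) / (σ β * β' - σ β' * β), ?_, ?_⟩ <;>
    · rw [map_div₀, map_mul, map_neg, map_sub, map_sub, map_mul, map_mul, hf.involutive, hf.involutive, hσε]
      rw [show β * σ β' - β' * σ β = -(σ β * β' - σ β' * β) by ring, div_neg]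
      obtain ⟨D, hDe⟩ : ∃ D, D = σ β * β' - σ β' * β := ⟨_, rfl⟩
      rw [← hDe] at hD ⊢
      field_simp
      linear_combination hDe
  have jump : ∀ {α β α' β' : F}, P α β → σ β * β' - σ β' * β ≠ 0 → α' * σ β' + β' * σ α' = -ε → P α' β' :=
    fun {α β α' β'} h hD h' => by
      obtain ⟨A, hA, hA'⟩ := sol β β' hD
      exact movα (movβ (movα h hA) hA') h'
  obtain ⟨α₀, β₀, γ₀, hxv⟩ := hexp x
  have hγ₀ : γ₀ ≠ 0 := by
    rintro rfl
    rw [zero_smul, add_zero, hr'e, smul_smul] at hxv
    have := Fintype.linearIndependent_iff.1 hind ![α₀, β₀ * κ, -1] (by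
      simp [Fin.sum_univ_three, hxv]; abel) 2
    simp at this
  have hP0 : P (γ₀⁻¹ * α₀) (γ₀⁻¹ * β₀) := by
    have := hx.smul hf γ₀⁻¹
    rw [hxv, smul_add, smul_add, smul_smul, smul_smul, smul_smul, inv_mul_cancel₀ hγ₀] at this
    exact this
  refine su_le_of_uFull hF hq fun v hv => ?_
  obtain ⟨α, β, γ, rfl⟩ := hexp v
  rcases eq_or_ne γ 0 with rfl | hγ
  · rw [zero_smul, add_zero]
    rcases eq_or_ne α 0 with rfl | hα
    · rw [zero_smul, zero_add]; exact hr'.smul hf β
    rcases eq_or_ne β 0 with rfl | hβ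
    · rw [zero_smul, add_zero]; exact hp.smul hf α
    refine (hp.smul hf α).add hf (hr'.smul hf β) ?_ (by simpa using hv)
    rw [hf.smul_left, herm_smul_right hf, hpr', mul_one]
    exact mul_ne_zero hα ((map_ne_zero σ).2 hβ)
  have htar : γ⁻¹ * α * σ (γ⁻¹ * β) + γ⁻¹ * β * σ (γ⁻¹ * α) = -ε := by
    rw [← hfdef, hval, ← hεe] at hv
    have : σ γ ≠ 0 := (map_ne_zero σ).2 hγ
    simp only [map_mul, map_inv₀]
    field_simp
    linear_combination hv
  have hfin : P (γ⁻¹ * α) (γ⁻¹ * β) := by
    obtain ⟨hα1, hβ1⟩ := hne htar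
    obtain ⟨hα2, hβ2⟩ := hne (hrel hP0)
    by_cases hD : σ (γ₀⁻¹ * β₀) * (γ⁻¹ * β) - σ (γ⁻¹ * β) * (γ₀⁻¹ * β₀) ≠ 0
    · exact jump hP0 hD htar
    rw [ne_eq, not_not] at hD
    obtain ⟨θ, hθ⟩ : ∃ θ, σ θ ≠ θ := by
      by_contra hall
      simp only [not_exists, not_not] at hall
      exact hf.ne_refl (RingEquiv.ext hall)
    generalize hb : γ₀⁻¹ * β₀ = b at *
    generalize hb' : γ⁻¹ * β = b' at *
    have hσb : σ b ≠ 0 := (map_ne_zero σ).2 hβ2
    have hD1 : σ b * (θ * b) - σ (θ * b) * b ≠ 0 := fun e =>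
      hθ (mul_left_cancel₀ (mul_ne_zero hσb hβ2) (by rw [map_mul] at e; linear_combination -e))
    have hσb' : σ b' ≠ 0 := (map_ne_zero σ).2 hβ1
    have hD2 : σ (θ * b) * b' - σ b' * (θ * b) ≠ 0 := fun e =>
      hθ (mul_left_cancel₀ (mul_ne_zero hσb hβ1)
        (by rw [map_mul] at e; linear_combination e - θ * hD))
    obtain ⟨A, -, hA⟩ := sol b (θ * b) hD1
    exact jump (jump hP0 hD1 hA) hD2 htar
  have := UFull.smul hf hfin γ
  rwa [smul_add, smul_add, smul_smul, smul_smul, smul_smul, mul_one, ← mul_assoc, ← mul_assoc,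
    mul_inv_cancel₀ hγ, one_mul, one_mul] at this

end CfsgLib.MaxSub.SuThree
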