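import Cfsg.Agent.Lib.MaxSub.SuThree.FrameFull
import Cfsg.Agent.Lib.Solvable.FrobeniusKernel
import Cfsg.Agent.Lib.Complement.FpfNilpotent
import Mathlib.GroupTheory.Perm.Cycle.Type

/-!
No overgroup of the monomial subgroup has a non-monomial element while all elements with a zero entry
are monomial: the stabiliser of a plane through a coordinate point would act as a Frobenius group,
whose abelian normal subgroup cannot exist.
-/

set_option autoImplicit false
set_option linter.unusedSectionVars false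

namespace CfsgLib.MaxSub.SuThree

open Matrix CfsgLib.MaxSub CfsgLib.MaxSub.UFrame CfsgLib.MaxSub.DecompMax
open scoped MatrixGroups

/-- a Frobenius group has an element outside the complement commuting with all its conjugates -/
theorem exists_commuting_conj {K : Type*} [Group K] [Finite K] {C : Subgroup K}
    (hC : Cfsg.IsFrobeniusComplement C) : ∃ a, a ∉ C ∧ ∀ h : K, a * (h * a * h⁻¹) = h * a * h⁻¹ * a := by
  obtain ⟨N, -, hn, hcomp⟩ := CfsgLib.Solvable.exists_frobeniusKernel hC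
  have hCN : ∀ x ∈ N, x ∈ C → x = 1 := fun x hx hx' =>
    Subgroup.disjoint_def.1 hcomp.disjoint hx hx'
  obtain ⟨p, hp, hdvd⟩ := Nat.exists_prime_and_dvd (show Nat.card C ≠ 1 from fun e =>
    hC.1 (Subgroup.eq_bot_of_card_eq C e))
  have : Fact p.Prime := ⟨hp⟩
  obtain ⟨⟨x, hx⟩, hxo⟩ := exists_prime_orderOf_dvd_card' p hdvd
  have hx1 : x ≠ 1 := fun e => by
    subst e
    rw [show (⟨1, hx⟩ : C) = 1 from rfl, orderOf_one] at hxo
    exact hp.one_lt.ne hxo
  have hxp : x ^ p = 1 := by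
    have h := pow_orderOf_eq_one (⟨x, hx⟩ : C)
    rw [hxo] at h
    exact congrArg Subtype.val h
  have hnil : Group.IsNilpotent N := by
    refine CfsgLib.Complement.isNilpotent_of_fpf N (MulAut.conjNormal x) p hp ?_ fun y hy => ?_
    · rw [← map_pow, hxp, map_one]
    · have hy' : x * (y : K) * x⁻¹ = y := congrArg Subtype.val hy
      apply Subtype.ext
      refine hCN y y.2 (CfsgLib.Solvable.frobenius_mem_of_conj_mem hC hx hx1 ?_)
      rwa [show (y : K) * x * (y : K)⁻¹ = x from by rw [← mul_inv_eq_iff_eq_mul.1 hy', mul_inv_cancel_right]]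
  have hNne : N ≠ ⊥ := fun e => hC.2.1 (by
    rw [e] at hcomp
    exact Subgroup.isComplement'_bot_left.1 hcomp)
  have : Nontrivial N := (Subgroup.nontrivial_iff_ne_bot N).2 hNne
  obtain ⟨z, hz, hz1⟩ := (Subgroup.bot_or_exists_ne_one (Subgroup.center N)).resolve_left
    (Group.IsNilpotent.center_ne_bot N)
  refine ⟨z, fun hzC => hz1 (Subtype.ext (hCN z z.2 hzC)), fun h => ?_⟩
  have hc : h * (z : K) * h⁻¹ ∈ N := hn.conj_mem _ z.2 h
  exact congrArg Subtype.val (Subgroup.mem_center_iff.1 hz ⟨_, hc⟩).symm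

variable {F : Type*} [Field F] [Fintype F] [DecidableEq F] {q : ℕ} (hF : Fintype.card F = q ^ 2)
  {M : Subgroup (GL (Fin 3) F)}
include hF

/-- the final contradiction -/
theorem frame_absurd (hq : 3 ≤ q) (h5 : q ≠ 5) (st : Over hF M) (hfull : ∀ x ∈ M, ∀ a b : Fin 3,
      (x : Matrix (Fin 3) (Fin 3) F) a b = 0 → IsMono3 x)
    {g₀ : GL (Fin 3) F} (hg₀ : g₀ ∈ M) (hgm₀ : ¬ IsMono3 g₀) : False := by
  classical
  have hf := isUnitaryForm_hermForm hF 3
  obtain ⟨g, hg, hgm, i, k, hik⟩ := exists_norm_ne hF hq st hfull hg₀ hgm₀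
  obtain ⟨j, l, hjl, hji, hli⟩ := exists_others i
  have hs : ∀ f : Fin 3 → F, ∑ m, f m = f j + f l + f i := sum_three hjl hji hli
  obtain ⟨f, hfd⟩ : ∃ f, f = Cfsg.hermForm 3 F q := ⟨_, rfl⟩
  obtain ⟨w, hw⟩ : ∃ w : Fin 3 → F, w = fun m => (g : Matrix (Fin 3) (Fin 3) F) m k := ⟨_, rfl⟩
  have hw0 : ∀ m, w m ≠ 0 := fun m e => hgm (hfull g hg m k (by rw [hw] at e; exact e))
  obtain ⟨α, hα⟩ : ∃ α, α = w i := ⟨_, rfl⟩
  have hww : f w w = 1 := by
    have h := st.cols hF hg k k
    rw [if_pos rfl] at h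
    rw [hfd, f_apply hF, hw]; exact h
  obtain ⟨e, he⟩ : ∃ e : Fin 3 → F, e = Pi.single i 1 := ⟨_, rfl⟩
  have hfe : ∀ v, f v e = v i := fun v => by rw [hfd, he, f_single_right hF, map_one, mul_one]
  have hee : f e e = 1 := by rw [hfe, he, Pi.single_eq_same]
  obtain ⟨u, hu⟩ : ∃ u, u = w + (-α) • e := ⟨_, rfl⟩
  have hui : u i = 0 := by rw [hu, hα, he]; simp
  have huj : u j = w j := by rw [hu, he]; simp [hji]
  have hul : u l = w l := by rw [hu, he]; simp [hli]
  have hue : f u e = 0 := (hfe u).trans hui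
  have heu : f e u = 0 := by rw [hfd] at hue ⊢; exact herm_eq_zero_comm hf hue
  have hwu : w = α • e + u := by rw [hu]; module
  obtain ⟨β, hβ⟩ : ∃ β, β = f u u := ⟨_, rfl⟩
  have hαβ : α * qConj hF α + β = 1 := by
    rw [← hww, hwu, hfd]
    simp only [hf.add_left, hf.smul_left, herm_add_right hf, herm_smul_right hf]
    rw [← hfd, hee, heu, hue, ← hβ]
    ring
  have hβ0 : β ≠ 0 := fun e0 => hik (by rw [e0, add_zero, hα, hw] at hαβ; exact hαβ)
  have hu0 : u ≠ 0 := fun e0 => hw0 j (by rw [← huj, e0]; rfl)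
  -- the pole
  obtain ⟨c, hc⟩ : ∃ c : Fin 3 → F,
      c = Pi.single j (qConj hF (w l)) + Pi.single l (-qConj hF (w j)) := ⟨_, rfl⟩
  have hcj : c j = qConj hF (w l) := by rw [hc]; simp [hjl]
  have hcl : c l = -qConj hF (w j) := by rw [hc]; simp [hjl.symm]
  have hci : c i = 0 := by rw [hc]; simp [hji.symm, hli.symm]
  have hec : f e c = 0 := by
    rw [hfd, he, f_single_left hF, hci, map_zero, mul_zero]
  have huc : f u c = 0 := by
    rw [hfd, f_apply hF, hs, hui, huj, hul, hcj, hcl, map_neg, qConj_qConj, qConj_qConj]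
    ring
  have hc0 : c ≠ 0 := fun e0 => hw0 l ((map_eq_zero (qConj hF)).1 (by rw [← hcj, e0]; rfl))
  have hL : ∀ v, f v c = 0 → ∃ p s : F, v = p • e + s • u := by
    intro v hv
    refine ⟨v i, v j / w j, funext fun m => ?_⟩
    rw [hfd, f_apply hF, hs, hci, hcj, hcl, map_neg, qConj_qConj, qConj_qConj, map_zero, mul_zero, add_zero] at hv
    rcases three_cases hjl hji hli m with rfl | rfl | rfl
    · simp [he, huj, hji, div_mul_cancel₀ _ (hw0 m)]
    · simp [he, hul, hli]
      have := hw0 j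
      field_simp
      linear_combination -hv
    · simp [he, hui]
  have hcoef : ∀ {a b a' b' : F}, a • e + b • u = a' • e + b' • u → a = a' ∧ b = b' := by
    intro a b a' b' h
    have h1 := congrFun h i
    have h2 := congrFun h j
    simp [he, hui, huj, hji] at h1 h2
    exact ⟨h1, h2.resolve_right (hw0 j)⟩
  -- the stabiliser of the pole
  obtain ⟨K0, hK0⟩ : ∃ K0 : Subgroup (GL (Fin 3) F),
      K0 = M ⊓ Cfsg.Geo.subspaceStabilizer (Submodule.span F {c}) := ⟨_, rfl⟩
  have hK0M : ∀ x ∈ K0, x ∈ M := fun x hx => by rw [hK0] at hx; exact hx.1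
  have hpres : ∀ x ∈ K0, ∀ v, f v c = 0 → f ((x : Matrix (Fin 3) (Fin 3) F) *ᵥ v) c = 0 := by
    intro x hx v hv
    have hx' := (Subgroup.inv_mem _ hx)
    rw [hK0] at hx'
    obtain ⟨t, ht⟩ := Submodule.mem_span_singleton.1
      (maps_of_mem_subspaceStabilizer hx'.2 (Submodule.mem_span_singleton_self c))
    have h := isometry_of_mem hF st.le (hK0M x hx) v (((x⁻¹ : GL (Fin 3) F) : Matrix (Fin 3) (Fin 3) F) *ᵥ c)
    rw [mulVec_mulVec_inv, ← ht, herm_smul_right hf] at h
    rw [hfd] at hv ⊢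
    rw [h, hv, mul_zero]
  have hmem0 : ∀ x ∈ M, ∀ t : F, (x : Matrix (Fin 3) (Fin 3) F) *ᵥ c = t • c → x ∈ K0 := by
    intro x hx t ht
    rw [hK0]
    refine ⟨hx, mem_subspaceStabilizer_of_maps fun v hv => ?_⟩
    obtain ⟨r, rfl⟩ := Submodule.mem_span_singleton.1 hv
    rw [mulVec_smul, ht, smul_smul]
    exact Submodule.smul_mem _ _ (Submodule.mem_span_singleton_self c)
  -- eigenvalue at `u`
  have hCu : ∀ x ∈ K0, ∀ ν : F, (x : Matrix (Fin 3) (Fin 3) F) *ᵥ e = ν • e →
      ∃ μ : F, (x : Matrix (Fin 3) (Fin 3) F) *ᵥ u = μ • u := by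
    intro x hx ν hν
    obtain ⟨r, t, hrt⟩ := hL _ (hpres x hx u huc)
    refine ⟨t, ?_⟩
    have h := isometry_of_mem hF st.le (hK0M x hx) u e
    rw [hrt, hν, ← hfd, hue] at h
    rw [hfd, hf.add_left, hf.smul_left, hf.smul_left, herm_smul_right hf, herm_smul_right hf] at h
    rw [← hfd, hee, hue, mul_zero, mul_zero, add_zero, mul_one] at h
    have hν0 : qConj hF ν ≠ 0 := by
      intro e0
      have h2 := isometry_of_mem hF st.le (hK0M x hx) e e
      rw [hν, hf.smul_left, herm_smul_right hf, e0, zero_mul, mul_zero, ← hfd, hee] at h2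
      exact zero_ne_one h2
    rw [hrt, (mul_eq_zero.1 h).resolve_right hν0, zero_smul, zero_add]
  let C₀ : Subgroup K0 := (Cfsg.Geo.subspaceStabilizer (Submodule.span F {e})).subgroupOf K0
  have hC₀ : ∀ x : K0, x ∈ C₀ ↔ ∃ ν : F, ((x : GL (Fin 3) F) : Matrix (Fin 3) (Fin 3) F) *ᵥ e = ν • e := by
    intro x
    refine ⟨fun h => ?_, fun ⟨ν, hν⟩ => mem_subspaceStabilizer_of_maps fun v hv => ?_⟩
    · obtain ⟨t, ht⟩ := Submodule.mem_span_singleton.1
        (maps_of_mem_subspaceStabilizer h (Submodule.mem_span_singleton_self e))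
      exact ⟨t, ht.symm⟩
    · obtain ⟨r, rfl⟩ := Submodule.mem_span_singleton.1 hv
      rw [mulVec_smul, Subgroup.coe_subtype, hν, smul_smul]
      exact Submodule.smul_mem _ _ (Submodule.mem_span_singleton_self e)
  let Z : Subgroup K0 :=
    { carrier := {x | ∃ ν : F, ∀ v, f v c = 0 → ((x : GL (Fin 3) F) : Matrix (Fin 3) (Fin 3) F) *ᵥ v = ν • v}
      one_mem' := ⟨1, fun v _ => by simp⟩
      mul_mem' := by
        rintro x y ⟨ν, hν⟩ ⟨ν', hν'⟩
        refine ⟨ν' * ν, fun v hv => ?_⟩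
        rw [Subgroup.coe_mul, Units.val_mul, ← mulVec_mulVec, hν' v hv, mulVec_smul, hν v hv, smul_smul]
      inv_mem' := by
        rintro x ⟨ν, hν⟩
        refine ⟨ν⁻¹, fun v hv => ?_⟩
        have h := hν _ (hpres _ (Subgroup.inv_mem _ x.2) v hv)
        rw [mulVec_mulVec_inv] at h
        rcases eq_or_ne ν 0 with rfl | h0
        · rw [zero_smul] at h
          rw [h, smul_zero, mulVec_zero]
        · conv_rhs => rw [h, smul_smul, inv_mul_cancel₀ h0, one_smul]
          rfl }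
  have hZn : Z.Normal := ⟨fun z ⟨ν, hν⟩ x => ⟨ν, fun v hv => by
    rw [Subgroup.coe_mul, Subgroup.coe_mul, Units.val_mul, Units.val_mul, ← mulVec_mulVec, ← mulVec_mulVec,
      Subgroup.coe_inv, hν _ (hpres _ (Subgroup.inv_mem _ x.2) v hv), mulVec_smul, mulVec_mulVec_inv]⟩⟩
  have hZC : Z ≤ C₀ := fun x ⟨ν, hν⟩ => (hC₀ x).2 ⟨ν, hν e hec⟩
  have hKC : ∀ x : K0, x ∉ C₀ → ∃ p s : F, p ≠ 0 ∧ s ≠ 0 ∧
      ((x : GL (Fin 3) F) : Matrix (Fin 3) (Fin 3) F) *ᵥ e = p • e + s • u := by
    intro x hx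
    obtain ⟨p, s, hps⟩ := hL _ (hpres x x.2 e hec)
    have hs0 : s ≠ 0 := fun e0 => hx ((hC₀ x).2 ⟨p, by rw [hps, e0, zero_smul, add_zero]⟩)
    refine ⟨p, s, fun e0 => ?_, hs0, hps⟩
    rw [e0, zero_smul, zero_add, he, mulVec_single_one] at hps
    have h0 : ((x : GL (Fin 3) F) : Matrix (Fin 3) (Fin 3) F) i i = 0 := by
      have := congrFun hps i
      simpa [hui] using this
    obtain ⟨b, hb⟩ := (hfull x (hK0M x x.2) i i h0).single i
    have hj' := congrFun hps j
    have hl' := congrFun hps l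
    rw [Pi.smul_apply, huj, smul_eq_mul] at hj'
    rw [Pi.smul_apply, hul, smul_eq_mul] at hl'
    by_cases hjb : j = b
    · exact mul_ne_zero hs0 (hw0 l) (hl'.symm.trans (hb l (hjb ▸ hjl.symm)))
    · exact mul_ne_zero hs0 (hw0 j) (hj'.symm.trans (hb j hjb))
  -- the quotient
  let π : K0 →* K0 ⧸ Z := QuotientGroup.mk' Z
  let C : Subgroup (K0 ⧸ Z) := C₀.map π
  have hmemC : ∀ x : K0, π x ∈ C ↔ x ∈ C₀ := by
    refine fun x => ⟨fun h => ?_, fun h => ⟨x, h, rfl⟩⟩
    obtain ⟨y, hy, hyx⟩ := h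
    obtain ⟨z, hz, rfl⟩ := (QuotientGroup.mk'_eq_mk' Z).1 hyx
    exact mul_mem hy (hZC hz)
  obtain ⟨μ, hμ, hμ1, hμ2⟩ := exists_circ_cube hF hq h5
  -- diagonal elements
  have hdiag : ∀ μ ∈ circ hF, ∃ h : K0, h ∈ C₀ ∧
      ((h : GL (Fin 3) F) : Matrix (Fin 3) (Fin 3) F) *ᵥ e = (μ * μ)⁻¹ • e ∧
      ((h : GL (Fin 3) F) : Matrix (Fin 3) (Fin 3) F) *ᵥ u = μ • u := by
    intro μ hμ
    have hμ0 := circ_ne_zero hF hμ
    obtain ⟨d, hd⟩ : ∃ d : Fin 3 → F, d = fun m => if m = i then (μ * μ)⁻¹ else μ := ⟨_, rfl⟩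
    obtain ⟨h, hh, hhe⟩ := st.diag_mem hF d (fun m => by
      rw [hd]; simp only; split_ifs
      · exact inv_mem_circ hF (mul_mem_circ hF hμ hμ)
      · exact hμ) (by
      have huniv : (Finset.univ : Finset (Fin 3)) = {j, l, i} :=
        (Finset.eq_univ_iff_forall.2 fun m => by simpa using three_cases hjl hji hli m).symm
      rw [huniv, Finset.prod_insert (by simp [hjl, hji]), Finset.prod_pair hli, hd]
      simp [hji, hli]
      field_simp)
    have hv : ∀ v : Fin 3 → F, v i = 0 → (h : Matrix (Fin 3) (Fin 3) F) *ᵥ v = μ • v := fun v hv => funext fun m => by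
      rw [hhe, mulVec_diagonal, hd, Pi.smul_apply, smul_eq_mul]
      by_cases hm : m = i
      · subst hm; simp [hv]
      · simp [hm]
    have hK := hmem0 h hh μ (hv c hci)
    have hhe' : (h : Matrix (Fin 3) (Fin 3) F) *ᵥ e = (μ * μ)⁻¹ • e := funext fun m => by
      rw [hhe, mulVec_diagonal, hd, Pi.smul_apply, smul_eq_mul, he]
      by_cases hm : m = i
      · subst hm; simp
      · simp [hm]
    exact ⟨⟨h, hK⟩, (hC₀ _).2 ⟨_, hhe'⟩, hhe', hv u hui⟩
  obtain ⟨h, hhC, hhe, hhu⟩ := hdiag μ hμ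
  have hμ0 := circ_ne_zero hF hμ
  have hbot : C ≠ ⊥ := fun e0 => by
    have h1 := (hmemC h).2 hhC
    rw [e0, Subgroup.mem_bot] at h1
    obtain ⟨ν, hν⟩ := (QuotientGroup.eq_one_iff h).1 h1
    have e1 := hν e hec
    have e2 := hν u huc
    rw [hhe] at e1
    rw [hhu] at e2
    have h3 := congrFun e1 i
    simp [he] at h3
    have h4 := congrFun e2 j
    simp [huj, hw0 j] at h4
    rw [← h4] at h3
    field_simp at h3
    exact hμ1 (by linear_combination -h3)
  have htop : C ≠ ⊤ := fun e0 => by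
    obtain ⟨j', l', hjl', hj'k, hl'k⟩ := exists_others k
    obtain ⟨d, hd⟩ : ∃ d : Fin 3 → F, d = fun m => if m = k then (μ * μ)⁻¹ else μ := ⟨_, rfl⟩
    obtain ⟨x, hx, hxe, -⟩ := st.conj_diag hF hg d (fun m => by
      rw [hd]; simp only; split_ifs
      · exact inv_mem_circ hF (mul_mem_circ hF hμ hμ)
      · exact hμ) (by
      have huniv : (Finset.univ : Finset (Fin 3)) = {j', l', k} :=
        (Finset.eq_univ_iff_forall.2 fun m => by simpa using three_cases hjl' hj'k hl'k m).symm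
      rw [huniv, Finset.prod_insert (by simp [hjl', hj'k]), Finset.prod_pair hl'k, hd]
      simp [hj'k, hl'k]
      field_simp)
    obtain ⟨κ, hκ⟩ : ∃ κ, κ = (μ * μ * μ)⁻¹ := ⟨_, rfl⟩
    have hmv : ∀ v, (x : Matrix (Fin 3) (Fin 3) F) *ᵥ v = μ • (v + ((κ - 1) * f v w) • w) := by
      intro v
      funext a
      have hent : ∀ b, (x : Matrix (Fin 3) (Fin 3) F) a b =
          μ * ((if a = b then 1 else 0) + (κ - 1) * (w a * qConj hF (w b))) := by
        intro b
        rw [hxe, ← st.rows hF hg a b, mul_add, Finset.mul_sum, ← sub_eq_iff_eq_add', ← Finset.sum_sub_distrib,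
          Finset.sum_eq_single k (fun m _ hm => by rw [hd]; simp [hm]) (by simp), hd, hw]
        simp only [if_true, hκ]
        field_simp
      rw [mulVec, dotProduct, Finset.sum_congr rfl fun b _ => by rw [hent b], hfd]
      simp only [Pi.smul_apply, Pi.add_apply, smul_eq_mul, f_apply hF, Finset.mul_sum, Finset.sum_mul]
      conv_rhs => rw [mul_add, Finset.mul_sum, show μ * v a = ∑ b, μ * ((if a = b then 1 else 0) * v b) by
        simp, ← Finset.sum_add_distrib]
      exact Finset.sum_congr rfl fun b _ => by ring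
    have hwc : f c w = 0 := by
      rw [hfd, f_apply hF, hs, hci, hcj, hcl]; ring
    have hK := hmem0 x hx μ (by rw [hmv, hwc, mul_zero, zero_smul, add_zero])
    obtain ⟨ν, hν⟩ := (hC₀ ⟨x, hK⟩).1 ((hmemC _).1 (e0 ▸ Subgroup.mem_top _))
    have h1 := congrFun hν j
    simp only [hmv] at h1
    have hew : f e w = qConj hF α := by rw [hfd, he, f_single_left hF, one_mul, hα]
    rw [Pi.smul_apply, Pi.add_apply, Pi.smul_apply, Pi.smul_apply, hew, he, Pi.single_eq_of_ne hji] at h1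
    simp at h1
    rcases h1 with h | h | h
    · exact hμ0 h
    · rcases h with h | h
      · exact hμ1 (by
          rw [hκ, sub_eq_zero, inv_eq_one] at h
          linear_combination h)
      · exact hw0 i (hα ▸ h)
    · exact hw0 j h
  have hfrob : Cfsg.IsFrobeniusComplement C := by
    refine ⟨hbot, htop, fun y hy => ?_⟩
    induction y using QuotientGroup.induction_on with
    | H k =>
      rw [eq_bot_iff]
      intro t ht
      obtain ⟨ht1, ht2⟩ := Subgroup.mem_inf.1 ht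
      induction t using QuotientGroup.induction_on with
      | H x =>
        rw [Subgroup.mem_bot]
        refine (QuotientGroup.eq_one_iff x).2 ?_
        have hx := (hmemC x).1 ht1
        have hk : k ∉ C₀ := fun h => hy ((hmemC k).2 h)
        rw [Subgroup.mem_pointwise_smul_iff_inv_smul_mem] at ht2
        have hx2 : k⁻¹ * x * k ∈ C₀ := (hmemC _).1 (by simpa [π, MulAut.conj_apply] using ht2)
        obtain ⟨ν, hν⟩ := (hC₀ x).1 hx
        obtain ⟨μ', hμ'⟩ := hCu x x.2 ν hν
        obtain ⟨ν', hν'⟩ := (hC₀ _).1 hx2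
        obtain ⟨p, s, hp, hs0, hps⟩ := hKC k hk
        have h1 : ((x : GL (Fin 3) F) : Matrix (Fin 3) (Fin 3) F) *ᵥ (p • e + s • u) = ν' • (p • e + s • u) := by
          rw [← hps, mulVec_mulVec, ← Units.val_mul]
          rw [show (x : GL (Fin 3) F) * k = k * (k⁻¹ * x * k : K0) by
            rw [Subgroup.coe_mul, Subgroup.coe_mul, Subgroup.coe_inv]; group]
          rw [Units.val_mul, ← mulVec_mulVec, hν', mulVec_smul]
        rw [mulVec_add, mulVec_smul, mulVec_smul, hν, hμ', smul_add, smul_smul, smul_smul, smul_smul,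
          smul_smul] at h1
        obtain ⟨e1, e2⟩ := hcoef h1
        have hνμ : ν = μ' := (mul_left_cancel₀ hp (e1.trans (mul_comm _ _))).trans
          (mul_left_cancel₀ hs0 (e2.trans (mul_comm _ _))).symm
        refine ⟨ν, fun v hv => ?_⟩
        obtain ⟨a, b, rfl⟩ := hL v hv
        rw [mulVec_add, mulVec_smul, mulVec_smul, hν, hμ', ← hνμ, smul_add, smul_comm a, smul_comm b]
  obtain ⟨a', ha', hcomm⟩ := exists_commuting_conj hfrob
  induction a' using QuotientGroup.induction_on with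
  | H a =>
    have ha : a ∉ C₀ := fun h => ha' ((hmemC a).2 h)
    obtain ⟨p, s, hp, hs0, hae⟩ := hKC a ha
    obtain ⟨r, t, hau⟩ := hL _ (hpres a a.2 u huc)
    have hD : p * t - r * s ≠ 0 := by
      intro hD
      have hz : ((a : GL (Fin 3) F) : Matrix (Fin 3) (Fin 3) F) *ᵥ (r • e + (-p) • u) = 0 := by
        rw [mulVec_add, mulVec_smul, mulVec_smul, hae, hau]
        have : r * s = p * t := by linear_combination -hD
        simp only [smul_add, smul_smul, neg_mul, this, mul_comm r p]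
        module
      have h2 := congrArg (((a⁻¹ : K0) : GL (Fin 3) F) : Matrix (Fin 3) (Fin 3) F).mulVec hz
      rw [Subgroup.coe_inv, inv_mulVec_mulVec, mulVec_zero] at h2
      exact neg_ne_zero.2 hp (hcoef (h2.trans (show (0 : Fin 3 → F) = (0 : F) • e + (0 : F) • u by simp))).2
    have hr : r ≠ 0 := by
      intro e0
      have h := isometry_of_mem hF st.le (hK0M a a.2) e u
      rw [hae, hau, e0, zero_smul, zero_add, hf.add_left, hf.smul_left, hf.smul_left, herm_smul_right hf,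
        herm_smul_right hf, ← hfd, heu, ← hβ, mul_zero, mul_zero, zero_add, mul_eq_zero, mul_eq_zero] at h
      rcases h with h | h | h
      · exact hs0 h
      · exact hD (by rw [(map_eq_zero _).1 h, e0]; ring)
      · exact hβ0 h
    -- the commutation identities
    have hrel : ∀ ν ∈ circ hF, ν ^ 3 ≠ 1 → ν ^ 3 ≠ -1 →
        (2 : F) * (p * p) + r * s * (ν * ν * ν + (ν * ν * ν)⁻¹) = 0 ∧ (2 : F) ≠ 0 := by
      intro μ hμ hμ1 hμ2
      have hμ0 := circ_ne_zero hF hμ
      obtain ⟨h, -, hhe, hhu⟩ := hdiag μ hμ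
      obtain ⟨κ, hκ⟩ : ∃ κ, κ = μ * μ * μ := ⟨_, rfl⟩
      have hκ0 : κ ≠ 0 := hκ ▸ mul_ne_zero (mul_ne_zero hμ0 hμ0) hμ0
      obtain ⟨b, hb⟩ : ∃ b : K0, b = h * a * h⁻¹ := ⟨_, rfl⟩
      have hhi : ∀ (c' : F) (v : Fin 3 → F), c' ≠ 0 → ((h : GL (Fin 3) F) : Matrix (Fin 3) (Fin 3) F) *ᵥ v = c' • v →
          (((h⁻¹ : K0) : GL (Fin 3) F) : Matrix (Fin 3) (Fin 3) F) *ᵥ v = c'⁻¹ • v := fun c' v hc' hv => by
        conv_lhs => rw [show v = c'⁻¹ • (c' • v) by rw [smul_smul, inv_mul_cancel₀ hc', one_smul], ← hv]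
        rw [mulVec_smul, Subgroup.coe_inv, inv_mulVec_mulVec]
      have hbe : ((b : GL (Fin 3) F) : Matrix (Fin 3) (Fin 3) F) *ᵥ e = p • e + (s * κ) • u := by
        rw [hb, Subgroup.coe_mul, Subgroup.coe_mul, Units.val_mul, Units.val_mul, ← mulVec_mulVec, ← mulVec_mulVec,
          hhi _ e (inv_ne_zero (mul_ne_zero hμ0 hμ0)) hhe, mulVec_smul, hae, mulVec_smul, mulVec_add,
          mulVec_smul, mulVec_smul, hhe, hhu, smul_add, smul_smul, smul_smul, smul_smul, smul_smul, hκ]
        congr 1 <;> congr 1 <;> field_simp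
      have hbu : ((b : GL (Fin 3) F) : Matrix (Fin 3) (Fin 3) F) *ᵥ u = (r / κ) • e + t • u := by
        rw [hb, Subgroup.coe_mul, Subgroup.coe_mul, Units.val_mul, Units.val_mul, ← mulVec_mulVec, ← mulVec_mulVec,
          hhi _ u hμ0 hhu, mulVec_smul, hau, mulVec_smul, mulVec_add, mulVec_smul, mulVec_smul, hhe, hhu,
          smul_add, smul_smul, smul_smul, smul_smul, smul_smul, hκ]
        congr 1 <;> congr 1 <;> field_simp
      have hc' := hcomm (π h)
      change π a * (π h * π a * (π h)⁻¹) = π h * π a * (π h)⁻¹ * π a at hc'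
      rw [show π h * (π a) * (π h)⁻¹ = π b by rw [hb, map_mul, map_mul, map_inv]] at hc'
      rw [← map_mul, ← map_mul] at hc'
      obtain ⟨ζ, ⟨ν, hν⟩, hζe⟩ := (QuotientGroup.mk'_eq_mk' Z).1 hc'.symm
      have hap : ∀ v, f v c = 0 → ((a : GL (Fin 3) F) : Matrix (Fin 3) (Fin 3) F) *ᵥ
          (((b : GL (Fin 3) F) : Matrix (Fin 3) (Fin 3) F) *ᵥ v) =
          ν • (((b : GL (Fin 3) F) : Matrix (Fin 3) (Fin 3) F) *ᵥ
          (((a : GL (Fin 3) F) : Matrix (Fin 3) (Fin 3) F) *ᵥ v)) := fun v hv => by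
        rw [mulVec_mulVec, mulVec_mulVec, ← Units.val_mul, ← Units.val_mul, ← Subgroup.coe_mul, ← Subgroup.coe_mul,
          ← hζe, Subgroup.coe_mul, Units.val_mul, ← mulVec_mulVec, hν v hv, mulVec_smul]
      have E := hap e hec
      have U := hap u huc
      rw [hbe, hae, mulVec_add, mulVec_add, mulVec_smul, mulVec_smul, mulVec_smul, mulVec_smul, hae, hau, hbe,
        hbu] at E
      rw [hbu, hau, mulVec_add, mulVec_add, mulVec_smul, mulVec_smul, mulVec_smul, mulVec_smul, hae, hau, hbe,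
        hbu] at U
      obtain ⟨E1, E2⟩ := hcoef (a := p * p + s * κ * r) (b := p * s + s * κ * t)
        (a' := ν * (p * p + s * (r / κ))) (b' := ν * (p * (s * κ) + s * t))
        (by refine Eq.trans ?_ (E.trans ?_) <;> module)
      obtain ⟨U1, U2⟩ := hcoef (a := r / κ * p + t * r) (b := r / κ * s + t * t)
        (a' := ν * (r * p + t * (r / κ))) (b' := ν * (r * (s * κ) + t * t))
        (by refine Eq.trans ?_ (U.trans ?_) <;> module)
      have hE2 : p + κ * t = ν * (p * κ + t) := mul_left_cancel₀ hs0 (by linear_combination E2)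
      field_simp at E1 U1 U2
      have hν2 : (ν - 1) * (ν + 1) = 0 := by
        have h4 : (ν * ν - 1) * ((p * t - r * s) * (p * t - r * s)) = 0 := by
          refine (mul_eq_zero.1 (?_ : κ * κ * ((ν * ν - 1) * ((p * t - r * s) * (p * t - r * s))) = 0)).resolve_left
            (mul_ne_zero hκ0 hκ0)
          linear_combination -(s * r + κ * t * t) * E1 - (ν * (p * p * κ + s * r)) * U2
            + (κ * r * s * ((p + κ * t) + ν * (p * κ + t))) * hE2
        linear_combination (mul_eq_zero.1 h4).resolve_right (mul_ne_zero hD hD)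
      have hne1 : κ * κ ≠ 1 := fun e1 => by
        rcases mul_self_eq_one_iff.1 e1 with h | h
        · exact hμ1 (by rw [← h, hκ]; ring)
        · exact hμ2 (by rw [← h, hκ]; ring)
      rcases mul_eq_zero.1 hν2 with hν1 | hν1
      · rw [sub_eq_zero] at hν1
        refine absurd ?_ (mul_ne_zero (mul_ne_zero hr hs0) (sub_ne_zero.2 hne1))
        rw [hν1] at E1
        linear_combination E1
      · have hν' : ν = -1 := eq_neg_of_add_eq_zero_left hν1
        rw [hν'] at E1
        have h2 : (2 : F) ≠ 0 := fun h20 => by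
          refine absurd ?_ (mul_ne_zero (mul_ne_zero hr hs0) (sub_ne_zero.2 hne1))
          linear_combination E1 - (κ * p * p + r * s) * h20
        refine ⟨?_, h2⟩
        rw [← hκ]
        field_simp
        linear_combination E1
    obtain ⟨h1, h2⟩ := hrel μ hμ hμ1 hμ2
    obtain ⟨h3, -⟩ := hrel (-μ) (by simpa using mul_mem_circ hF (neg_one_mem_circ hF) hμ)
      (fun e0 => hμ2 (by linear_combination -e0)) (fun e0 => hμ1 (by linear_combination -e0))
    rw [show -μ * -μ * -μ = -(μ * μ * μ) by ring, inv_neg] at h3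
    exact mul_ne_zero (mul_ne_zero h2 h2) (mul_ne_zero hp hp) (by linear_combination h1 + h3)

end CfsgLib.MaxSub.SuThree
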