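import Cfsg.Agent.Lib.MaxSub.SuThree.FrameFix
import Cfsg.Agent.Lib.MaxSub.SuThree.FrameFrob
import Cfsg.Agent.Lib.MaxSub.UFrameCoord

/-!
The stabiliser of an orthogonal frame is maximal in the three-dimensional special unitary group, q ≠ 5.
-/

set_option autoImplicit false
set_option linter.unusedSectionVars false

namespace CfsgLib.MaxSub.SuThree

open Matrix CfsgLib.MaxSub CfsgLib.MaxSub.UFrame CfsgLib.MaxSub.DecompMax
open scoped MatrixGroups

variable {F : Type*} [Field F] [Fintype F] {q : ℕ}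

/-- overgroups of the monomial subgroup with a non-monomial element -/
theorem su_le_of_nonmono [DecidableEq F] (hF : Fintype.card F = q ^ 2) (hq : 3 ≤ q) (h5 : q ≠ 5)
    {M : Subgroup (GL (Fin 3) F)} (st : Over hF M) {g : GL (Fin 3) F} (hg : g ∈ M) (hgm : ¬ IsMono3 g) :
    Cfsg.GU 3 F q ⊓ Cfsg.Geo.specialLinear (Fin 3) F ≤ M := by
  classical
  by_contra hno
  have hN : NoFix M := fun x hx o b hb => by
    by_contra hxm
    exact hno (su_le_of_fix hF st hq hx hxm hb)
  exact frame_absurd hF hq h5 st (fun x hx a b h => mono_of_zero hF hq h5 st hN hx h) hg hgm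

/-- frame stabilisers are maximal -/
theorem frame_maximal (hF : Fintype.card F = q ^ 2) (hq : 3 ≤ q) (h5 : q ≠ 5)
    (D : Fin 3 → Submodule F (Fin 3 → F))
    (hD : Cfsg.Geo.IsNondegenerateMDecomposition (Cfsg.hermForm 3 F q) 1 D) :
    Cfsg.Geo.IsMaximalIn (Cfsg.GU 3 F q ⊓ Cfsg.Geo.specialLinear (Fin 3) F)
      (Cfsg.Geo.decompositionStabilizer D ⊓ (Cfsg.GU 3 F q ⊓ Cfsg.Geo.specialLinear (Fin 3) F)) := by
  classical
  have hf := isUnitaryForm_hermForm hF 3
  obtain ⟨S, hS⟩ : ∃ S, S = Cfsg.GU 3 F q ⊓ Cfsg.Geo.specialLinear (Fin 3) F := ⟨_, rfl⟩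
  rw [← hS]
  obtain ⟨e, G, hG, hmem⟩ := exists_frame hF hD
  have hGU : G ∈ Cfsg.GU 3 F q := hG
  have hblk : Function.Injective fun i => (e i).1 := fun a b h =>
    e.injective (Prod.ext h (Subsingleton.elim _ _))
  have hsurj : Function.Surjective fun i => (e i).1 := fun a => ⟨e.symm (a, 0), by simp⟩
  have hconj : ∀ g ∈ S, G * g * G⁻¹ ∈ S ∧ G⁻¹ * g * G ∈ S := by
    intro g hg
    rw [hS] at hg ⊢
    have h2 : Matrix.GeneralLinearGroup.det g = 1 := hg.2
    refine ⟨Subgroup.mem_inf.2 ⟨mul_mem (mul_mem hGU hg.1) (inv_mem hGU), ?_⟩,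
      Subgroup.mem_inf.2 ⟨mul_mem (mul_mem (inv_mem hGU) hg.1) hGU, ?_⟩⟩
    · show Matrix.GeneralLinearGroup.det (G * g * G⁻¹) = 1
      rw [map_mul, map_mul, h2, mul_one, ← map_mul, mul_inv_cancel, map_one]
    · show Matrix.GeneralLinearGroup.det (G⁻¹ * g * G) = 1
      rw [map_mul, map_mul, h2, mul_one, ← map_mul, inv_mul_cancel, map_one]
  have hblock : ∀ (a : Fin 3) (x : Fin 3 → F), x ∈ blockSub (fun i => (e i).1) a ↔
      ∀ m, m ≠ e.symm (a, 0) → x m = 0 := by
    intro a x
    refine ⟨fun h m hm => h m fun he => hm ?_, fun h m hm => h m fun he => hm ?_⟩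
    · exact hblk (he.trans (by simp))
    · rw [he]; simp
  have hstab : ∀ g : GL (Fin 3) F, g ∈ Cfsg.Geo.decompositionStabilizer D ↔ IsMono3 (G⁻¹ * g * G) := by
    intro g
    constructor
    · rintro ⟨π, hπ⟩
      refine isMono3_of_single fun o => ⟨e.symm (π (e o).1, 0), fun m hm => ?_⟩
      have hin : ((G⁻¹ * g * G : GL (Fin 3) F) : Matrix (Fin 3) (Fin 3) F) *ᵥ Pi.single o 1 ∈
          blockSub (fun i => (e i).1) (π (e o).1) := by
        rw [Units.val_mul, Units.val_mul, ← mulVec_mulVec, ← mulVec_mulVec, ← hmem, ← hπ]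
        refine ⟨(G : Matrix (Fin 3) (Fin 3) F) *ᵥ Pi.single o 1, (hmem _ _).2 ?_, rfl⟩
        rw [mulVec_mulVec, ← Units.val_mul, inv_mul_cancel, Units.val_one, one_mulVec]
        exact single_mem_blockSub o 1
      have := (hblock _ _).1 hin m hm
      rwa [mulVec_single_one] at this
    · intro hg
      choose t ht using fun o => hg.single o
      have htinj : Function.Injective t := by
        intro o o' hoo
        by_contra hne
        have hinv : ((G⁻¹ * g * G : GL (Fin 3) F) : Matrix (Fin 3) (Fin 3) F) *ᵥ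
            (((G⁻¹ * g * G : GL (Fin 3) F) : Matrix (Fin 3) (Fin 3) F) (t o) o' • Pi.single o 1 -
              ((G⁻¹ * g * G : GL (Fin 3) F) : Matrix (Fin 3) (Fin 3) F) (t o) o • Pi.single o' 1) = 0 := by
          funext m
          rw [mulVec_sub, mulVec_smul, mulVec_smul, mulVec_single_one, mulVec_single_one]
          by_cases hm : m = t o
          · subst hm
            simp [Matrix.col_apply]; ring
          · simp only [Pi.sub_apply, Pi.smul_apply, Matrix.col_apply, smul_eq_mul, Pi.zero_apply]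
            rw [ht o m hm, ht o' m (hoo ▸ hm)]
            ring
        have h2 := congrArg ((((G⁻¹ * g * G : GL (Fin 3) F)⁻¹ : GL (Fin 3) F) : Matrix (Fin 3) (Fin 3) F).mulVec) hinv
        rw [inv_mulVec_mulVec, mulVec_zero] at h2
        have h3 := congrFun h2 o'
        simp [Ne.symm hne] at h3
        have h5 : ((G⁻¹ * g * G : GL (Fin 3) F) : Matrix (Fin 3) (Fin 3) F) *ᵥ Pi.single o 1 = 0 := by
          funext m
          rw [mulVec_single_one]
          by_cases hm : m = t o
          · subst hm; simpa [Matrix.col_apply] using h3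
          · simpa [Matrix.col_apply] using ht o m hm
        have h6 := congrArg ((((G⁻¹ * g * G : GL (Fin 3) F)⁻¹ : GL (Fin 3) F) : Matrix (Fin 3) (Fin 3) F).mulVec) h5
        rw [inv_mulVec_mulVec, mulVec_zero] at h6
        exact one_ne_zero (α := F) (by simpa using congrFun h6 o)
      let π : Fin 3 → Fin 3 := fun a => (e (t (e.symm (a, 0)))).1
      have hπi : Function.Injective π := fun a b h => by
        have := htinj (hblk h)
        simpa using congrArg e this
      have hmaps : ∀ a, (D a).map (Matrix.toLin' (g : Matrix (Fin 3) (Fin 3) F)) ≤ D (π a) := by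
        rintro a _ ⟨x, hx, rfl⟩
        rw [Matrix.toLin'_apply, hmem]
        have h1 := (hmem a x).1 hx
        have h2 : ((G⁻¹ : GL (Fin 3) F) : Matrix (Fin 3) (Fin 3) F) *ᵥ ((g : Matrix (Fin 3) (Fin 3) F) *ᵥ x) =
            ((G⁻¹ * g * G : GL (Fin 3) F) : Matrix (Fin 3) (Fin 3) F) *ᵥ
              (((G⁻¹ : GL (Fin 3) F) : Matrix (Fin 3) (Fin 3) F) *ᵥ x) := by
          rw [Units.val_mul, Units.val_mul, ← mulVec_mulVec, ← mulVec_mulVec, mulVec_mulVec_inv]
        rw [h2, hblock]
        intro m hm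
        rw [mulVec, dotProduct, Finset.sum_eq_single (e.symm (a, 0))
          (fun r _ hr => by rw [(hblock a _).1 h1 r hr, mul_zero]) (by simp)]
        rw [ht _ m fun he => hm (by
          refine e.injective (Prod.ext ?_ (Subsingleton.elim _ _))
          rw [he]; simp [π]), zero_mul]
      have hdim : ∀ a, Module.finrank F (D a) = 1 := hD.decomp.finrank_eq
      have hinjG : Function.Injective (Matrix.toLin' (g : Matrix (Fin 3) (Fin 3) F)) := fun x y hxy => by
        have := congrArg (((g⁻¹ : GL (Fin 3) F) : Matrix (Fin 3) (Fin 3) F) *ᵥ ·) hxy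
        simpa [inv_mulVec_mulVec] using this
      refine ⟨Equiv.ofBijective π ⟨hπi, Finite.injective_iff_surjective.1 hπi⟩, fun a =>
        Submodule.eq_of_le_of_finrank_eq (hmaps a) ?_⟩
      rw [(Submodule.equivMapOfInjective _ hinjG (D a)).symm.finrank_eq, hdim, hdim]
  refine isMaximalIn_of_lt (lt_of_le_of_ne inf_le_right fun heqS => ?_) fun M hM hMS g hg hgH => ?_
  · -- a transvection outside
    obtain ⟨R, hR⟩ : ∃ R : Finset F, R = Finset.univ.filter fun x : F => qConj hF x = x := ⟨_, rfl⟩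
    obtain ⟨m, hm, hm'⟩ := Finset.exists_mem_notMem_of_card_lt_card (s := ({0, -1} : Finset F)) (t := R)
      (Finset.card_le_two.trans_lt (by rw [hR, fixed_card3 hF]; omega))
    simp only [Finset.mem_insert, Finset.mem_singleton, not_or] at hm'
    rw [hR, Finset.mem_filter] at hm
    obtain ⟨a, ha⟩ := exists_norm hF hm.2
    obtain ⟨b, hb⟩ := exists_norm hF (a := -1 - m) (by rw [map_sub, map_neg, map_one, hm.2])
    have ha0 : a ≠ 0 := fun e0 => hm'.1 (by rw [← ha, e0, zero_mul])
    have hb0 : b ≠ 0 := fun e0 => hm'.2 (by rw [e0, zero_mul] at hb; linear_combination hb)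
    obtain ⟨z, hz⟩ : ∃ z : Fin 3 → F, z = ![1, a, b] := ⟨_, rfl⟩
    have hzz : Cfsg.hermForm 3 F q z z = 0 := by
      rw [f_apply hF, Fin.sum_univ_three, hz]; simp
      linear_combination ha + hb
    obtain ⟨s, hs0, hs⟩ := exists_trace_zero hf
    have hT : (s • hDual (Cfsg.hermForm 3 F q) z) ⬝ᵥ z = 0 := by rw [smul_dotProduct, hDual_dot hf, hzz, smul_zero]
    have hTS : tvGL z _ hT ∈ S := hS ▸ uTv_mem_su hF hzz hs hT
    have hmemH : G * tvGL z _ hT * G⁻¹ ∈ Cfsg.Geo.decompositionStabilizer D ⊓ S := by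
      rw [heqS]; exact (hconj _ hTS).1
    have hb' := (hstab _).1 hmemH.1
    rw [show G⁻¹ * (G * tvGL z _ hT * G⁻¹) * G = tvGL z _ hT by group] at hb'
    obtain ⟨t, ht⟩ := hb'.single 0
    have hval : ∀ r, (tvGL z _ hT : Matrix (Fin 3) (Fin 3) F) r 0 = (if r = 0 then 1 else 0) + s * z r := fun r => by
      have h := congrFun (uTv_mulVec hf z s (Pi.single 0 1)) r
      rw [mulVec_single_one] at h
      rw [coe_tvGL]
      refine h.trans ?_
      rw [f_single_left hF, hz]
      fin_cases r <;> simp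
    by_cases h1 : t = 1
    · have h := ht 2 (by rw [h1]; decide)
      rw [hval, hz] at h
      simp [hs0, hb0] at h
    · have h := ht 1 (fun h2 => h1 h2.symm)
      rw [hval, hz] at h
      simp [hs0, ha0] at h
  · obtain ⟨M', hM'⟩ : ∃ M' : Subgroup (GL (Fin 3) F), M' = M.comap (MulAut.conj G).toMonoidHom := ⟨_, rfl⟩
    have hM'mem : ∀ h : GL (Fin 3) F, h ∈ M' ↔ G * h * G⁻¹ ∈ M := fun h => by
      rw [hM']; simp [MulAut.conj_apply]
    have hle : M' ≤ Cfsg.GU 3 F q ⊓ Cfsg.Geo.specialLinear (Fin 3) F := fun h hh => by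
      have := (hconj _ (hMS ((hM'mem h).1 hh))).2
      rw [show G⁻¹ * (G * h * G⁻¹) * G = h by group, hS] at this
      exact this
    have hover : IsOver (id : Fin 3 → Fin 3) M' q := fun h hh hb => by
      rw [hM'mem]
      refine hM ⟨(hstab _).2 ?_, (hconj h (hS.symm ▸ hh)).1⟩
      rw [show G⁻¹ * (G * h * G⁻¹) * G = h by group]
      exact hb
    have hg' : G⁻¹ * g * G ∈ M' := by
      rw [hM'mem, show G * (G⁻¹ * g * G) * G⁻¹ = g by group]; exact hg
    have hgb : ¬ IsMono3 (G⁻¹ * g * G) := fun h => hgH ⟨(hstab g).2 h, hMS hg⟩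
    have hSM := su_le_of_nonmono hF hq h5 ⟨hle, hover⟩ hg' hgb
    intro h hh
    have h1 : G⁻¹ * h * G ∈ M' := hSM (hS ▸ (hconj h hh).2)
    rw [hM'mem, show G * (G⁻¹ * h * G) * G⁻¹ = h by group] at h1
    exact h1

end CfsgLib.MaxSub.SuThree
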