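import Cfsg.Agent.Lib.MaxSub.SuThree.FrameTools

/-!
An overgroup of the monomial subgroup with a non-monomial element fixing a coordinate line is everything:
it contains a transvection in a coordinate plane, whose multipliers fill the fixed field.
-/

set_option autoImplicit false
set_option linter.unusedSectionVars false

namespace CfsgLib.MaxSub.SuThree

open Matrix CfsgLib.MaxSub CfsgLib.MaxSub.UFrame CfsgLib.MaxSub.DecompMax
open scoped MatrixGroups

variable {F : Type*} [Field F] [Fintype F] [DecidableEq F] {q : ℕ} (hF : Fintype.card F = q ^ 2)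
  {M : Subgroup (GL (Fin 3) F)}
include hF

/-- a non-monomial element with a single entry in a column gives one fixing a coordinate line -/
theorem exists_fix (st : Over hF M) {x : GL (Fin 3) F} (hx : x ∈ M) (hxm : ¬ IsMono3 x) {o b : Fin 3}
    (hb : SingleAt x o b) : ∃ y ∈ M, ¬ IsMono3 y ∧ SingleAt y o o := by
  obtain ⟨P, hP, d, hd, -, hPe⟩ := st.perm_mem hF (Equiv.swap b o) o
  have hrow : ∀ m l, ((P * x : GL (Fin 3) F) : Matrix (Fin 3) (Fin 3) F) (Equiv.swap b o m) l =
      d m * (x : Matrix (Fin 3) (Fin 3) F) m l := fun m l => by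
    rw [Units.val_mul, hPe, monMat_mul_apply hF]
  refine ⟨P * x, mul_mem hP hx, fun hm => hxm (isMono3_of_single fun l => ?_), fun m hm => ?_⟩
  · obtain ⟨t, ht⟩ := hm.single l
    refine ⟨Equiv.swap b o t, fun m hne => ?_⟩
    have h := ht (Equiv.swap b o m) (fun e => hne (by rw [← e, Equiv.swap_apply_self]))
    rw [hrow] at h
    exact (mul_eq_zero.1 h).resolve_left (circ_ne_zero hF (hd m))
  · obtain ⟨m, rfl⟩ := (Equiv.swap b o).surjective m
    rw [hrow, hb m (fun e => hm (by rw [e, Equiv.swap_apply_left])), mul_zero]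

/-- the normalised point of a coordinate plane -/
def planePt (i j : Fin 3) (ξ : F) : Fin 3 → F := Pi.single i 1 + ξ • (Pi.single j 1 : Fin 3 → F)

/-- a transvection in a coordinate plane -/
theorem exists_plane_tv (st : Over hF M) (_hq : 3 ≤ q) {y : GL (Fin 3) F} (hy : y ∈ M) (hym : ¬ IsMono3 y)
    {o : Fin 3} (ho : SingleAt y o o) :
    ∃ i j ε c, i ≠ j ∧ i ≠ o ∧ j ≠ o ∧ ε * qConj hF ε = -1 ∧ c ≠ 0 ∧ ((2 : F) = 0 → c ≠ 1) ∧
      InC hF M (planePt i j ε) c := by
  classical
  have hf := isUnitaryForm_hermForm hF 3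
  obtain ⟨i, j, hij, hio, hjo⟩ := exists_others o
  have hs : ∀ f : Fin 3 → F, ∑ m, f m = f i + f j + f o := sum_three hij hio hjo
  obtain ⟨Y, hY⟩ : ∃ Y, Y = (y : Matrix (Fin 3) (Fin 3) F) := ⟨_, rfl⟩
  have hio0 : Y i o = 0 := hY ▸ ho i hio
  have hjo0 : Y j o = 0 := hY ▸ ho j hjo
  have cO : Y o o * qConj hF (Y o o) = 1 := by
    have h := st.cols hF hy o o
    rw [← hY, hs, if_pos rfl, hio0, hjo0] at h
    linear_combination h
  have hoo : qConj hF (Y o o) ≠ 0 := right_ne_zero_of_mul_eq_one cO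
  have hoi0 : Y o i = 0 := by
    have h := st.cols hF hy i o
    rw [← hY, hs, if_neg hio, hio0, hjo0, map_zero, mul_zero, mul_zero, zero_add, zero_add] at h
    exact (mul_eq_zero.1 h).resolve_right hoo
  have hoj0 : Y o j = 0 := by
    have h := st.cols hF hy j o
    rw [← hY, hs, if_neg hjo, hio0, hjo0, map_zero, mul_zero, mul_zero, zero_add, zero_add] at h
    exact (mul_eq_zero.1 h).resolve_right hoo
  obtain ⟨σ, hσ⟩ : ∃ σ, σ = qConj hF := ⟨_, rfl⟩
  have cI : Y i i * σ (Y i i) + Y j i * σ (Y j i) = 1 := by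
    have h := st.cols hF hy i i
    rw [← hY, ← hσ, hs, if_pos rfl, hoi0] at h
    linear_combination h
  have rI : Y i i * σ (Y i i) + Y i j * σ (Y i j) = 1 := by
    have h := st.rows hF hy i i
    rw [← hY, ← hσ, hs, if_pos rfl, hio0] at h
    linear_combination h
  have rJ : Y j i * σ (Y j i) + Y j j * σ (Y j j) = 1 := by
    have h := st.rows hF hy j j
    rw [← hY, ← hσ, hs, if_pos rfl, hjo0] at h
    linear_combination h
  have rIJ : Y i i * σ (Y j i) + Y i j * σ (Y j j) = 0 := by
    have h := st.rows hF hy i j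
    rw [← hY, ← hσ, hs, if_neg hij, hio0] at h
    linear_combination h
  have rJI : Y j i * σ (Y i i) + Y j j * σ (Y i j) = 0 := by
    have h := congrArg σ rIJ
    rw [map_add, map_mul, map_mul, map_zero, hσ, qConj_qConj, qConj_qConj, ← hσ] at h
    linear_combination h
  have ha : Y i i ≠ 0 := fun e => hym (isMono3_of_single fun l => by
    rw [e, zero_mul, zero_add] at rI rIJ
    have hjj : Y j j = 0 := by
      have := (mul_eq_zero.1 rIJ).resolve_left (left_ne_zero_of_mul_eq_one rI)
      exact (map_eq_zero σ).1 this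
    rcases three_cases hij hio hjo l with rfl | rfl | rfl
    · refine ⟨j, fun m hm => ?_⟩
      rcases three_cases hij hio hjo m with rfl | rfl | rfl
      · exact hY ▸ e
      · exact absurd rfl hm
      · exact hY ▸ hoi0
    · refine ⟨i, fun m hm => ?_⟩
      rcases three_cases hij hio hjo m with rfl | rfl | rfl
      · exact absurd rfl hm
      · exact hY ▸ hjj
      · exact hY ▸ hoj0
    · exact ⟨l, ho⟩)
  have hb : Y j i ≠ 0 := fun e => hym (isMono3_of_single fun l => by
    have hij0 : Y i j = 0 := by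
      have h1 : Y i j * σ (Y i j) = 0 := by rw [e] at cI; linear_combination rI - cI
      rcases mul_eq_zero.1 h1 with h | h
      · exact h
      · exact (map_eq_zero σ).1 h
    rcases three_cases hij hio hjo l with rfl | rfl | rfl
    · refine ⟨l, fun m hm => ?_⟩
      rcases three_cases hij hio hjo m with rfl | rfl | rfl
      · exact absurd rfl hm
      · exact hY ▸ e
      · exact hY ▸ hoi0
    · refine ⟨l, fun m hm => ?_⟩
      rcases three_cases hij hio hjo m with rfl | rfl | rfl
      · exact hY ▸ hij0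
      · exact absurd rfl hm
      · exact hY ▸ hoj0
    · exact ⟨l, ho⟩)
  obtain ⟨A, hA⟩ : ∃ A, A = Y i i * σ (Y i i) := ⟨_, rfl⟩
  obtain ⟨B, hB⟩ : ∃ B, B = Y j i * σ (Y j i) := ⟨_, rfl⟩
  have hAB : A + B = 1 := by rw [hA, hB]; exact cI
  have hA0 : A ≠ 0 := hA ▸ mul_ne_zero ha ((map_ne_zero σ).2 ha)
  have hB0 : B ≠ 0 := hB ▸ mul_ne_zero hb ((map_ne_zero σ).2 hb)
  have hσA : σ A = A := by rw [hA, map_mul, hσ, qConj_qConj, mul_comm]
  have hσB : σ B = B := by rw [hB, map_mul, hσ, qConj_qConj, mul_comm]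
  -- two circle elements
  obtain ⟨T, hT⟩ : ∃ T : Finset F, T = (circ hF).image fun u => u + qConj hF u := ⟨_, rfl⟩
  have hTc := card_traces_one hF (q := q)
  rw [← hT] at hTc
  obtain ⟨R, hR⟩ : ∃ R : Finset F, R = Finset.univ.filter fun x : F => qConj hF x = x := ⟨_, rfl⟩
  have hRc : R.card = q := hR ▸ fixed_card3 hF
  have hTR : ∀ t ∈ T, σ t = t := fun t ht => by
    rw [hT] at ht
    obtain ⟨u, -, rfl⟩ := Finset.mem_image.1 ht
    rw [hσ]; exact trace_fixed hF u
  have hsub : (T.image fun t => A * t) ∪ (T.image fun t => 2 - B * t) ⊆ R := by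
    intro m hm
    rw [hR, Finset.mem_filter]
    refine ⟨Finset.mem_univ _, ?_⟩
    rw [← hσ]
    rcases Finset.mem_union.1 hm with h | h <;> obtain ⟨t, ht, rfl⟩ := Finset.mem_image.1 h
    · rw [map_mul, hσA, hTR t ht]
    · rw [map_sub, map_mul, hσB, hTR t ht, map_ofNat]
  obtain ⟨m, hm, hm2⟩ := Finset.exists_mem_notMem_of_card_lt_card (s := ({A * 2} : Finset F))
    (t := (T.image fun t => A * t) ∩ (T.image fun t => 2 - B * t)) (by
      have h1 := Finset.card_union_add_card_inter (T.image fun t => A * t) (T.image fun t => 2 - B * t)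
      have h2 := Finset.card_le_card hsub
      rw [Finset.card_image_of_injective _ (mul_right_injective₀ hA0),
        Finset.card_image_of_injective _ (fun a b h => mul_left_cancel₀ hB0 (sub_right_injective h))] at h1
      rw [Finset.card_singleton]
      omega)
  rw [Finset.mem_singleton] at hm2
  obtain ⟨hm1, hm1'⟩ := Finset.mem_inter.1 hm
  obtain ⟨t₁, ht₁, rfl⟩ := Finset.mem_image.1 hm1
  obtain ⟨t₂, ht₂, he⟩ := Finset.mem_image.1 hm1'
  rw [hT] at ht₁ ht₂
  obtain ⟨u, hu, rfl⟩ := Finset.mem_image.1 ht₁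
  obtain ⟨v, hv, rfl⟩ := Finset.mem_image.1 ht₂
  rw [← hσ] at he hm2
  have htr : A * (u + σ u) + B * (v + σ v) = 2 := by linear_combination -he
  have hu2 : u * σ u = 1 := hσ ▸ (mem_circ hF).1 hu
  have hv2 : v * σ v = 1 := hσ ▸ (mem_circ hF).1 hv
  have huv : u ≠ v := by
    intro e
    rw [← e] at htr
    exact hm2 (by linear_combination A * htr - A * (u + σ u) * hAB)
  have hu0 := circ_ne_zero hF hu
  have hv0 := circ_ne_zero hF hv
  -- the element
  obtain ⟨d, hd⟩ : ∃ d : Fin 3 → F, d = fun m => if m = i then u else if m = j then v else (u * v)⁻¹ := ⟨_, rfl⟩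
  have di : d i = u := by simp [hd]
  have dj : d j = v := by simp [hd, hij.symm]
  have dO : d o = (u * v)⁻¹ := by simp [hd, hio.symm, hjo.symm]
  have hdc : ∀ m, d m ∈ circ hF := fun m => by
    rcases three_cases hij hio hjo m with rfl | rfl | rfl
    · rw [di]; exact hu
    · rw [dj]; exact hv
    · rw [dO]; exact inv_mem_circ hF (mul_mem_circ hF hu hv)
  have hprod : ∏ m, d m = 1 := by
    have huniv : (Finset.univ : Finset (Fin 3)) = {i, j, o} :=
      (Finset.eq_univ_iff_forall.2 fun m => by simpa using three_cases hij hio hjo m).symm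
    rw [huniv, Finset.prod_insert (by simp [hij, hio]), Finset.prod_pair hjo, di, dj, dO]
    field_simp
  obtain ⟨X, hX, hXe, -⟩ := st.conj_diag hF hy d hdc hprod
  obtain ⟨e, hed⟩ : ∃ e : Fin 3 → F, e = fun m => if m = i then 1 else if m = j then (u * v)⁻¹ else u * v :=
    ⟨_, rfl⟩
  have ei : e i = 1 := by simp [hed]
  have ej : e j = (u * v)⁻¹ := by simp [hed, hij.symm]
  have eo : e o = u * v := by simp [hed, hio.symm, hjo.symm]
  obtain ⟨D1, hD1, hD1e⟩ := st.diag_mem hF e (fun m => by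
    rcases three_cases hij hio hjo m with rfl | rfl | rfl
    · rw [ei]; exact one_mem_circ hF
    · rw [ej]; exact inv_mem_circ hF (mul_mem_circ hF hu hv)
    · rw [eo]; exact mul_mem_circ hF hu hv) (by
    have huniv : (Finset.univ : Finset (Fin 3)) = {i, j, o} :=
      (Finset.eq_univ_iff_forall.2 fun m => by simpa using three_cases hij hio hjo m).symm
    rw [huniv, Finset.prod_insert (by simp [hij, hio]), Finset.prod_pair hjo, ei, ej, eo]
    field_simp)
  obtain ⟨h, hhe⟩ : ∃ h, h = D1 * X := ⟨_, rfl⟩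
  have hh : h ∈ M := hhe ▸ mul_mem hD1 hX
  have hent : ∀ l m, (h : Matrix (Fin 3) (Fin 3) F) l m = e l *
      (u * (Y l i * σ (Y m i)) + v * (Y l j * σ (Y m j)) + (u * v)⁻¹ * (Y l o * σ (Y m o))) := fun l m => by
    rw [hhe, Units.val_mul, hD1e, Matrix.diagonal_mul, hXe, hs, di, dj, dO, ← hY, ← hσ]
  obtain ⟨c, hc⟩ : ∃ c, c = u * A + v * B - 1 := ⟨_, rfl⟩
  have hNc : Y i j * σ (Y i j) = B := by rw [hB]; linear_combination rI - cI
  have hNd : Y j j * σ (Y j j) = A := by rw [hA]; linear_combination rJ - cI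
  have eII : (h : Matrix (Fin 3) (Fin 3) F) i i = 1 + c := by
    rw [hent, ei, hio0, hc, hA]
    linear_combination v * hNc
  have eIJ : (h : Matrix (Fin 3) (Fin 3) F) i j = (u - v) * (Y i i * σ (Y j i)) := by
    rw [hent, ei, hio0]
    linear_combination v * rIJ
  have eJI : (h : Matrix (Fin 3) (Fin 3) F) j i = (u * v)⁻¹ * ((u - v) * (Y j i * σ (Y i i))) := by
    rw [hent, ej, hjo0]
    linear_combination (u * v)⁻¹ * v * rJI
  have hσu : σ u = u⁻¹ := eq_inv_of_mul_eq_one_right hu2
  have hσv : σ v = v⁻¹ := eq_inv_of_mul_eq_one_right hv2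
  have hσσ : ∀ x, σ (σ x) = x := fun x => by rw [hσ, qConj_qConj]
  have hσc : c + σ c = 0 := by
    rw [hc, map_sub, map_add, map_mul, map_mul, hσA, hσB, map_one]
    linear_combination htr
  have hcσ : σ c = -c := by linear_combination hσc
  have h1 : A * u * u * v + A * v + B * u * v * v + B * u - 2 * u * v = 0 := by
    linear_combination (u * v) * htr - A * v * hu2 - B * u * hv2
  have hsq : c * c * (u * v) + (u - v) * (u - v) * (A * B) = 0 := by
    rw [hc]
    linear_combination (u * A + v * B) * h1 - u * v * (A + B + 1) * hAB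
  have hc0 : c ≠ 0 := fun e0 => by
    rw [e0, mul_zero, zero_mul, zero_add] at hsq
    exact mul_ne_zero (mul_ne_zero (sub_ne_zero.2 huv) (sub_ne_zero.2 huv)) (mul_ne_zero hA0 hB0) hsq
  obtain ⟨ε, hε⟩ : ∃ ε, ε = (h : Matrix (Fin 3) (Fin 3) F) j i / c := ⟨_, rfl⟩
  have hNε : ε * σ ε = -1 := by
    rw [hε, eJI]
    simp only [map_div₀, map_mul, map_sub, map_inv₀, hcσ, hσu, hσv, hσσ]
    field_simp
    rw [hA, hB] at hsq
    linear_combination hsq
  have eJJ : (h : Matrix (Fin 3) (Fin 3) F) j j = 1 - c := by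
    rw [hent, ej, hjo0]
    simp only [map_zero, mul_zero, add_zero]
    rw [inv_mul_eq_iff_eq_mul₀ (mul_ne_zero hu0 hv0), hc]
    linear_combination h1 + v * hNd - u * hB
  refine ⟨i, j, ε, c, hij, hio, hjo, hσ ▸ hNε, hc0, fun h20 hc1 => ?_, ?_⟩
  · have h1 : u * A + v * B = 0 := by linear_combination hc.symm.trans hc1 + h20
    have h2 : A * A - B * B = 0 := by
      have h3 := congrArg σ h1
      rw [map_add, map_mul, map_mul, map_zero, hσA, hσB] at h3
      linear_combination (σ u * A) * h1 - (v * B) * h3 - (A * A) * hu2 + (B * B) * hv2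
    exact one_ne_zero (by linear_combination h2 - (A + B + 1) * hAB + (B * B + A * B) * h20)
  · refine ⟨hσ ▸ hσc, ?_, h, hh, ?_⟩
    · rw [smul_dotProduct, hDual_dot hf, planePt, hf.add_left, hf.smul_left, f_single_left hF,
        f_single_left hF, ← hσ]
      simp [hij, hij.symm, hNε]
    · ext l m
      rw [tvMat, Matrix.add_apply, vecMulVec_apply, Matrix.one_apply, Pi.smul_apply, smul_eq_mul, hDual,
        f_single_left hF, one_mul, ← hσ]
      have hεσ : c * σ ε = (h : Matrix (Fin 3) (Fin 3) F) i j := by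
        rw [hε, eJI, eIJ]
        simp only [map_div₀, map_mul, map_sub, map_inv₀, hcσ, hσu, hσv, hσσ]
        field_simp
        ring
      rcases three_cases hij hio hjo l with rfl | rfl | rfl <;>
        rcases three_cases hij hio hjo m with rfl | rfl | rfl
      · rw [eII]; simp [planePt, hij]
      · rw [← hεσ]; simp [planePt, hij, hij.symm]
      · rw [hent, hoi0, hoj0, hio0]; simp [planePt, hio.symm, hjo.symm, hio]
      · rw [show (h : Matrix (Fin 3) (Fin 3) F) l m = ε * c by rw [hε, div_mul_cancel₀ _ hc0]]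
        simp [planePt, hij, hij.symm]
      · rw [eJJ]
        simp [planePt, hij.symm]
        linear_combination -c * hNε
      · rw [hent, hoi0, hoj0, hjo0]; simp [planePt, hio.symm, hjo.symm, hjo]
      · rw [hent, hoi0, hoj0, hio0]; simp [planePt, hio.symm, hjo.symm]
      · rw [hent, hoi0, hoj0, hjo0]; simp [planePt, hio.symm, hjo.symm]
      · rw [hent, hoi0, hoj0, eo]
        simp [planePt, hio.symm, hjo.symm]
        rw [hσ, cO, mul_one]
        field_simp

/-- a non-monomial element with a single entry in a column gives everything -/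
theorem su_le_of_fix (st : Over hF M) (hq : 3 ≤ q) {x : GL (Fin 3) F} (hx : x ∈ M) (hxm : ¬ IsMono3 x)
    {o b : Fin 3} (hb : SingleAt x o b) : Cfsg.GU 3 F q ⊓ Cfsg.Geo.specialLinear (Fin 3) F ≤ M := by
  classical
  have hf := isUnitaryForm_hermForm hF 3
  obtain ⟨y, hy, hym, hyo⟩ := exists_fix hF st hx hxm hb
  obtain ⟨i, j, ε, c, hij, hio, hjo, hNε, hc0, hc1, hC⟩ := exists_plane_tv hF st hq hy hym hyo
  obtain ⟨z, hz⟩ : ∃ z, z = planePt i j ε := ⟨_, rfl⟩
  have hε0 : ε ≠ 0 := left_ne_zero_of_mul (hNε ▸ neg_ne_zero.2 one_ne_zero)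
  -- all points of the plane have the same parameters
  have hmove : ∀ ξ ξ' d, ξ * qConj hF ξ = -1 → ξ' * qConj hF ξ' = -1 → InC hF M (planePt i j ξ) d →
      InC hF M (planePt i j ξ') d := by
    intro ξ ξ' d hξ hξ' hd
    obtain ⟨η, hη⟩ : ∃ η, η = ξ' / ξ := ⟨_, rfl⟩
    have hηc : η ∈ circ hF := by
      rw [mem_circ, hη, map_div₀, div_mul_div_comm, hξ, hξ', div_self (neg_ne_zero.2 one_ne_zero)]
    obtain ⟨t, ht⟩ : ∃ t : Fin 3 → F, t = fun m => if m = i then 1 else if m = j then η else η⁻¹ := ⟨_, rfl⟩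
    obtain ⟨g, hg, hge⟩ := st.diag_mem hF t (fun m => by
      rw [ht]; simp only; split_ifs
      · exact one_mem_circ hF
      · exact hηc
      · exact inv_mem_circ hF hηc) (by
      have huniv : (Finset.univ : Finset (Fin 3)) = {i, j, o} :=
        (Finset.eq_univ_iff_forall.2 fun m => by simpa using three_cases hij hio hjo m).symm
      rw [huniv, Finset.prod_insert (by simp [hij, hio]), Finset.prod_pair hjo, ht]
      simp [hij.symm, hio.symm, hjo.symm, circ_ne_zero hF hηc])
    refine ⟨hd.1, ?_⟩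
    have h1 := hd.2.conj hg
    rw [smul_vecMul, hDual_vecMul_inv hf (isometry_of_mem hF st.le hg)] at h1
    have hgz : (g : Matrix (Fin 3) (Fin 3) F) *ᵥ planePt i j ξ = planePt i j ξ' := by
      have hξ0 : ξ ≠ 0 := left_ne_zero_of_mul (hξ ▸ neg_ne_zero.2 one_ne_zero)
      funext m
      rw [hge, Matrix.mulVec_diagonal, ht]
      rcases three_cases hij hio hjo m with rfl | rfl | rfl
      · simp [planePt, hij]
      · simp [planePt, hij.symm, hη, div_mul_cancel₀ _ hξ0]
      · simp [planePt, hio.symm, hjo.symm]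
    rwa [hgz] at h1
  have hiso : ∀ ξ : F, ξ * qConj hF ξ = -1 →
      Cfsg.hermForm 3 F q (planePt i j ξ) (planePt i j ξ) = 0 := fun ξ hξ => by
    simp only [planePt, hf.add_left, hf.smul_left, f_single_left hF]
    simp [hij, hij.symm, hξ]
  -- multipliers
  obtain ⟨d, hd, hd0, hd1⟩ : ∃ d, InC hF M z d ∧ d ≠ 0 ∧ d ≠ -1 := by
    by_cases h : c = -1
    · refine ⟨-c, hz ▸ hC.neg, neg_ne_zero.2 hc0, ?_⟩
      rw [h, neg_neg]
      exact fun e => hc1 (by linear_combination e) (by rw [h]; exact e.symm)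
    · exact ⟨c, hz ▸ hC, hc0, h⟩
  rw [hz] at hd
  have hdd : qConj hF d = -d := by linear_combination hd.1
  have hmult : ∀ u ∈ circ hF, (1 + d * (1 - u)) * qConj hF (1 + d * (1 - u)) ∈ multRing hF M z := by
    intro u hu
    have hu' := (mem_circ hF).1 hu
    have hfx : qConj hF ((1 + d * (1 - u)) * qConj hF (1 + d * (1 - u))) =
        (1 + d * (1 - u)) * qConj hF (1 + d * (1 - u)) := by rw [map_mul, qConj_qConj, mul_comm]
    refine ⟨hfx, fun a ha => ?_⟩
    rw [hz] at ha ⊢
    rcases eq_or_ne (1 + d * (1 - u)) 0 with hl | hl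
    · rw [hl, zero_mul, zero_mul]; exact inC_zero
    obtain ⟨e', he'⟩ : ∃ e', e' = -qConj hF u / qConj hF ε := ⟨_, rfl⟩
    have hNe' : e' * qConj hF e' = -1 := by
      rw [he', map_div₀, map_neg, qConj_qConj, qConj_qConj, div_mul_div_comm, mul_comm (qConj hF ε) ε, hNε]
      linear_combination -hu'
    obtain ⟨-, g, hg, hgv⟩ := (hmove ε e' d hNε hNe' hd).2
    have hfz : Cfsg.hermForm 3 F q (planePt i j ε) (planePt i j e') = 1 - u := by
      simp only [planePt, hf.add_left, hf.smul_left, f_single_left hF]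
      simp [hij, hij.symm, he', qConj_qConj]
      field_simp
      ring
    obtain ⟨ξ, hξ⟩ : ∃ ξ, ξ = (ε + d * (1 - u) * e') / (1 + d * (1 - u)) := ⟨_, rfl⟩
    have hgz : (g : Matrix (Fin 3) (Fin 3) F) *ᵥ planePt i j ε = (1 + d * (1 - u)) • planePt i j ξ := by
      rw [hgv, uTv_mulVec hf, hfz, hξ]
      simp only [planePt, smul_add, smul_smul, mul_div_cancel₀ _ hl, add_smul, one_smul]
      abel
    have hNξ : ξ * qConj hF ξ = -1 := by
      have h1 := isometry_of_mem hF st.le hg (planePt i j ε) (planePt i j ε)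
      rw [hgz, hiso ε hNε, hf.smul_left, herm_smul_right hf, mul_eq_zero, mul_eq_zero] at h1
      have h2 := (h1.resolve_left hl).resolve_left ((map_ne_zero _).2 hl)
      simp only [planePt, hf.add_left, hf.smul_left, f_single_left hF] at h2
      simp [hij, hij.symm] at h2
      linear_combination h2
    have hsum : (1 + d * (1 - u)) * qConj hF (1 + d * (1 - u)) * a +
        qConj hF ((1 + d * (1 - u)) * qConj hF (1 + d * (1 - u)) * a) = 0 := by
      rw [map_mul, hfx]
      linear_combination ((1 + d * (1 - u)) * qConj hF (1 + d * (1 - u))) * ha.1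
    refine hmove ξ ε _ hNξ hNε ⟨hsum, ?_⟩
    have h1 := ha.2.conj hg
    rw [smul_vecMul, hDual_vecMul_inv hf (isometry_of_mem hF st.le hg), hgz, hDual_smul hf, smul_smul,
      hasTv_smul_iff hl, smul_smul] at h1
    rwa [show (1 + d * (1 - u)) * qConj hF (1 + d * (1 - u)) * a =
      (1 + d * (1 - u)) * (a * qConj hF (1 + d * (1 - u))) by ring]
  have hfull : UFull (qConj hF) (Cfsg.hermForm 3 F q) M z := by
    refine uFull_of_multRing (hz ▸ hiso ε hNε) hc0 (hz ▸ hC) ?_
    obtain ⟨V, hV⟩ : ∃ V : Finset F,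
        V = (circ hF).image fun u => (1 + d * (1 - u)) * qConj hF (1 + d * (1 - u)) := ⟨_, rfl⟩
    have hVc : q + 1 ≤ 2 * V.card := by
      rw [← card_circ hF, hV]
      refine Finset.card_le_mul_card_image (s := circ hF)
        (f := fun u => (1 + d * (1 - u)) * qConj hF (1 + d * (1 - u))) 2 fun t _ => ?_
      by_contra hlt
      obtain ⟨x₁, x₂, x₃, h₁, h₂, h₃, n12, n13, n23⟩ := Finset.two_lt_card_iff.1 (not_le.1 hlt)
      have heq : ∀ x ∈ (circ hF).filter (fun u => (1 + d * (1 - u)) * qConj hF (1 + d * (1 - u)) = t),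
          (d * (1 - d)) * (x * x) + (t - 1 + 2 * (d * d)) * x + (-(d * (1 + d))) = 0 := fun x hx => by
        obtain ⟨hx', hxt⟩ := Finset.mem_filter.1 hx
        rw [← hxt]
        simp only [map_add, map_mul, map_sub, map_one, hdd]
        linear_combination (-(d * d * x) + d + d * d) * (mem_circ hF).1 hx'
      have q1 := heq _ h₁; have q2 := heq _ h₂; have q3 := heq _ h₃
      have f12 := (mul_eq_zero.1 (show (x₁ - x₂) * ((d * (1 - d)) * (x₁ + x₂) + (t - 1 + 2 * (d * d))) = 0 by
        linear_combination q1 - q2)).resolve_left (sub_ne_zero.2 n12)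
      have f13 := (mul_eq_zero.1 (show (x₁ - x₃) * ((d * (1 - d)) * (x₁ + x₃) + (t - 1 + 2 * (d * d))) = 0 by
        linear_combination q1 - q3)).resolve_left (sub_ne_zero.2 n13)
      have h0 : (d * (1 - d)) * (x₂ - x₃) = 0 := by linear_combination f12 - f13
      refine mul_ne_zero (mul_ne_zero hd0 (sub_ne_zero.2 fun e => hd1 ?_)) (sub_ne_zero.2 n23) h0
      rw [← e, map_one] at hdd
      rw [← e]; exact hdd
    let K : AddSubgroup F := (multRing hF M z).toAddSubgroup
    let Fx : AddSubgroup F := (RingHom.eqLocusField (qConj hF : F →+* F) (RingHom.id F)).toSubring.toAddSubgroup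
    have hKF : K ≤ Fx := fun m hm => hm.1
    have hFxc : Nat.card Fx = q := by
      rw [← fixed_card3 hF, ← Fintype.card_subtype, ← Nat.card_eq_fintype_card]
      exact Nat.card_congr (Equiv.subtypeEquivRight fun m => Iff.rfl)
    have hKc : V.card ≤ Nat.card K := by
      rw [Nat.card_eq_fintype_card, Fintype.card_subtype]
      refine Finset.card_le_card fun m hm => Finset.mem_filter.2 ⟨Finset.mem_univ _, ?_⟩
      rw [hV] at hm
      obtain ⟨u, hu, rfl⟩ := Finset.mem_image.1 hm
      exact hmult u hu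
    have hKF' : K = Fx := by
      obtain ⟨k, hk⟩ := AddSubgroup.card_dvd_of_le hKF
      refine AddSubgroup.eq_of_le_of_card_ge hKF ?_
      rw [hFxc] at hk ⊢
      rcases k with _ | _ | k
      · simp at hk; omega
      · omega
      · nlinarith
    intro m hm
    have : m ∈ Fx := hm
    rw [← hKF'] at this
    exact this
  -- three points
  obtain ⟨η, hη, hη1, -⟩ := exists_circ_ne hF
  have hNη : ε * η * qConj hF (ε * η) = -1 := by
    rw [map_mul]; linear_combination (η * qConj hF η) * hNε - (mem_circ hF).1 hη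
  have hfull2 : UFull (qConj hF) (Cfsg.hermForm 3 F q) M (planePt i j (ε * η)) :=
    ⟨hiso _ hNη, fun a ha => (hmove ε (ε * η) a hNε hNη ⟨ha, hz ▸ hfull.2 a ha⟩).2⟩
  obtain ⟨P, hP, δ, hδ, -, hPe⟩ := st.perm_mem hF (Equiv.swap i o) j
  have h3 := hfull.conj hf hP (isometry_of_mem hF st.le hP)
  rw [hz] at hfull
  refine su_le_of_three hF hq hfull hfull2 h3 (Fintype.linearIndependent_iff.2 fun a ha => ?_)
  simp only [Fin.sum_univ_three, cons_val] at ha
  have hPo : ((P : Matrix (Fin 3) (Fin 3) F) *ᵥ z) o = δ i * z i := by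
    have := monMat_mulVec (Equiv.swap i o) δ z i
    rwa [Equiv.swap_apply_left, ← hPe] at this
  have ho' := congrFun ha o
  simp only [Pi.add_apply, Pi.smul_apply, smul_eq_mul, Pi.zero_apply, hPo] at ho'
  rw [hz] at ho'
  simp [planePt, hio.symm, hjo.symm, hij, circ_ne_zero hF (hδ i)] at ho'
  rw [ho', zero_smul, add_zero] at ha
  have hi' := congrFun ha i
  have hj' := congrFun ha j
  simp [planePt, hij, hij.symm] at hi' hj'
  have ha1 : a 1 = 0 := (mul_eq_zero.1 (show a 1 * (ε * (η - 1)) = 0 by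
    linear_combination hj' - ε * hi')).resolve_right (mul_ne_zero hε0 (sub_ne_zero.2 hη1))
  intro m
  fin_cases m
  · show a 0 = 0; linear_combination hi' - ha1
  · exact ha1
  · exact ho'

end CfsgLib.MaxSub.SuThree
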