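import Cfsg.Agent.Lib.MaxSub.SuThree.FrameTools

/-!
An overgroup of the monomial subgroup in which every element with a one-entry column is monomial:
such elements with a zero entry are monomial, and some entry has norm different from one.
-/

set_option autoImplicit false
set_option linter.unusedSectionVars false

namespace CfsgLib.MaxSub.SuThree

open Matrix CfsgLib.MaxSub CfsgLib.MaxSub.UFrame CfsgLib.MaxSub.DecompMax
open scoped MatrixGroups

variable {F : Type*} [Field F] [Fintype F] [DecidableEq F] {q : ℕ}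

/-- a one-entry column forces a monomial element -/
def NoFix (M : Subgroup (GL (Fin 3) F)) : Prop :=
  ∀ x ∈ M, ∀ o b : Fin 3, SingleAt x o b → IsMono3 x

variable (hF : Fintype.card F = q ^ 2) {M : Subgroup (GL (Fin 3) F)}
include hF

theorem circ_pow {μ : F} (hμ : μ ∈ circ hF) : μ ^ (q + 1) = 1 := by
  rw [pow_succ', ← qConj_apply hF]; exact (mem_circ hF).1 hμ

/-- a circle element whose cube is not a sign -/
theorem exists_circ_cube (hq : 3 ≤ q) (h5 : q ≠ 5) :
    ∃ μ ∈ circ hF, μ ^ 3 ≠ 1 ∧ μ ^ 3 ≠ -1 := by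
  classical
  by_contra hno
  push Not at hno
  have h6 : ∀ μ ∈ circ hF, μ ^ 6 = 1 := fun μ hμ => by
    by_cases h : μ ^ 3 = 1
    · linear_combination (μ ^ 3 + 1) * h
    · linear_combination (μ ^ 3 - 1) * hno μ hμ h
  have hle : (circ hF).card ≤ 6 := by
    refine le_trans (Finset.card_le_card (t := (Polynomial.nthRoots 6 (1 : F)).toFinset) fun μ hμ => ?_)
      ((Multiset.toFinset_card_le _).trans (Polynomial.card_nthRoots 6 (1 : F)))
    rw [Multiset.mem_toFinset, Polynomial.mem_nthRoots (by norm_num)]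
    exact h6 μ hμ
  rw [card_circ] at hle
  obtain ⟨μ, hμ, hμ1, hμ2⟩ := exists_circ_ne hF
  have hp := circ_pow hF hμ
  have hs := h6 μ hμ
  rcases (by omega : q = 3 ∨ q = 4) with rfl | rfl
  · rcases mul_eq_zero.1 (show (μ - 1) * (μ + 1) = 0 by linear_combination -(μ ^ 2) * hp + hs) with h | h
    · exact hμ1 (sub_eq_zero.1 h)
    · exact hμ2 (eq_neg_of_add_eq_zero_left h)
  · exact hμ1 (by linear_combination -μ * hp + hs)

/-- elements with a zero entry are monomial -/
theorem mono_of_zero (hq : 3 ≤ q) (h5 : q ≠ 5) (st : Over hF M) (hN : NoFix M) {g : GL (Fin 3) F} (hg : g ∈ M)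
    {a b : Fin 3} (h0 : (g : Matrix (Fin 3) (Fin 3) F) a b = 0) : IsMono3 g := by
  classical
  by_contra hgm
  obtain ⟨μ, hμ, hμ1, hμ2⟩ := exists_circ_cube hF hq h5
  have hμ0 := circ_ne_zero hF hμ
  obtain ⟨G, hG⟩ : ∃ G, G = (g : Matrix (Fin 3) (Fin 3) F) := ⟨_, rfl⟩
  rw [← hG] at h0
  obtain ⟨d, hd⟩ : ∃ d : Fin 3 → F, d = fun k => if k = b then (μ * μ)⁻¹ else μ := ⟨_, rfl⟩
  obtain ⟨c, c', hcc, hcb, hc'b⟩ := exists_others b
  have hprod : ∏ k, d k = 1 := by
    have huniv : (Finset.univ : Finset (Fin 3)) = {c, c', b} :=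
      (Finset.eq_univ_iff_forall.2 fun m => by simpa using three_cases hcc hcb hc'b m).symm
    rw [huniv, Finset.prod_insert (by simp [hcc, hcb]), Finset.prod_pair hc'b, hd]
    simp [hcb, hc'b]
    field_simp
  obtain ⟨x, hx, hxe, -⟩ := st.conj_diag hF hg d (fun k => by
    rw [hd]; simp only; split_ifs
    · exact inv_mem_circ hF (mul_mem_circ hF hμ hμ)
    · exact hμ) hprod
  obtain ⟨κ, hκ⟩ : ∃ κ, κ = (μ * μ * μ)⁻¹ := ⟨_, rfl⟩
  have hent : ∀ l m, (x : Matrix (Fin 3) (Fin 3) F) l m =
      μ * ((if l = m then 1 else 0) + (κ - 1) * (G l b * qConj hF (G m b))) := by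
    intro l m
    rw [hxe, ← hG]
    have h1 := st.rows hF hg l m
    rw [← hG] at h1
    rw [← h1, mul_add, Finset.mul_sum, ← sub_eq_iff_eq_add', ← Finset.sum_sub_distrib,
      Finset.sum_eq_single b (fun k _ hk => by rw [hd]; simp [hk]) (by simp), hd]
    simp only [if_true, hκ]
    field_simp
  obtain ⟨l, m, hlm, hla, hma⟩ := exists_others a
  have hrow : ∀ {l m : Fin 3}, l ≠ m → l ≠ a → m ≠ a → G l b ≠ 0 := fun {l m} hlm hla hma e =>
    hgm (hN g hg b m fun k hk => by
      rcases three_cases hlm hla hma k with rfl | rfl | rfl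
      · exact hG ▸ e
      · exact absurd rfl hk
      · exact hG ▸ h0)
  have hnl := hrow hlm hla hma
  have hnm := hrow hlm.symm hma hla
  have hκ1 : κ - 1 ≠ 0 := fun e => hμ1 (by
    rw [hκ, sub_eq_zero, inv_eq_one] at e
    linear_combination e)
  have hxm : IsMono3 x := hN x hx a a fun k hk => by
    rw [hent, if_neg hk, h0, map_zero, mul_zero, mul_zero, add_zero, mul_zero]
  have key : ∀ {l m : Fin 3}, l ≠ m → G l b ≠ 0 → G m b ≠ 0 → 1 + (κ - 1) * (G m b * qConj hF (G m b)) = 0 := by
    intro l m hlm hl hm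
    obtain ⟨t, ht⟩ := hxm.single m
    have h := ht m
    by_cases he : m = t
    · have h2 := ht l (he ▸ hlm)
      rw [hent, if_neg hlm, zero_add] at h2
      exact absurd h2 (mul_ne_zero hμ0 (mul_ne_zero hκ1 (mul_ne_zero hl ((map_ne_zero _).2 hm))))
    · have h2 := h he
      rw [hent, if_pos rfl] at h2
      exact (mul_eq_zero.1 h2).resolve_left hμ0
  have e1 := key hlm hnl hnm
  have e2 := key hlm.symm hnm hnl
  have hcol := st.cols hF hg b b
  rw [← hG, sum_three hlm hla hma, if_pos rfl, h0, map_zero, mul_zero, add_zero] at hcol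
  have hκ2 : κ = -1 := by linear_combination e1 + e2 - (κ - 1) * hcol
  apply hμ2
  rw [hκ, inv_eq_iff_eq_inv, inv_neg, inv_one] at hκ2
  linear_combination hκ2

/-- some entry has norm different from one -/
theorem exists_norm_ne (hq : 3 ≤ q) (st : Over hF M) (hfull : ∀ x ∈ M, ∀ a b : Fin 3,
      (x : Matrix (Fin 3) (Fin 3) F) a b = 0 → IsMono3 x)
    {g : GL (Fin 3) F} (hg : g ∈ M) (hgm : ¬ IsMono3 g) :
    ∃ x ∈ M, ¬ IsMono3 x ∧ ∃ i k : Fin 3,
      (x : Matrix (Fin 3) (Fin 3) F) i k * qConj hF ((x : Matrix (Fin 3) (Fin 3) F) i k) ≠ 1 := by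
  classical
  by_contra hcon
  push Not at hcon
  obtain ⟨G, hG⟩ : ∃ G, G = (g : Matrix (Fin 3) (Fin 3) F) := ⟨_, rfl⟩
  have hne : ∀ l k, G l k ≠ 0 := fun l k e => hgm (hfull g hg l k (hG ▸ e))
  have hN1 : ∀ l k, G l k * qConj hF (G l k) = 1 := fun l k => hG ▸ hcon g hg hgm l k
  have h20 : (2 : F) = 0 := by
    have h := st.cols hF hg 0 0
    rw [← hG, Fin.sum_univ_three, if_pos rfl, hN1, hN1, hN1] at h
    linear_combination h
  have hT : ∀ u ∈ circ hF, u + qConj hF u = 0 ∨ u + qConj hF u = 1 := by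
    intro u hu
    rcases eq_or_ne u 1 with rfl | hu1
    · left; rw [map_one]; linear_combination h20
    have hu0 := circ_ne_zero hF hu
    obtain ⟨d, hd⟩ : ∃ d : Fin 3 → F, d = ![u, 1, u⁻¹] := ⟨_, rfl⟩
    obtain ⟨x, hx, hxe, hxg⟩ := st.conj_diag hF hg d (fun k => by
      rw [hd]; fin_cases k
      · exact hu
      · exact one_mem_circ hF
      · exact inv_mem_circ hF hu) (by simp [hd, Fin.prod_univ_three, hu0])
    have hdiag : ∀ l, (x : Matrix (Fin 3) (Fin 3) F) l l = u + qConj hF u + 1 := fun l => by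
      rw [hxe, ← hG, Fin.sum_univ_three, hN1, hN1, hN1, hd, circ_conj hF hu]
      simp; ring
    by_cases hxm : IsMono3 x
    · right
      by_cases hS : u + qConj hF u + 1 = 0
      · linear_combination hS - h20
      exfalso
      apply hu1
      have hoff : ∀ l m, l ≠ m → (x : Matrix (Fin 3) (Fin 3) F) l m = 0 := fun l m hlm => by
        obtain ⟨t, ht⟩ := hxm.single m
        by_cases he : m = t
        · exact ht l (he ▸ hlm)
        · exact absurd ((hdiag m).symm.trans (ht m he)) hS
      have h0 : ∀ k, d k = u + qConj hF u + 1 := fun k => by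
        have h := hxg 0 k
        rw [Units.val_mul, Matrix.mul_apply, Finset.sum_eq_single 0
          (fun r _ hr => by rw [hoff 0 r (Ne.symm hr), zero_mul]) (by simp), hdiag, ← hG] at h
        exact mul_left_cancel₀ (hne 0 k) (by rw [← h]; ring)
      have := (h0 0).trans (h0 1).symm
      simpa [hd] using this
    · left
      have h := hcon x hx hxm 0 0
      rw [hdiag, map_add, map_one, trace_fixed hF] at h
      have hsq : (u + qConj hF u) * (u + qConj hF u) = 0 := by
        linear_combination h - (u + qConj hF u) * h20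
      exact mul_self_eq_zero.1 hsq
  have hc := card_traces_one hF (q := q)
  have hsub : (circ hF).image (fun u => u + qConj hF u) ⊆ {0, 1} := fun t ht => by
    obtain ⟨u, hu, rfl⟩ := Finset.mem_image.1 ht
    simpa using hT u hu
  have h2 := (Finset.card_le_card hsub).trans Finset.card_le_two
  omega

end CfsgLib.MaxSub.SuThree
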