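import Cfsg.Agent.Lib.MaxSub.SuThree.Chord
import Cfsg.Agent.Lib.MaxSub.UFrame
import Cfsg.Agent.Lib.Classical.SemiUnitaryClasses

/-!
Overgroups of the monomial subgroup of the three-dimensional special unitary group: basic tools.
-/

set_option autoImplicit false
set_option linter.unusedSectionVars false

namespace CfsgLib.MaxSub.SuThree

open Matrix CfsgLib.MaxSub CfsgLib.MaxSub.UFrame CfsgLib.MaxSub.DecompMax
open scoped MatrixGroups

variable {F : Type*} [Field F] [Fintype F] [DecidableEq F] {q : ℕ}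

/-- a subgroup between the monomial elements and the special unitary group -/
structure Over (hF : Fintype.card F = q ^ 2) (M : Subgroup (GL (Fin 3) F)) : Prop where
  le : M ≤ Cfsg.GU 3 F q ⊓ Cfsg.Geo.specialLinear (Fin 3) F
  mons : IsOver (id : Fin 3 → Fin 3) M q

/-- every column has one non-zero entry at most -/
def IsMono3 (x : GL (Fin 3) F) : Prop := IsBlockMono (id : Fin 3 → Fin 3) (x : Matrix (Fin 3) (Fin 3) F)

/-- column `o` is supported at `b` -/
def SingleAt (x : GL (Fin 3) F) (o b : Fin 3) : Prop :=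
  ∀ m, m ≠ b → (x : Matrix (Fin 3) (Fin 3) F) m o = 0

theorem isMono3_of_single {x : GL (Fin 3) F} (h : ∀ o, ∃ b, SingleAt x o b) : IsMono3 x := fun o => by
  obtain ⟨b, hb⟩ := h o
  exact ⟨b, fun i j hi hj => by cases hi; exact hb j hj⟩

theorem IsMono3.single {x : GL (Fin 3) F} (h : IsMono3 x) (o : Fin 3) : ∃ b, SingleAt x o b := by
  obtain ⟨b, hb⟩ := h o
  exact ⟨b, fun m hm => hb o m rfl hm⟩

theorem three_cases {i j l : Fin 3} (hij : i ≠ j) (hil : i ≠ l) (hjl : j ≠ l) :
    ∀ m : Fin 3, m = i ∨ m = j ∨ m = l := by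
  revert i j l; decide

theorem sum_three {R : Type*} [AddCommMonoid R] {i j l : Fin 3} (hij : i ≠ j) (hil : i ≠ l) (hjl : j ≠ l)
    (f : Fin 3 → R) : ∑ m, f m = f i + f j + f l := by
  have huniv : (Finset.univ : Finset (Fin 3)) = {i, j, l} :=
    (Finset.eq_univ_iff_forall.2 fun m => by simpa using three_cases hij hil hjl m).symm
  rw [huniv, Finset.sum_insert (by simp [hij, hil]), Finset.sum_pair hjl, add_assoc]

theorem exists_others (o : Fin 3) : ∃ i j : Fin 3, i ≠ j ∧ i ≠ o ∧ j ≠ o := by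
  revert o; decide

variable (hF : Fintype.card F = q ^ 2) {M : Subgroup (GL (Fin 3) F)}
include hF

theorem fixed_card3 : (Finset.univ.filter fun x : F => qConj hF x = x).card = q := by
  rw [← Fintype.card_subtype, ← Nat.card_eq_fintype_card]
  exact CfsgLib.Classical.SemiUnitaryClasses.natCard_fixed hF

theorem trace_fixed (x : F) : qConj hF (x + qConj hF x) = x + qConj hF x := by
  rw [map_add, qConj_qConj, add_comm]

/-- traces of norm-one elements: at least half of the fixed field -/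
theorem card_traces_one :
    q + 2 ≤ 2 * ((circ hF).image fun u => u + qConj hF u).card := by
  classical
  obtain ⟨T, hT⟩ : ∃ T : Finset F, T = (circ hF).image fun u => u + qConj hF u := ⟨_, rfl⟩
  rw [← hT]
  have h2 : (2 : F) ∈ T := by
    rw [hT]; exact Finset.mem_image.2 ⟨1, one_mem_circ hF, by rw [map_one]; ring⟩
  have hone : ∀ u ∈ circ hF, u + qConj hF u = 2 → u = 1 := fun u hu h => by
    have := (mem_circ hF).1 hu
    exact sub_eq_zero.1 ((mul_self_eq_zero (a := u - 1)).1 (by linear_combination u * h - this))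
  have hsub : ((circ hF).erase 1).image (fun u => u + qConj hF u) ⊆ T.erase 2 := by
    intro t ht
    obtain ⟨u, hu, rfl⟩ := Finset.mem_image.1 ht
    refine Finset.mem_erase.2 ⟨fun e => Finset.ne_of_mem_erase hu (hone u (Finset.mem_of_mem_erase hu) e), ?_⟩
    rw [hT]; exact Finset.mem_image_of_mem _ (Finset.mem_of_mem_erase hu)
  have hfib : ((circ hF).erase 1).card ≤
      2 * (((circ hF).erase 1).image fun u => u + qConj hF u).card := by
    refine Finset.card_le_mul_card_image (s := (circ hF).erase 1) (f := fun u => u + qConj hF u) 2 fun t _ => ?_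
    by_contra hlt
    obtain ⟨x₁, x₂, x₃, h₁, h₂, h₃, n12, n13, n23⟩ := Finset.two_lt_card_iff.1 (not_le.1 hlt)
    have heq : ∀ x ∈ ((circ hF).erase 1).filter (fun u => u + qConj hF u = t), x * x - t * x + 1 = 0 := by
      intro x hx
      obtain ⟨hx', hxt⟩ := Finset.mem_filter.1 hx
      rw [← hxt]
      linear_combination -((mem_circ hF).1 (Finset.mem_of_mem_erase hx'))
    have q1 := heq _ h₁; have q2 := heq _ h₂; have q3 := heq _ h₃
    have f12 : x₁ + x₂ - t = 0 := (mul_eq_zero.1 (show (x₁ - x₂) * (x₁ + x₂ - t) = 0 by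
      linear_combination q1 - q2)).resolve_left (sub_ne_zero.2 n12)
    have f13 : x₁ + x₃ - t = 0 := (mul_eq_zero.1 (show (x₁ - x₃) * (x₁ + x₃ - t) = 0 by
      linear_combination q1 - q3)).resolve_left (sub_ne_zero.2 n13)
    exact n23 (by linear_combination f12 - f13)
  have h3 := Finset.card_le_card hsub
  rw [Finset.card_erase_of_mem h2] at h3
  rw [Finset.card_erase_of_mem (one_mem_circ hF), card_circ] at hfib
  have := Finset.card_pos.2 ⟨_, h2⟩
  omega

/-- the inverse of an element of the overgroup -/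
theorem Over.inv_entry (st : Over hF M) {x : GL (Fin 3) F} (hx : x ∈ M) (i j : Fin 3) :
    ((x⁻¹ : GL (Fin 3) F) : Matrix (Fin 3) (Fin 3) F) i j = qConj hF ((x : Matrix (Fin 3) (Fin 3) F) j i) := by
  have h := isometry_of_mem hF st.le hx
    (((x⁻¹ : GL (Fin 3) F) : Matrix (Fin 3) (Fin 3) F) *ᵥ Pi.single j 1) (Pi.single i 1)
  rw [mulVec_mulVec, ← Units.val_mul, mul_inv_cancel, Units.val_one, one_mulVec, f_single_left hF,
    f_single_right hF, map_one, mul_one, one_mul] at h
  rw [mulVec_single_one, mulVec_single_one] at h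
  exact h.symm

/-- columns are orthonormal -/
theorem Over.cols (st : Over hF M) {x : GL (Fin 3) F} (hx : x ∈ M) (a b : Fin 3) :
    ∑ l, (x : Matrix (Fin 3) (Fin 3) F) l a * qConj hF ((x : Matrix (Fin 3) (Fin 3) F) l b) =
      if a = b then 1 else 0 := by
  have h : ((x⁻¹ * x : GL (Fin 3) F) : Matrix (Fin 3) (Fin 3) F) b a = if a = b then 1 else 0 := by
    rw [inv_mul_cancel, Units.val_one, Matrix.one_apply]; simp [eq_comm]
  rw [← h, Units.val_mul, Matrix.mul_apply]
  exact Finset.sum_congr rfl fun l _ => by rw [st.inv_entry hF hx]; ring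

/-- rows are orthonormal -/
theorem Over.rows (st : Over hF M) {x : GL (Fin 3) F} (hx : x ∈ M) (a b : Fin 3) :
    ∑ l, (x : Matrix (Fin 3) (Fin 3) F) a l * qConj hF ((x : Matrix (Fin 3) (Fin 3) F) b l) =
      if a = b then 1 else 0 := by
  have h : ((x * x⁻¹ : GL (Fin 3) F) : Matrix (Fin 3) (Fin 3) F) a b = if a = b then 1 else 0 := by
    rw [mul_inv_cancel, Units.val_one, Matrix.one_apply]
  rw [← h, Units.val_mul, Matrix.mul_apply]
  exact Finset.sum_congr rfl fun l _ => by rw [st.inv_entry hF hx]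

/-- diagonal elements of determinant one -/
theorem Over.diag_mem (st : Over hF M) (d : Fin 3 → F) (hd : ∀ i, d i ∈ circ hF) (hp : ∏ i, d i = 1) :
    ∃ h ∈ M, (h : Matrix (Fin 3) (Fin 3) F) = Matrix.diagonal d := by
  obtain ⟨h, hh, hhe, -⟩ := mon_mem hF st.mons 1 id (fun _ => rfl) d (fun i => (mem_circ hF).1 (hd i))
    (by simp [hp])
  refine ⟨h, hh, hhe.trans ?_⟩
  ext i j
  by_cases e : i = j
  · subst e; simp [monMat]
  · simp [monMat, e]

/-- conjugates of diagonal elements -/
theorem Over.conj_diag (st : Over hF M) {g : GL (Fin 3) F} (hg : g ∈ M) (d : Fin 3 → F)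
    (hd : ∀ i, d i ∈ circ hF) (hp : ∏ i, d i = 1) :
    ∃ x ∈ M, (∀ l m, (x : Matrix (Fin 3) (Fin 3) F) l m =
        ∑ i, d i * ((g : Matrix (Fin 3) (Fin 3) F) l i * qConj hF ((g : Matrix (Fin 3) (Fin 3) F) m i))) ∧
      ∀ l i, ((x * g : GL (Fin 3) F) : Matrix (Fin 3) (Fin 3) F) l i = (g : Matrix (Fin 3) (Fin 3) F) l i * d i := by
  obtain ⟨h, hh, hdiag⟩ := st.diag_mem hF d hd hp
  refine ⟨g * h * g⁻¹, mul_mem (mul_mem hg hh) (inv_mem hg), fun l m => ?_, fun l i => ?_⟩
  · rw [Units.val_mul, Units.val_mul, hdiag, Matrix.mul_apply]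
    refine Finset.sum_congr rfl fun i _ => ?_
    rw [Matrix.mul_diagonal, st.inv_entry hF hg]
    ring
  · rw [inv_mul_cancel_right, Units.val_mul, hdiag, Matrix.mul_diagonal]

/-- an element of the overgroup permuting the coordinate lines -/
theorem Over.perm_mem (st : Over hF M) (σ : Equiv.Perm (Fin 3)) (p : Fin 3) :
    ∃ h ∈ M, ∃ d : Fin 3 → F, (∀ i, d i ∈ circ hF) ∧ (∀ i, i ≠ p → d i = 1) ∧
      (h : Matrix (Fin 3) (Fin 3) F) = monMat σ d := by
  obtain ⟨d, hd, hd', hdet⟩ := exists_sign_diag hF σ p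
  obtain ⟨h, hh, hhe, -⟩ := mon_mem hF st.mons σ σ (fun _ => rfl) d hd hdet
  exact ⟨h, hh, d, fun i => (mem_circ hF).2 (hd i), hd', hhe⟩

/-- entries of a product with a monomial matrix -/
theorem monMat_mul_apply (σ : Equiv.Perm (Fin 3)) (d : Fin 3 → F) (A : Matrix (Fin 3) (Fin 3) F) (m o : Fin 3) :
    (monMat σ d * A) (σ m) o = d m * A m o := by
  have := monMat_mulVec σ d (fun r => A r o) m
  rw [← this]; rfl

end CfsgLib.MaxSub.SuThree
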