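import Cfsg.Agent.Lib.MaxSub.SuThree.OrthLines
import Cfsg.Agent.Lib.MaxSub.SuThree.Basic
import Cfsg.Agent.Lib.MaxSub.SkewSubfield

/-!
The orthogonal subfield groups are maximal in `SU_3(q)`, `q` odd and at least 7.
-/

set_option autoImplicit false
set_option linter.unusedSectionVars false
set_option linter.style.haveILetI false
set_option linter.unusedSimpArgs false

namespace CfsgLib.MaxSub.SuThree

open Matrix CfsgLib.MaxSub CfsgLib.MaxSub.SuThree.Orth
open scoped MatrixGroups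

variable {F : Type*} [Field F] [Fintype F]

/-- the orthogonal subfield groups are maximal in the three-dimensional special unitary group -/
theorem orth_maximal (q : ℕ) (hF : Fintype.card F = q ^ 2) (hodd : Odd q) (h7 : 7 ≤ q)
    (F₀ : Subfield F) (P : GL (Fin 3) F) (hcard : Fintype.card F = Nat.card F₀ ^ 2)
    (hP : Cfsg.Geo.IsFormRationalStructure (Cfsg.hermForm 3 F q) F₀ 1 P) :
    Cfsg.Geo.IsMaximalIn (Cfsg.GU 3 F q ⊓ Cfsg.Geo.specialLinear (Fin 3) F)
      (Cfsg.Geo.subfieldSubgroup F₀ P ⊓ (Cfsg.GU 3 F q ⊓ Cfsg.Geo.specialLinear (Fin 3) F)) := by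
  classical
  have hf := isUnitaryForm_hermForm hF 3
  obtain ⟨σ, hσ⟩ : ∃ σ : F ≃+* F, σ = qConj hF := ⟨_, rfl⟩
  have hpow : ∀ x, σ x = x ^ q := fun x => hσ ▸ qConj_apply hF x
  rw [← hσ] at hf
  have h2 : (2 : F) ≠ 0 := fun h => by
    have h1 : ringChar F = 2 := CharP.ringChar_of_prime_eq_zero Nat.prime_two (by exact_mod_cast h)
    have h3 := FiniteField.even_card_of_char_two h1
    rw [hF] at h3
    exact (Nat.not_even_iff_odd.2 (hodd.pow (n := 2))) (Nat.even_iff.2 h3)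
  have hq : Nat.card F₀ = q := Nat.pow_left_injective (by norm_num) (hcard.symm.trans hF)
  haveI : Fintype F₀ := Fintype.ofFinite F₀
  have hfix0 : ∀ x ∈ F₀, σ x = x := fun x hx => by
    have := congrArg Subtype.val (FiniteField.pow_card (⟨x, hx⟩ : F₀))
    rw [Fintype.card_eq_nat_card, hq] at this
    rw [hpow]; simpa using this
  have hfixed : ∀ x, σ x = x ↔ x ∈ F₀ := by
    refine fun x => ⟨fun hx => ?_, hfix0 x⟩
    have hle : (Finset.univ.filter fun y : F => y ∈ F₀) ⊆ (Polynomial.X ^ q - Polynomial.X :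
        Polynomial F).roots.toFinset := fun y hy => by
      rw [Finset.mem_filter] at hy
      rw [Multiset.mem_toFinset, Polynomial.mem_roots (FiniteField.X_pow_card_sub_X_ne_zero F (by omega))]
      simp [← hpow, hfix0 y hy.2]
    have hx' : x ∈ (Polynomial.X ^ q - Polynomial.X : Polynomial F).roots.toFinset := by
      rw [Multiset.mem_toFinset, Polynomial.mem_roots (FiniteField.X_pow_card_sub_X_ne_zero F (by omega))]
      simp [← hpow, hx]
    rw [← Finset.eq_of_subset_of_card_le hle (le_trans (Multiset.toFinset_card_le _) (le_trans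
      (Polynomial.card_roots' _) (by
        rw [FiniteField.X_pow_card_sub_X_natDegree_eq F (show 1 < q by omega), ← Fintype.card_subtype,
          ← Nat.card_eq_fintype_card]
        exact hq.ge)))] at hx'
    exact (Finset.mem_filter.1 hx').2
  obtain ⟨C, hC⟩ : ∃ C : (Fin 3 → F) → Fin 3 → F,
      ∀ x, C x = (P : Matrix (Fin 3) (Fin 3) F) *ᵥ fun i => σ ((((P⁻¹ : GL (Fin 3) F) :
        Matrix (Fin 3) (Fin 3) F) *ᵥ x) i) := ⟨_, fun _ => rfl⟩
  have hPa : ∀ a, C ((P : Matrix (Fin 3) (Fin 3) F) *ᵥ a) = (P : Matrix (Fin 3) (Fin 3) F) *ᵥ fun i => σ (a i) :=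
    fun a => by rw [hC, inv_mulVec_mulVec]
  have hbas : ∀ x, ∃ a, x = (P : Matrix (Fin 3) (Fin 3) F) *ᵥ a := fun x => ⟨_, (mulVec_mulVec_inv P x).symm⟩
  have hcform : ∀ x y, Cfsg.hermForm 3 F q (C x) (C y) = σ (Cfsg.hermForm 3 F q x y) := by
    intro x y
    obtain ⟨a, rfl⟩ := hbas x
    obtain ⟨b, rfl⟩ := hbas y
    rw [hPa, hPa]
    obtain ⟨p, hp⟩ : ∃ p : Fin 3 → Fin 3 → F,
        ∀ i, p i = (P : Matrix (Fin 3) (Fin 3) F) *ᵥ Pi.single i 1 := ⟨_, fun _ => rfl⟩
    have hg : ∀ i j, σ (Cfsg.hermForm 3 F q (p i) (p j)) = Cfsg.hermForm 3 F q (p i) (p j) := fun i j => by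
      rw [hfixed, hp, hp]
      have := hP (Pi.single i 1) (Pi.single j 1) (fun k => by
        rw [Pi.single_apply]; split <;> simp [one_mem, zero_mem]) (fun k => by
        rw [Pi.single_apply]; split <;> simp [one_mem, zero_mem])
      rwa [one_mul] at this
    have hexp : ∀ a : Fin 3 → F, (P : Matrix (Fin 3) (Fin 3) F) *ᵥ a = ∑ i, a i • p i := fun a => by
      conv_lhs => rw [pi_eq_sum_univ' a, mulVec_sum]
      exact Finset.sum_congr rfl fun i _ => by rw [mulVec_smul, hp]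
    simp only [hexp, Fin.sum_univ_three, hf.add_left, herm_add_right hf, hf.smul_left, herm_smul_right hf, map_add,
      map_mul, hg, hf.involutive]
  have R : RS σ (Cfsg.hermForm 3 F q) C q := by
    refine ⟨hf, fun x y => ?_, fun a x => ?_, fun x => ?_, hcform, h2, hF, hpow, h7⟩
    · rw [hC, hC, hC, ← mulVec_add, mulVec_add ((P⁻¹ : GL (Fin 3) F) : Matrix (Fin 3) (Fin 3) F)]
      congr 1
      funext i
      simp
    · rw [hC, hC, ← mulVec_smul, mulVec_smul ((P⁻¹ : GL (Fin 3) F) : Matrix (Fin 3) (Fin 3) F)]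
      congr 1
      funext i
      simp
    · obtain ⟨a, rfl⟩ := hbas x
      rw [hPa, hPa]
      congr 1
      funext i
      exact hf.involutive (a i)
  have hinc : ∀ u : Fin 3 → F₀, C (incP F₀ P u) = incP F₀ P u := fun u => by
    rw [incP_apply, hPa]
    congr 1
    funext i
    exact hfix0 _ (u i).2
  have hrat : ∀ z, C z = z → ∃ w, z = incP F₀ P w := fun z hz => by
    obtain ⟨a, rfl⟩ := hbas z
    rw [hPa] at hz
    have e := congrArg (fun v => ((P⁻¹ : GL (Fin 3) F) : Matrix (Fin 3) (Fin 3) F) *ᵥ v) hz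
    simp only [inv_mulVec_mulVec] at e
    exact ⟨fun i => ⟨a i, (hfixed _).1 (congrFun e i)⟩, by rw [incP_apply]⟩
  have hiff : ∀ g : GL (Fin 3) F, g ∈ Cfsg.Geo.subfieldSubgroup F₀ P ↔ Com C g := fun g => by
    rw [mem_subfieldSubgroup_iff]
    constructor
    · rintro ⟨c, hc, h⟩
      refine ⟨c, hc, fun x => ?_⟩
      obtain ⟨θ, hθ0, hθ⟩ := R.exists_theta
      obtain ⟨p, r, hp, hr, rfl⟩ := R.decomp x hθ0 hθ
      have key : ∀ z, C z = z → C (c • ap g z) = c • ap g z := fun z hz => by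
        obtain ⟨w, rfl⟩ := hrat z hz
        obtain ⟨w', hw'⟩ := h w
        rw [ap, hw', hinc]
      rw [R.c_add p, R.c_smul θ, hp, hr]
      simp only [ap_add, ap_smul, smul_add, smul_comm c, R.c_add, R.c_smul θ, R.c_smul (σ θ), key p hp, key r hr]
    · rintro ⟨c, hc, h⟩
      exact ⟨c, hc, fun u => hrat _ (by
        show C (c • ap g (incP F₀ P u)) = c • ap g (incP F₀ P u)
        rw [h, hinc])⟩
  have hS : ∀ g, g ∈ Cfsg.GU 3 F q ⊓ Cfsg.Geo.specialLinear (Fin 3) F ↔ InS (Cfsg.hermForm 3 F q) g := fun g => by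
    constructor
    · rintro ⟨h1, h2⟩
      refine ⟨h1, ?_⟩
      have : Matrix.GeneralLinearGroup.det g = 1 := h2
      simpa using congrArg Units.val this
    · rintro ⟨h1, h2⟩
      exact ⟨h1, Units.ext h2⟩
  refine ⟨lt_of_le_not_ge inf_le_right fun hle => ?_, fun M hHM hMG => ?_⟩
  · obtain ⟨g, hg, hgc⟩ := R.exists_outside
    exact hgc ((hiff g).1 (hle ((hS g).2 hg)).1)
  by_cases hex : ∀ g ∈ M, g ∈ Cfsg.Geo.subfieldSubgroup F₀ P
  · exact Or.inl (le_antisymm (fun g hg => ⟨hex g hg, hMG hg⟩) hHM)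
  refine Or.inr (le_antisymm hMG ?_)
  push Not at hex
  obtain ⟨g, hg, hgc⟩ := hex
  have S : Sub (Cfsg.hermForm 3 F q) C M :=
    ⟨fun g h1 h2 => hHM ⟨(hiff g).2 h2, (hS g).2 h1⟩, fun g h => (hS g).1 (hMG h)⟩
  obtain ⟨a, b, c, ha, hb, hc, hind⟩ := R.full_of_outside (Finset.univ.filter fun x : F => x ∈ F₀)
    (fun x hx => hfix0 x (Finset.mem_filter.1 hx).2) (by
      rw [← Fintype.card_subtype, ← Nat.card_eq_fintype_card]
      exact h7.trans hq.ge) S hg (fun h => hgc ((hiff g).2 h))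
  rw [hσ] at ha hb hc
  exact su_le_of_three hF (by omega) ha hb hc hind

end CfsgLib.MaxSub.SuThree
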