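import Cfsg.Agent.Lib.MaxSub.HermFull
import Cfsg.Agent.Lib.Geom.SpinorNorm
import Cfsg.Agent.Lib.Geom.FiniteField

/-!
A rational structure on the three-dimensional hermitian space, given by its conjugation: frames, unipotent
elements, and the involutions with a non-singular centre.
-/

set_option autoImplicit false
set_option linter.unusedSectionVars false
set_option linter.style.haveILetI false

namespace CfsgLib.MaxSub.SuThree.Orth

open Matrix
open scoped MatrixGroups

variable {F : Type*} [Field F] [Fintype F]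

/-- the action on vectors -/
abbrev ap (g : GL (Fin 3) F) (x : Fin 3 → F) : Fin 3 → F := (g : Matrix (Fin 3) (Fin 3) F) *ᵥ x

theorem ap_mul (g h : GL (Fin 3) F) (x : Fin 3 → F) : ap (g * h) x = ap g (ap h x) := by
  simp only [ap, Units.val_mul, mulVec_mulVec]

theorem ap_one (x : Fin 3 → F) : ap (1 : GL (Fin 3) F) x = x := by simp only [ap, Units.val_one, one_mulVec]

theorem ap_inv (g : GL (Fin 3) F) (x : Fin 3 → F) : ap g (ap g⁻¹ x) = x := mulVec_mulVec_inv g x

theorem inv_ap (g : GL (Fin 3) F) (x : Fin 3 → F) : ap g⁻¹ (ap g x) = x := inv_mulVec_mulVec g x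

theorem ap_ext {g h : GL (Fin 3) F} (e : ∀ x, ap g x = ap h x) : g = h :=
  Units.ext (Matrix.ext_of_mulVec_single fun i => e (Pi.single i 1))

theorem ap_add (g : GL (Fin 3) F) (x y : Fin 3 → F) : ap g (x + y) = ap g x + ap g y := mulVec_add _ _ _

theorem ap_sub (g : GL (Fin 3) F) (x y : Fin 3 → F) : ap g (x - y) = ap g x - ap g y := mulVec_sub _ _ _

theorem ap_smul (g : GL (Fin 3) F) (c : F) (x : Fin 3 → F) : ap g (c • x) = c • ap g x := mulVec_smul _ _ _

theorem ap_ne_zero (g : GL (Fin 3) F) {x : Fin 3 → F} (h : x ≠ 0) : ap g x ≠ 0 := fun e => h (by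
  rw [← inv_ap g x, e]; exact mulVec_zero _)

/-- a hermitian space with a compatible conjugation -/
structure RS (σ : F ≃+* F) (f : (Fin 3 → F) → (Fin 3 → F) → F) (C : (Fin 3 → F) → (Fin 3 → F)) (q : ℕ) : Prop where
  form : Cfsg.Geo.IsUnitaryForm σ f
  c_add : ∀ x y, C (x + y) = C x + C y
  c_smul : ∀ (a : F) x, C (a • x) = σ a • C x
  c_inv : ∀ x, C (C x) = x
  c_form : ∀ x y, f (C x) (C y) = σ (f x y)
  two : (2 : F) ≠ 0
  card : Fintype.card F = q ^ 2
  pow : ∀ x, σ x = x ^ q
  seven : 7 ≤ q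

variable {σ : F ≃+* F} {f : (Fin 3 → F) → (Fin 3 → F) → F} {C : (Fin 3 → F) → (Fin 3 → F)} {q : ℕ}

/-- isometries -/
def Isom (f : (Fin 3 → F) → (Fin 3 → F) → F) (g : GL (Fin 3) F) : Prop :=
  ∀ x y, f (ap g x) (ap g y) = f x y

theorem Isom.mul {g h : GL (Fin 3) F} (hg : Isom f g) (hh : Isom f h) : Isom f (g * h) := fun x y => by
  rw [ap_mul, ap_mul, hg, hh]

theorem Isom.inv {g : GL (Fin 3) F} (hg : Isom f g) : Isom f g⁻¹ := fun x y => by
  rw [← hg (ap g⁻¹ x) (ap g⁻¹ y), ap_inv, ap_inv]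

/-- isometries of determinant one -/
def InS (f : (Fin 3 → F) → (Fin 3 → F) → F) (g : GL (Fin 3) F) : Prop :=
  Isom f g ∧ (g : Matrix (Fin 3) (Fin 3) F).det = 1

theorem InS.mul {g h : GL (Fin 3) F} (hg : InS f g) (hh : InS f h) : InS f (g * h) :=
  ⟨hg.1.mul hh.1, by rw [Units.val_mul, det_mul, hg.2, hh.2, one_mul]⟩

/-- commuting with the conjugation -/
def Rat (C : (Fin 3 → F) → (Fin 3 → F)) (g : GL (Fin 3) F) : Prop := ∀ x, C (ap g x) = ap g (C x)

theorem Rat.mul {g h : GL (Fin 3) F} (hg : Rat C g) (hh : Rat C h) : Rat C (g * h) := fun x => by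
  rw [ap_mul, ap_mul, hg, hh]

theorem Rat.fix {g : GL (Fin 3) F} (hg : Rat C g) {x : Fin 3 → F} (hx : C x = x) : C (ap g x) = ap g x := by
  rw [hg, hx]

/-- commuting with the conjugation up to a scalar -/
def Com (C : (Fin 3 → F) → (Fin 3 → F)) (g : GL (Fin 3) F) : Prop :=
  ∃ c : F, c ≠ 0 ∧ ∀ x, C (c • ap g x) = c • ap g (C x)

theorem Rat.com {g : GL (Fin 3) F} (h : Rat C g) : Com C g :=
  ⟨1, one_ne_zero, fun x => by rw [one_smul, one_smul, h]⟩

/-- three vectors span the space -/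
def Span3 (a b c : Fin 3 → F) : Prop := ∀ x, ∃ l m n : F, x = l • a + m • b + n • c

theorem span3_of_indep {a b c : Fin 3 → F}
    (h : ∀ l m n : F, l • a + m • b + n • c = 0 → l = 0 ∧ m = 0 ∧ n = 0) : Span3 a b c := by
  have hli : LinearIndependent F ![a, b, c] := by
    rw [Fintype.linearIndependent_iff]
    intro g hg
    rw [Fin.sum_univ_three] at hg
    simp only [Matrix.cons_val] at hg
    obtain ⟨h0, h1, h2⟩ := h _ _ _ hg
    intro i
    fin_cases i <;> assumption
  intro x
  let B := basisOfLinearIndependentOfCardEqFinrank hli (by simp [Module.finrank_fintype_fun_eq_card])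
  refine ⟨B.repr x 0, B.repr x 1, B.repr x 2, ?_⟩
  conv_lhs => rw [← B.sum_repr x]
  simp [B, Fin.sum_univ_three]

namespace RS

variable (R : RS σ f C q)
include R

theorem add_left (x y z : Fin 3 → F) : f (x + y) z = f x z + f y z := R.form.add_left x y z
theorem add_right (x y z : Fin 3 → F) : f x (y + z) = f x y + f x z := herm_add_right R.form x y z
theorem smul_left (c : F) (x y : Fin 3 → F) : f (c • x) y = c * f x y := R.form.smul_left c x y
theorem smul_right (c : F) (x y : Fin 3 → F) : f x (c • y) = σ c * f x y := herm_smul_right R.form c x y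
theorem zero_left (x : Fin 3 → F) : f 0 x = 0 := herm_zero_left R.form x
theorem zero_right (x : Fin 3 → F) : f x 0 = 0 := herm_zero_right R.form x
theorem neg_left (x y : Fin 3 → F) : f (-x) y = -f x y := by rw [← neg_one_smul F, R.smul_left, neg_one_mul]
theorem neg_right (x y : Fin 3 → F) : f x (-y) = -f x y := by
  rw [← neg_one_smul F, R.smul_right, map_neg, map_one, neg_one_mul]
theorem sub_left (x y z : Fin 3 → F) : f (x - y) z = f x z - f y z := by
  rw [sub_eq_add_neg, R.add_left, R.neg_left, ← sub_eq_add_neg]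
theorem sub_right (x y z : Fin 3 → F) : f x (y - z) = f x y - f x z := by
  rw [sub_eq_add_neg, R.add_right, R.neg_right, ← sub_eq_add_neg]
theorem perp_symm {x y : Fin 3 → F} (h : f x y = 0) : f y x = 0 := herm_eq_zero_comm R.form h

theorem ss (a : F) : σ (σ a) = a := R.form.involutive a

theorem eq_zero_of_perp {z : Fin 3 → F} (h : ∀ x, f x z = 0) : z = 0 := by
  by_contra hz
  obtain ⟨⟨x, hx⟩, -⟩ := R.form.nondegenerate z hz
  exact hx (h x)

/-- orthogonal to a spanning triple -/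
theorem eq_zero_of_span {a b c z : Fin 3 → F} (h : Span3 a b c) (ha : f z a = 0) (hb : f z b = 0)
    (hc : f z c = 0) : z = 0 := by
  refine R.eq_zero_of_perp fun x => R.perp_symm ?_
  obtain ⟨l, m, n, rfl⟩ := h x
  rw [R.add_right, R.add_right, R.smul_right, R.smul_right, R.smul_right, ha, hb, hc]
  ring

theorem c_sub (x y : Fin 3 → F) : C (x - y) = C x - C y := by
  have h := R.c_add (x - y) y
  rw [sub_add_cancel] at h
  rw [h]; abel

theorem c_zero : C 0 = 0 := by
  have := R.c_smul 0 0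
  rwa [zero_smul, map_zero, zero_smul] at this

theorem fx_smul {x : Fin 3 → F} (hx : C x = x) {a : F} (ha : σ a = a) : C (a • x) = a • x := by
  rw [R.c_smul, hx, ha]

theorem fx_add {x y : Fin 3 → F} (hx : C x = x) (hy : C y = y) : C (x + y) = x + y := by rw [R.c_add, hx, hy]

theorem fx_sub {x y : Fin 3 → F} (hx : C x = x) (hy : C y = y) : C (x - y) = x - y := by rw [R.c_sub, hx, hy]

theorem real {x y : Fin 3 → F} (hx : C x = x) (hy : C y = y) : σ (f x y) = f x y := by
  rw [← R.c_form, hx, hy]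

theorem symm {x y : Fin 3 → F} (hx : C x = x) (hy : C y = y) : f y x = f x y := by
  rw [R.form.herm y x, R.real hx hy]

theorem half {a : F} (h : σ a = a) : σ (a / 2) = a / 2 := by rw [map_div₀, map_ofNat, h]

theorem exists_theta : ∃ θ : F, θ ≠ 0 ∧ σ θ = -θ := by
  obtain ⟨a, ha⟩ : ∃ a, σ a ≠ a := by
    by_contra hno
    push Not at hno
    exact R.form.ne_refl (RingEquiv.ext hno)
  exact ⟨a - σ a, sub_ne_zero.2 (Ne.symm ha), by rw [map_sub, R.ss, neg_sub]⟩

/-- both parts of a vector are fixed by the conjugation -/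
theorem decomp (x : Fin 3 → F) {θ : F} (h0 : θ ≠ 0) (hθ : σ θ = -θ) :
    ∃ p r, C p = p ∧ C r = r ∧ x = p + θ • r := by
  refine ⟨(2 : F)⁻¹ • (x + C x), (2 * θ)⁻¹ • (x - C x), ?_, ?_, ?_⟩
  · rw [R.c_smul, R.c_add, R.c_inv, map_inv₀, map_ofNat, add_comm]
  · rw [R.c_smul, R.c_sub, R.c_inv, map_inv₀, map_mul, map_ofNat, hθ, mul_neg, inv_neg, neg_smul, ← smul_neg,
      neg_sub]
  · rw [smul_smul, show θ * (2 * θ)⁻¹ = (2 : F)⁻¹ by field_simp, ← smul_add,
      show x + C x + (x - C x) = (2 : F) • x by rw [two_smul]; abel, inv_smul_smul₀ R.two]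

theorem exists_pair {z : Fin 3 → F} (hz : z ≠ 0) : ∃ x, C x = x ∧ f x z ≠ 0 := by
  by_contra hno
  push Not at hno
  obtain ⟨θ, hθ0, hθ⟩ := R.exists_theta
  refine hz (R.eq_zero_of_perp fun x => ?_)
  obtain ⟨p, r, hp, hr, rfl⟩ := R.decomp x hθ0 hθ
  rw [R.add_left, R.smul_left, hno p hp, hno r hr, mul_zero, add_zero]

/-- a line stable under the conjugation has a fixed vector -/
theorem exists_fx_multiple {z : Fin 3 → F} {l : F} (h : C z = l • z) :
    ∃ m : F, m ≠ 0 ∧ C (m • z) = m • z := by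
  obtain ⟨θ, hθ0, hθ⟩ := R.exists_theta
  by_cases hl : 1 + l = 0
  · refine ⟨θ, hθ0, ?_⟩
    rw [R.c_smul, h, hθ, smul_smul, eq_neg_of_add_eq_zero_right hl]
    congr 1; ring
  · refine ⟨1 + l, hl, ?_⟩
    have e : (1 + l) • z = z + C z := by rw [h, add_smul, one_smul]
    rw [e, R.c_add, R.c_inv, add_comm]

/-- a nonzero projection commuting with the conjugation has an anisotropic fixed value -/
theorem exists_aniso (P : (Fin 3 → F) →ₗ[F] (Fin 3 → F)) (hC : ∀ x, C x = x → C (P x) = P x)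
    (hadj : ∀ x y, f (P x) y = f (P x) (P y)) (hne : ∃ x, P x ≠ 0) :
    ∃ x, C x = x ∧ f (P x) (P x) ≠ 0 := by
  by_contra hno
  push Not at hno
  obtain ⟨x, hx⟩ := hne
  have h0 : ∀ a b, C a = a → C b = b → f (P a) (P b) = 0 := fun a b ha hb => by
    have h := hno (a + b) (R.fx_add ha hb)
    rw [map_add, R.add_left, R.add_right, R.add_right, hno a ha, hno b hb, R.symm (hC a ha) (hC b hb), zero_add,
      add_zero] at h
    exact (mul_eq_zero.1 (show (2 : F) * f (P a) (P b) = 0 by linear_combination h)).resolve_left R.two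
  obtain ⟨θ, hθ0, hθ⟩ := R.exists_theta
  refine hx (R.eq_zero_of_perp fun y => R.perp_symm ?_)
  obtain ⟨p, r, hp, hr, rfl⟩ := R.decomp x hθ0 hθ
  obtain ⟨p', r', hp', hr', rfl⟩ := R.decomp y hθ0 hθ
  rw [hadj]
  simp only [map_add, map_smul, R.add_left, R.add_right, R.smul_left, R.smul_right, h0 p p' hp hp',
    h0 p r' hp hr', h0 r p' hr hp', h0 r r' hr hr', mul_zero, add_zero]

theorem exists_notMem_span (S : Finset (Fin 3 → F)) (hS : S.card ≤ 2) :
    ∃ x, x ∉ Submodule.span F (S : Set (Fin 3 → F)) := by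
  by_contra hno
  push Not at hno
  have h := finrank_span_finset_le_card (R := F) S
  rw [Set.finrank, (Submodule.eq_top_iff').2 hno, finrank_top, Module.finrank_fin_fun] at h
  omega

theorem exists_rat_notMem (S : Finset (Fin 3 → F)) (hS : S.card ≤ 2) :
    ∃ x, C x = x ∧ x ∉ Submodule.span F (S : Set (Fin 3 → F)) := by
  by_contra hno
  push Not at hno
  obtain ⟨x, hx⟩ := R.exists_notMem_span S hS
  obtain ⟨θ, hθ0, hθ⟩ := R.exists_theta
  obtain ⟨p, r, hp, hr, rfl⟩ := R.decomp x hθ0 hθ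
  exact hx (Submodule.add_mem _ (hno p hp) (Submodule.smul_mem _ _ (hno r hr)))

/-- three orthogonal anisotropic vectors span -/
theorem span_orth {a b c : Fin 3 → F} (ha : f a a ≠ 0) (hb : f b b ≠ 0) (hc : f c c ≠ 0)
    (hab : f a b = 0) (hac : f a c = 0) (hbc : f b c = 0) : Span3 a b c := by
  refine span3_of_indep fun l m n h => ?_
  have h1 := congrArg (f · a) h
  have h2 := congrArg (f · b) h
  have h3 := congrArg (f · c) h
  simp only [R.add_left, R.smul_left, hab, hac, hbc, R.perp_symm hab, R.perp_symm hac, R.perp_symm hbc,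
    R.zero_left, mul_zero, add_zero, zero_add, mul_eq_zero, ha, hb, hc, or_false] at h1 h2 h3
  exact ⟨h1, h2, h3⟩

/-- a fixed vector orthogonal to two orthogonal anisotropic fixed vectors -/
theorem exists_third {a b : Fin 3 → F} (ha : C a = a) (hb : C b = b) (haa : f a a ≠ 0) (hbb : f b b ≠ 0)
    (hab : f a b = 0) : ∃ c, C c = c ∧ f c c ≠ 0 ∧ f c a = 0 ∧ f c b = 0 := by
  classical
  obtain ⟨x, hx, hxs⟩ := R.exists_rat_notMem {a, b} Finset.card_le_two
  obtain ⟨c, hc⟩ : ∃ c, c = x - (f x a / f a a) • a - (f x b / f b b) • b := ⟨_, rfl⟩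
  have hcc : C c = c := hc ▸ R.fx_sub (R.fx_sub hx (R.fx_smul ha (by rw [map_div₀, R.real hx ha, R.real ha ha])))
    (R.fx_smul hb (by rw [map_div₀, R.real hx hb, R.real hb hb]))
  have hca : f c a = 0 := by
    rw [hc, R.sub_left, R.sub_left, R.smul_left, R.smul_left, R.perp_symm hab, mul_zero, sub_zero,
      div_mul_cancel₀ _ haa, sub_self]
  have hcb : f c b = 0 := by
    rw [hc, R.sub_left, R.sub_left, R.smul_left, R.smul_left, hab, mul_zero, sub_zero,
      div_mul_cancel₀ _ hbb, sub_self]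
  refine ⟨c, hcc, fun h0 => hxs ?_, hca, hcb⟩
  have hc0 : c = 0 := by
    by_contra hne
    obtain ⟨y, hy, hyc⟩ := R.exists_pair hne
    refine hne (R.eq_zero_of_span (span3_of_indep fun l m n h => ?_ : Span3 a b c) hca hcb h0)
    have h1 := congrArg (f · a) h
    have h2 := congrArg (f · b) h
    simp only [R.add_left, R.smul_left, hca, hcb, hab, R.perp_symm hab, R.zero_left, mul_zero, add_zero, zero_add,
      mul_eq_zero, haa, hbb, or_false] at h1 h2
    rw [h1, h2, zero_smul, zero_smul, zero_add, zero_add] at h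
    exact ⟨h1, h2, (smul_eq_zero.1 h).resolve_right hne⟩
  rw [hc, sub_sub, sub_eq_zero] at hc0
  rw [hc0]
  exact Submodule.add_mem _ (Submodule.smul_mem _ _ (Submodule.subset_span (by simp)))
    (Submodule.smul_mem _ _ (Submodule.subset_span (by simp)))

/-- there is a fixed isotropic vector -/
theorem exists_iso : ∃ u, C u = u ∧ u ≠ 0 ∧ f u u = 0 := by
  classical
  obtain ⟨a, hac, ha⟩ := R.exists_aniso LinearMap.id (fun x h => h) (fun x y => rfl) (by
    obtain ⟨x, hx⟩ := R.exists_notMem_span ∅ (by simp)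
    exact ⟨x, fun h => hx (by rw [show x = 0 from h]; exact Submodule.zero_mem _)⟩)
  simp only [LinearMap.id_apply] at ha
  have haa : σ (f a a) = f a a := R.real hac hac
  obtain ⟨P, hP⟩ : ∃ P : (Fin 3 → F) →ₗ[F] (Fin 3 → F), ∀ x, P x = x - (f x a / f a a) • a := by
    refine ⟨{ toFun := fun x => x - (f x a / f a a) • a, map_add' := fun x y => ?_, map_smul' := fun c x => ?_ },
      fun x => rfl⟩
    · simp only [R.add_left, add_div, add_smul]; abel
    · simp only [R.smul_left, mul_div_assoc, mul_smul, smul_sub, RingHom.id_apply]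
  have hPa : ∀ x, f (P x) a = 0 := fun x => by
    rw [hP, R.sub_left, R.smul_left, div_mul_cancel₀ _ ha, sub_self]
  have hPc : ∀ x, C x = x → C (P x) = P x := fun x hx => by
    rw [hP]; exact R.fx_sub hx (R.fx_smul hac (by rw [map_div₀, R.real hx hac, haa]))
  obtain ⟨b, hbc, hb⟩ := R.exists_aniso P hPc
    (fun x y => by rw [hP y, R.sub_right, R.smul_right, hPa, mul_zero, sub_zero]) (by
      obtain ⟨x, hx⟩ := R.exists_notMem_span {a} (by simp)
      refine ⟨x, fun h => hx ?_⟩
      rw [hP, sub_eq_zero] at h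
      rw [h]
      exact Submodule.smul_mem _ _ (Submodule.subset_span (by simp)))
  obtain ⟨b', hb'⟩ : ∃ b', b' = P b := ⟨_, rfl⟩
  rw [← hb'] at hb
  have hbc' : C b' = b' := hb' ▸ hPc b hbc
  have hba : f b' a = 0 := hb' ▸ hPa b
  obtain ⟨c, hcc, hc, hca, hcb⟩ := R.exists_third hac hbc' ha hb (R.perp_symm hba)
  obtain ⟨K, hK⟩ : ∃ K : Subfield F, ∀ x, x ∈ K ↔ σ x = x :=
    ⟨RingHom.eqLocusField σ.toRingHom (RingHom.id F), fun x => Iff.rfl⟩
  haveI : Fintype K := Fintype.ofFinite K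
  obtain ⟨x, y, hxy⟩ := CfsgLib.Geom.exists_binary_eq (F := K) (a := ⟨f a a, (hK _).2 haa⟩)
    (b := ⟨f b' b', (hK _).2 (R.real hbc' hbc')⟩) (fun h => R.two (congrArg Subtype.val h))
    (fun h => ha (congrArg Subtype.val h)) (fun h => hb (congrArg Subtype.val h))
    ⟨-f c c, (hK _).2 (by rw [map_neg, R.real hcc hcc])⟩
  have hx : σ (x : F) = x := (hK _).1 x.2
  have hy : σ (y : F) = y := (hK _).1 y.2
  refine ⟨(x : F) • a + (y : F) • b' + c, R.fx_add (R.fx_add (R.fx_smul hac hx) (R.fx_smul hbc' hy)) hcc,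
    fun h => hc ?_, ?_⟩
  · have := congrArg (fun w => f w c) h
    simpa only [R.add_left, R.smul_left, R.perp_symm hca, R.perp_symm hcb, mul_zero, zero_add, R.zero_left] using this
  · have e := congrArg Subtype.val hxy
    simp only [R.add_left, R.add_right, R.smul_left, R.smul_right, hba, R.perp_symm hba, hca, hcb,
      R.perp_symm hca, R.perp_symm hcb, hx, hy]
    simp at e
    linear_combination e

end RS

/-- a fixed frame -/
structure Fr (f : (Fin 3 → F) → (Fin 3 → F) → F) (C : (Fin 3 → F) → (Fin 3 → F)) (u v e : Fin 3 → F) : Prop where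
  cu : C u = u
  cv : C v = v
  ce : C e = e
  uu : f u u = 0
  vv : f v v = 0
  uv : f u v = 1
  vu : f v u = 1
  ue : f u e = 0
  eu : f e u = 0
  ve : f v e = 0
  ev : f e v = 0
  ee : f e e ≠ 0

namespace Fr

variable {u v e : Fin 3 → F} (fr : Fr f C u v e)
include fr

theorem span (R : RS σ f C q) : Span3 u v e := by
  refine span3_of_indep fun l m n h => ?_
  have h1 := congrArg (f · v) h
  have h2 := congrArg (f · u) h
  have h3 := congrArg (f · e) h
  simp only [R.add_left, R.smul_left, R.zero_left, fr.uu, fr.vv, fr.uv, fr.vu, fr.ue, fr.eu, fr.ve, fr.ev,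
    mul_zero, mul_one, add_zero, zero_add, mul_eq_zero, fr.ee, or_false] at h1 h2 h3
  exact ⟨h1, h2, h3⟩

theorem decomp (R : RS σ f C q) (x : Fin 3 → F) :
    x = f x v • u + f x u • v + (f x e / f e e) • e := by
  obtain ⟨l, m, n, rfl⟩ := fr.span R x
  simp only [R.add_left, R.smul_left, fr.uu, fr.vv, fr.uv, fr.vu, fr.ue, fr.eu, fr.ve, fr.ev, mul_zero, mul_one,
    add_zero, zero_add, mul_div_cancel_right₀ _ fr.ee]

end Fr

/-- the matrix `x ↦ x + f(x,u) y + (s f(x,u) - f(x,y)) u` -/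
def eMat (f : (Fin 3 → F) → (Fin 3 → F) → F) (u y : Fin 3 → F) (s : F) : Matrix (Fin 3) (Fin 3) F :=
  1 + vecMulVec y (hDual f u) + vecMulVec u (s • hDual f u - hDual f y)

theorem eMat_mulVec (R : RS σ f C q) (u y : Fin 3 → F) (s : F) (x : Fin 3 → F) :
    eMat f u y s *ᵥ x = x + f x u • y + (s * f x u - f x y) • u := by
  rw [eMat, add_mulVec, add_mulVec, one_mulVec, vecMulVec_mulVec, vecMulVec_mulVec, sub_dotProduct,
    smul_dotProduct, hDual_dot R.form, hDual_dot R.form, smul_eq_mul]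
  simp only [op_smul_eq_smul]

theorem eMat_mul (R : RS σ f C q) {u y y' : Fin 3 → F} (huu : f u u = 0) (huy : f u y = 0) (hyu : f y' u = 0)
    (s s' : F) : eMat f u y s * eMat f u y' s' = eMat f u (y + y') (s + s' - f y' y) := by
  refine Matrix.ext_of_mulVec_single fun i => ?_
  rw [← mulVec_mulVec, eMat_mulVec R, eMat_mulVec R, eMat_mulVec R]
  simp only [R.add_left, R.add_right, R.smul_left, huu, huy, hyu, mul_zero, add_zero]
  module

theorem eMat_zero (R : RS σ f C q) (u : Fin 3 → F) : eMat f u 0 0 = 1 := by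
  refine Matrix.ext_of_mulVec_single fun i => ?_
  rw [eMat_mulVec R, one_mulVec, R.zero_right]
  module

theorem eMat_det (R : RS σ f C q) {u y : Fin 3 → F} (huu : f u u = 0) (huy : f u y = 0) (s : F) :
    (eMat f u y s).det = 1 := by
  obtain ⟨A, hA⟩ : ∃ A : Matrix (Fin 3) (Fin 2) F, A = Matrix.of fun i j => ![y i, u i] j := ⟨_, rfl⟩
  obtain ⟨B, hB⟩ : ∃ B : Matrix (Fin 2) (Fin 3) F, B = Matrix.of ![hDual f u, s • hDual f u - hDual f y] :=
    ⟨_, rfl⟩
  have e : eMat f u y s = 1 + A * B := by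
    ext i j
    simp [eMat, hA, hB, Matrix.mul_apply, Fin.sum_univ_two, vecMulVec_apply, add_assoc]
  rw [e, Matrix.det_one_add_mul_comm]
  have hyu : f y u = 0 := R.perp_symm huy
  have h : B * A = !![f y u, f u u; s * f y u - f y y, s * f u u - f u y] := by
    ext i j
    fin_cases i <;> fin_cases j <;>
      simp [hA, hB, Matrix.mul_apply, ← hDual_dot R.form, dotProduct, Finset.mul_sum, sub_mul, mul_assoc]
  rw [h, Matrix.det_fin_two]
  simp [huu, huy, hyu]

/-- the unipotent element -/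
def eGL (R : RS σ f C q) (u y : Fin 3 → F) (s : F) (huu : f u u = 0) (huy : f u y = 0) : GL (Fin 3) F where
  val := eMat f u y s
  inv := eMat f u (-y) (-s - f y y)
  val_inv := by
    rw [eMat_mul R huu huy (by rw [R.neg_left, R.perp_symm huy, neg_zero]), R.neg_left, add_neg_cancel,
      show s + (-s - f y y) - -f y y = 0 by ring, eMat_zero R]
  inv_val := by
    rw [eMat_mul R huu (by rw [R.neg_right, huy, neg_zero]) (R.perp_symm huy), R.neg_right, neg_add_cancel,
      show -s - f y y + s - -f y y = 0 by ring, eMat_zero R]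

/-- `g` is the unipotent map `x ↦ x + f(x,u) y + (s f(x,u) - f(x,y)) u` -/
def IsE (f : (Fin 3 → F) → (Fin 3 → F) → F) (g : GL (Fin 3) F) (u y : Fin 3 → F) (s : F) : Prop :=
  ∀ x, ap g x = x + f x u • y + (s * f x u - f x y) • u

namespace IsE

variable {g g' : GL (Fin 3) F} {u y y' : Fin 3 → F} {s s' : F}

theorem uniq (h : IsE f g u y s) (h' : IsE f g' u y s) : g = g' := ap_ext fun x => by rw [h, h']

theorem conj {h : GL (Fin 3) F} (hg : IsE f g u y s) (hh : Isom f h) :
    IsE f (h * g * h⁻¹) (ap h u) (ap h y) s := fun x => by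
  have hu : f (ap h⁻¹ x) u = f x (ap h u) := by rw [← hh (ap h⁻¹ x) u, ap_inv]
  have hy : f (ap h⁻¹ x) y = f x (ap h y) := by rw [← hh (ap h⁻¹ x) y, ap_inv]
  rw [ap_mul, ap_mul, hg, ap_add, ap_add, ap_smul, ap_smul, ap_inv, hu, hy]

theorem scale (R : RS σ f C q) {l : F} (h : IsE f g (l • u) y s) : IsE f g u (σ l • y) (l * σ l * s) := fun x => by
  rw [h, R.smul_right, R.smul_right, R.ss]
  module

theorem shift (R : RS σ f C q) {r : F} (h : IsE f g u (y + r • u) s) : IsE f g u y (s + r - σ r) := fun x => by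
  rw [h, R.add_right, R.smul_right]
  module

theorem mul (R : RS σ f C q) (h : IsE f g u y s) (h' : IsE f g' u y' s') (huu : f u u = 0) (huy : f u y = 0)
    (hyu : f y' u = 0) : IsE f (g * g') u (y + y') (s + s' - f y' y) := fun x => by
  rw [ap_mul, h, h']
  simp only [R.add_left, R.add_right, R.smul_left, huu, huy, hyu, mul_zero, add_zero]
  module

theorem inS (R : RS σ f C q) (h : IsE f g u y s) (huu : f u u = 0) (huy : f u y = 0)
    (hs : s + σ s = -f y y) : InS f g := by
  have e : g = eGL R u y s huu huy := h.uniq fun x => eMat_mulVec R u y s x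
  refine ⟨fun a b => ?_, ?_⟩
  · rw [h, h]
    simp only [R.add_left, R.add_right, R.smul_left, R.smul_right, huu, huy, R.perp_symm huy, map_sub, map_mul]
    rw [R.form.herm u b, R.form.herm y b]
    linear_combination (f a u * σ (f b u)) * hs
  · rw [e]; exact eMat_det R huu huy s

theorem rat (R : RS σ f C q) (h : IsE f g u y s) (hu : C u = u) (hy : C y = y) (hs : σ s = s) : Rat C g :=
  fun x => by
    have hxu : f (C x) u = σ (f x u) := by rw [← R.c_form, hu]
    have hxy : f (C x) y = σ (f x y) := by rw [← R.c_form, hy]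
    rw [h, h, R.c_add, R.c_add, R.c_smul, R.c_smul, hu, hy, map_sub, map_mul, hs, hxu, hxy]

theorem trace (R : RS σ f C q) {k : F} (h : IsE f g u 0 k) (hg : Isom f g) (huu : f u u = 0) (hu : u ≠ 0) :
    k + σ k = 0 := by
  obtain ⟨x, hx⟩ : ∃ x, f x u ≠ 0 := by
    by_contra hno
    push Not at hno
    exact hu (R.eq_zero_of_perp hno)
  have e := hg x x
  rw [h, R.zero_right, smul_zero, add_zero, sub_zero, R.add_left, R.add_right, R.add_right, R.smul_left,
    R.smul_left, R.smul_right, R.smul_right, huu, mul_zero, mul_zero, add_zero, R.form.herm u x, map_mul] at e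
  refine (mul_eq_zero.1 (?_ : (k + σ k) * (f x u * σ (f x u)) = 0)).resolve_right
    (mul_ne_zero hx ((map_ne_zero σ).2 hx))
  linear_combination e

end IsE

namespace RS

variable (R : RS σ f C q)
include R

theorem exists_E {u y : Fin 3 → F} (s : F) (huu : f u u = 0) (huy : f u y = 0) :
    ∃ g, IsE f g u y s := ⟨eGL R u y s huu huy, fun x => eMat_mulVec R u y s x⟩

/-- the rational unipotent element attached to `u` and `y` -/
theorem exists_EU {u y : Fin 3 → F} (hu : C u = u) (hy : C y = y) (huu : f u u = 0) (huy : f u y = 0) :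
    ∃ g, InS f g ∧ Rat C g ∧ IsE f g u y (-f y y / 2) := by
  obtain ⟨g, hg⟩ := R.exists_E (-f y y / 2) huu huy
  have hr : σ (-f y y / 2) = -f y y / 2 := R.half (by rw [map_neg, R.real hy hy])
  refine ⟨g, hg.inS R huu huy ?_, hg.rat R hu hy hr, hg⟩
  haveI : NeZero (2 : F) := ⟨R.two⟩
  rw [hr, add_halves]

/-- the involution fixing the line of an anisotropic fixed vector and negating its perp -/
theorem exists_rv {a : Fin 3 → F} (ha : C a = a) (haa : f a a ≠ 0) :
    ∃ g : GL (Fin 3) F, InS f g ∧ Rat C g ∧ ∀ x, ap g x = (2 * f x a / f a a) • a - x := by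
  obtain ⟨k, hk⟩ : ∃ k, k = -2 / f a a := ⟨_, rfl⟩
  obtain ⟨A, hA⟩ : ∃ A, A = -(1 + vecMulVec a (k • hDual f a)) := ⟨_, rfl⟩
  have hap : ∀ x, A *ᵥ x = (2 * f x a / f a a) • a - x := fun x => by
    rw [hA, neg_mulVec, add_mulVec, one_mulVec, vecMulVec_mulVec, smul_dotProduct, hDual_dot R.form, smul_eq_mul,
      op_smul_eq_smul, hk]
    module
  have hAA : A * A = 1 := by
    refine Matrix.ext_of_mulVec_single fun i => ?_
    rw [← mulVec_mulVec, hap, hap, one_mulVec, R.sub_left, R.smul_left, div_mul_cancel₀ _ haa]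
    generalize (Pi.single i (1 : F) : Fin 3 → F) = x
    match_scalars <;> field_simp <;> ring
  have hsr : σ (f a a) = f a a := R.real ha ha
  refine ⟨⟨A, A, hAA, hAA⟩, ⟨fun x y => ?_, ?_⟩, fun x => ?_, hap⟩
  · show f (A *ᵥ x) (A *ᵥ y) = f x y
    rw [hap, hap, R.sub_left, R.sub_right, R.sub_right, R.smul_left, R.smul_right, R.smul_left, R.smul_right,
      map_div₀, map_mul, map_ofNat, hsr, ← R.form.herm a y]
    field_simp
    ring
  · show A.det = 1
    rw [hA, det_neg, Matrix.vecMulVec_eq (Fin 1), Matrix.det_one_add_replicateCol_mul_replicateRow,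
      smul_dotProduct, hDual_dot R.form, smul_eq_mul, hk, div_mul_cancel₀ _ haa, Fintype.card_fin]
    ring
  · show C (A *ᵥ x) = A *ᵥ C x
    have hxa : f (C x) a = σ (f x a) := by rw [← R.c_form, ha]
    rw [hap, hap, R.c_sub, R.c_smul, ha, map_div₀, map_mul, map_ofNat, hsr, hxa]

/-- frames exist -/
theorem exists_frame {u : Fin 3 → F} (hu : C u = u) (hu0 : u ≠ 0) (huu : f u u = 0) :
    ∃ v e, Fr f C u v e := by
  classical
  obtain ⟨z, hz, hzu⟩ := R.exists_pair hu0
  obtain ⟨z', hz'⟩ : ∃ z', z' = (f z u)⁻¹ • z := ⟨_, rfl⟩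
  have hz'c : C z' = z' := hz' ▸ R.fx_smul hz (by rw [map_inv₀, R.real hz hu])
  have hz'u : f z' u = 1 := by rw [hz', R.smul_left, inv_mul_cancel₀ hzu]
  have huz' : f u z' = 1 := by rw [R.symm hz'c hu, hz'u]
  have hre : σ (f z' z' / 2) = f z' z' / 2 := R.half (R.real hz'c hz'c)
  obtain ⟨v, hv⟩ : ∃ v, v = z' - (f z' z' / 2) • u := ⟨_, rfl⟩
  have hvc : C v = v := hv ▸ R.fx_sub hz'c (R.fx_smul hu hre)
  have hvu : f v u = 1 := by rw [hv, R.sub_left, R.smul_left, huu, mul_zero, sub_zero, hz'u]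
  have huv : f u v = 1 := by rw [R.symm hvc hu, hvu]
  have hvv : f v v = 0 := by
    rw [hv, R.sub_left, R.sub_right, R.sub_right, R.smul_left, R.smul_right, R.smul_right, R.smul_left, huu,
      hre, hz'u, huz']
    field_simp [R.two]
    ring
  -- two orthogonal anisotropic vectors in the plane
  have hp : f (u + v) (u + v) = 2 := by
    rw [R.add_left, R.add_right, R.add_right, huu, hvv, huv, hvu]; ring
  have hm : f (u - v) (u - v) = -2 := by
    rw [R.sub_left, R.sub_right, R.sub_right, huu, hvv, huv, hvu]; ring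
  obtain ⟨e, hec, hee, h1, h2⟩ := R.exists_third (R.fx_add hu hvc) (R.fx_sub hu hvc) (hp ▸ R.two)
    (hm ▸ neg_ne_zero.2 R.two) (by rw [R.add_left, R.sub_right, R.sub_right, huu, hvv, huv, hvu]; ring)
  rw [R.add_right] at h1
  rw [R.sub_right] at h2
  have heu : f e u = 0 := (mul_eq_zero.1 (show (2 : F) * f e u = 0 by linear_combination h1 + h2)).resolve_left R.two
  have hev : f e v = 0 := by linear_combination h1 - heu
  exact ⟨v, e, ⟨hu, hvc, hec, huu, hvv, huv, hvu, R.perp_symm heu, heu, R.perp_symm hev, hev, hee⟩⟩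

end RS

end CfsgLib.MaxSub.SuThree.Orth
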