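import Cfsg.Agent.Lib.MaxSub.SuThree.OrthMove

/-!
An overgroup of the rational group without transvections commutes with the conjugation.
-/

set_option autoImplicit false
set_option linter.unusedSectionVars false
set_option linter.unusedSimpArgs false

namespace CfsgLib.MaxSub.SuThree.Orth

open Matrix
open scoped MatrixGroups

variable {F : Type*} [Field F] [Fintype F]
variable {σ : F ≃+* F} {f : (Fin 3 → F) → (Fin 3 → F) → F} {C : (Fin 3 → F) → (Fin 3 → F)} {q : ℕ}

/-- a quadratic with three roots vanishes -/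
theorem quad_three {a b c x y z : F} (hxy : x ≠ y) (hxz : x ≠ z) (hyz : y ≠ z)
    (hx : a + b * x + c * (x * x) = 0) (hy : a + b * y + c * (y * y) = 0) (hz : a + b * z + c * (z * z) = 0) :
    a = 0 ∧ b = 0 ∧ c = 0 := by
  have h1 : b + c * (x + y) = 0 := (mul_eq_zero.1 (show (x - y) * (b + c * (x + y)) = 0 by
    linear_combination hx - hy)).resolve_left (sub_ne_zero.2 hxy)
  have h2 : b + c * (x + z) = 0 := (mul_eq_zero.1 (show (x - z) * (b + c * (x + z)) = 0 by
    linear_combination hx - hz)).resolve_left (sub_ne_zero.2 hxz)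
  have hc : c = 0 := (mul_eq_zero.1 (show (y - z) * c = 0 by linear_combination h1 - h2)).resolve_left
    (sub_ne_zero.2 hyz)
  have hb : b = 0 := by linear_combination h1 - (x + y) * hc
  exact ⟨by linear_combination hx - x * hb - (x * x) * hc, hb, hc⟩

/-- the family of isotropic vectors -/
def zs (f : (Fin 3 → F) → (Fin 3 → F) → F) (u v e : Fin 3 → F) (s : F) : Fin 3 → F :=
  u + s • e + (-(f e e * (s * s) / 2)) • v

namespace Fr

variable {u v e : Fin 3 → F} (fr : Fr f C u v e)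
include fr

theorem zs_spec (R : RS σ f C q) {s : F} (hs : σ s = s) :
    C (zs f u v e s) = zs f u v e s ∧ zs f u v e s ≠ 0 ∧ f (zs f u v e s) (zs f u v e s) = 0 := by
  have hl : σ (-(f e e * (s * s) / 2)) = -(f e e * (s * s) / 2) := by
    rw [map_neg, map_div₀, map_mul, map_mul, map_ofNat, hs, fr.ee_real R]
  refine ⟨R.fx_add (R.fx_add fr.cu (R.fx_smul fr.ce hs)) (R.fx_smul fr.cv hl), fun h => ?_, ?_⟩
  · have := congrArg (f · v) h
    simp only [zs, R.add_left, R.smul_left, R.zero_left, fr.uv, fr.ev, fr.vv, mul_zero, add_zero] at this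
    exact one_ne_zero this
  · have h2 := R.two
    simp only [zs, R.add_left, R.add_right, R.smul_left, R.smul_right, fr.uu, fr.vv, fr.uv, fr.vu, fr.ue, fr.eu,
      fr.ve, fr.ev, hs, hl]
    field_simp
    ring

/-- a nonzero vector is orthogonal to at most two members of the family -/
theorem card_filter_le (R : RS σ f C q) [DecidableEq F] (T : Finset F) {c : Fin 3 → F} (hc : c ≠ 0) :
    (T.filter fun s => f (zs f u v e s) c = 0).card ≤ 2 := by
  by_contra hlt
  obtain ⟨x, y, z, hx, hy, hz, hxy, hxz, hyz⟩ := Finset.two_lt_card_iff.1 (not_le.1 hlt)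
  simp only [Finset.mem_filter] at hx hy hz
  have h2 := R.two
  have hexp : ∀ s, f (zs f u v e s) c = f u c + f e c * s + -(f e e / 2 * f v c) * (s * s) := fun s => by
    simp only [zs, R.add_left, R.smul_left]; ring
  obtain ⟨h1, h3, h4⟩ := quad_three hxy hxz hyz ((hexp x).symm.trans hx.2) ((hexp y).symm.trans hy.2)
    ((hexp z).symm.trans hz.2)
  rw [neg_eq_zero, mul_eq_zero, div_eq_zero_iff] at h4
  exact hc (R.eq_zero_of_span (fr.span R) (R.perp_symm h1)
    (R.perp_symm (h4.resolve_left (not_or.2 ⟨fr.ee, h2⟩))) (R.perp_symm h3))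

/-- without transvections, outside elements send some rational anisotropic line orthogonal to a given rational
isotropic vector to a rational line -/
theorem exists_line (R : RS σ f C q) {M : Subgroup (GL (Fin 3) F)} (S : Sub f C M) (hno : NoTv f M u)
    {g : GL (Fin 3) F} (hg : g ∈ M) (hgc : ¬Com C g) {z : Fin 3 → F} (hz : C z = z) (hz0 : z ≠ 0)
    (hzz : f z z = 0) :
    ∃ c, C c = c ∧ f c c ≠ 0 ∧ f z c = 0 ∧ ∃ l : F, l ≠ 0 ∧ C (l • ap g c) = l • ap g c := by
  classical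
  obtain ⟨hgI, -⟩ := S.ins g hg
  obtain ⟨w, hw⟩ : ∃ w, w = ap g z := ⟨_, rfl⟩
  have hw0 : w ≠ 0 := hw ▸ ap_ne_zero g hz0
  have hww : f w w = 0 := by rw [hw, hgI, hzz]
  have hnl : ∀ l : F, C w ≠ l • w := fun l h => by
    obtain ⟨m, hm, h'⟩ := R.exists_fx_multiple h
    exact hgc (fr.com_of_iso R S hno hg hz hz0 hzz hm (hw ▸ h'))
  have hcw : f (C w) (C w) = 0 := by rw [R.c_form, hww, map_zero]
  obtain ⟨N, hN⟩ : ∃ N, N = f w (C w) := ⟨_, rfl⟩
  have hN0 : N ≠ 0 := fun h => by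
    rw [hN] at h
    have hind : LinearIndependent F ![w, C w] :=
      (LinearIndependent.pair_iff' hw0).2 fun a ha => hnl a ha.symm
    obtain ⟨p, hp, hpp⟩ := exists_anisotropic R.form (U := Submodule.span F (Set.range ![w, C w])) (by
      rw [finrank_span_eq_card hind]; simp)
    rw [Matrix.range_cons_cons_empty, Submodule.mem_span_pair] at hp
    obtain ⟨a, b, rfl⟩ := hp
    apply hpp
    simp only [R.add_left, R.add_right, R.smul_left, R.smul_right, hww, hcw, h, R.perp_symm h, mul_zero, add_zero]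
  have hN1 : f w (C w) = N := hN.symm
  have hN2 : f (C w) w = σ N := by rw [R.form.herm, hN1]
  have hσN : σ N ≠ 0 := (map_ne_zero σ).2 hN0
  obtain ⟨P, hP⟩ : ∃ P : (Fin 3 → F) →ₗ[F] (Fin 3 → F),
      ∀ x, P x = x - (f x (C w) / N) • w - (f x w / σ N) • C w := by
    refine ⟨{ toFun := fun x => x - (f x (C w) / N) • w - (f x w / σ N) • C w
              map_add' := fun x y => ?_, map_smul' := fun a x => ?_ }, fun x => rfl⟩
    · simp only [R.add_left, add_div, add_smul]; abel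
    · simp only [R.smul_left, mul_div_assoc, mul_smul, smul_sub, RingHom.id_apply]
  have hP1 : ∀ x, f (P x) (C w) = 0 := fun x => by
    rw [hP, R.sub_left, R.sub_left, R.smul_left, R.smul_left, hN1, hcw, div_mul_cancel₀ _ hN0]; ring
  have hP2 : ∀ x, f (P x) w = 0 := fun x => by
    rw [hP, R.sub_left, R.sub_left, R.smul_left, R.smul_left, hN2, hww, div_mul_cancel₀ _ hσN]; ring
  have hPc : ∀ x, C x = x → C (P x) = P x := fun x hx => by
    have e1 : σ (f x (C w)) = f x w := by rw [← R.c_form, hx, R.c_inv]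
    rw [hP, R.c_sub, R.c_sub, R.c_smul, R.c_smul, R.c_inv, hx, map_div₀, map_div₀, R.ss, e1, ← e1, R.ss]
    abel
  obtain ⟨x, hxc, hx⟩ := R.exists_aniso P hPc
    (fun a b => by rw [hP b, R.sub_right, R.sub_right, R.smul_right, R.smul_right, hP1, hP2]; ring) (by
      obtain ⟨y, hy⟩ := R.exists_notMem_span {w, C w} Finset.card_le_two
      refine ⟨y, fun h => hy ?_⟩
      rw [hP, sub_sub, sub_eq_zero] at h
      rw [h]
      exact Submodule.add_mem _ (Submodule.smul_mem _ _ (Submodule.subset_span (by simp)))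
        (Submodule.smul_mem _ _ (Submodule.subset_span (by simp))))
  obtain ⟨d, hd⟩ : ∃ d, d = P x := ⟨_, rfl⟩
  rw [← hd] at hx
  have hdc : C d = d := hd ▸ hPc x hxc
  have hdw : f w d = 0 := R.perp_symm (hd ▸ hP2 x)
  obtain ⟨r, hrs, hrr, hrv⟩ := R.exists_rv hdc hx
  obtain ⟨g', hg'⟩ : ∃ g', g' = g⁻¹ * r * g := ⟨_, rfl⟩
  have hg'm : g' ∈ M := hg' ▸ mul_mem (mul_mem (inv_mem hg) (S.incl r hrs hrr.com)) hg
  obtain ⟨c, hc⟩ : ∃ c, c = ap g⁻¹ d := ⟨_, rfl⟩
  have hgc' : ap g c = d := by rw [hc, ap_inv]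
  have hcc : f c c = f d d := by rw [← hgI c c, hgc']
  have hzc : f z c = 0 := by rw [← hgI z c, hgc', ← hw, hdw]
  have hg'v : ∀ y, ap g' y = (2 * f y c / f d d) • c - y := fun y => by
    rw [hg', ap_mul, ap_mul, hrv, ap_sub, ap_smul, inv_ap, ← hc, ← hgI y c, hgc']
  have hg'z : ap g' z = -z := by rw [hg'v, hzc, mul_zero, zero_div, zero_smul, zero_sub]
  obtain ⟨k, hk, hkc⟩ := fr.com_of_iso R S hno hg'm hz hz0 hzz one_ne_zero (by
    rw [one_smul, hg'z, ← neg_one_smul F z, R.c_smul, hz, map_neg, map_one])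
  have hσk : σ k = k := by
    have h := hkc z
    rw [hz, hg'z, smul_neg, ← neg_smul, R.c_smul, hz, map_neg] at h
    exact neg_inj.1 (smul_left_injective F hz0 h)
  have h := hkc c
  rw [hg'v, hg'v, R.c_smul, hσk] at h
  have h' := smul_right_injective (Fin 3 → F) hk h
  rw [R.c_sub, R.c_smul, sub_left_inj, hcc, map_div₀, map_mul, map_ofNat, R.real hdc hdc,
    mul_div_cancel_right₀ _ hx] at h'
  obtain ⟨m, hm, hmc⟩ := R.exists_fx_multiple (z := c) (l := f (C c) c / f d d) (by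
    refine smul_right_injective (Fin 3 → F) R.two ?_
    show (2 : F) • C c = (2 : F) • ((f (C c) c / f d d) • c)
    rw [h', smul_smul, mul_div_assoc])
  refine ⟨m • c, hmc, ?_, by rw [R.smul_right, hzc, mul_zero], m⁻¹, inv_ne_zero hm, ?_⟩
  · rw [R.smul_left, R.smul_right, hcc]
    exact mul_ne_zero hm (mul_ne_zero ((map_ne_zero σ).2 hm) hx)
  · rw [ap_smul, inv_smul_smul₀ hm, hgc', hdc]

/-- two rational non-orthogonal lines with rational images and a common scalar -/
theorem exists_two_lines (R : RS σ f C q) {M : Subgroup (GL (Fin 3) F)} (S : Sub f C M) (hno : NoTv f M u)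
    (T : Finset F) (hT : ∀ s ∈ T, σ s = s) (h7 : 7 ≤ T.card) {g : GL (Fin 3) F} (hg : g ∈ M) (hgc : ¬Com C g) :
    ∃ b c, C b = b ∧ C c = c ∧ f b b ≠ 0 ∧ f b c ≠ 0 ∧ (∀ l : F, c ≠ l • b) ∧
      ∃ k : F, k ≠ 0 ∧ C (k • ap g b) = k • ap g b ∧ C (k • ap g c) = k • ap g c := by
  classical
  have hline : ∀ A : Finset (Fin 3 → F), (∀ a ∈ A, a ≠ 0) → 2 * A.card < T.card →
      ∃ c, C c = c ∧ f c c ≠ 0 ∧ (∀ a ∈ A, ∀ l : F, c ≠ l • a) ∧
        ∃ l : F, l ≠ 0 ∧ C (l • ap g c) = l • ap g c := by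
    intro A hA hlt
    obtain ⟨s, hs, hsA⟩ : ∃ s ∈ T, ∀ a ∈ A, f (zs f u v e s) a ≠ 0 := by
      by_contra hall
      push Not at hall
      have h1 : T ⊆ A.biUnion fun a => T.filter fun s => f (zs f u v e s) a = 0 := fun s hs => by
        obtain ⟨a, ha, h⟩ := hall s hs
        exact Finset.mem_biUnion.2 ⟨a, ha, Finset.mem_filter.2 ⟨hs, h⟩⟩
      have h2 := (Finset.card_le_card h1).trans (Finset.card_biUnion_le_card_mul _ _ 2
        fun a ha => fr.card_filter_le R T (hA a ha))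
      omega
    obtain ⟨h1, h2, h3⟩ := fr.zs_spec R (hT s hs)
    obtain ⟨c, hc, hcc, hzc, hl⟩ := fr.exists_line R S hno hg hgc h1 h2 h3
    refine ⟨c, hc, hcc, fun a ha l hl' => ?_, hl⟩
    rw [hl', R.smul_right] at hzc
    refine hsA a ha ((mul_eq_zero.1 hzc).resolve_left fun h => hcc ?_)
    rw [hl', R.smul_left, R.smul_right, h]; ring
  have key : ∀ b c, C b = b → C c = c → f b b ≠ 0 → f b c ≠ 0 → (∀ l : F, c ≠ l • b) →
      (∃ l : F, l ≠ 0 ∧ C (l • ap g b) = l • ap g b) → (∃ l : F, l ≠ 0 ∧ C (l • ap g c) = l • ap g c) →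
      ∃ k : F, k ≠ 0 ∧ C (k • ap g b) = k • ap g b ∧ C (k • ap g c) = k • ap g c := by
    rintro b c hb hc - hbc - ⟨k, hk, hkb⟩ ⟨m, hm, hmc⟩
    have h : σ (k * σ m) = k * σ m := by
      have h1 := R.real hkb hmc
      rw [R.smul_left, R.smul_right, (S.ins g hg).1, ← mul_assoc, map_mul, R.real hb hc] at h1
      exact mul_right_cancel₀ hbc h1
    have h' : σ (k / m) = k / m := by
      rw [show k / m = k * σ m / (m * σ m) by field_simp [(map_ne_zero σ).2 hm], map_div₀, h, map_mul,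
        R.ss, mul_comm (σ m)]
    refine ⟨k, hk, hkb, ?_⟩
    rw [show k • ap g c = (k / m) • (m • ap g c) by rw [smul_smul, div_mul_cancel₀ _ hm]]
    exact R.fx_smul hmc h'
  have hne : ∀ {a : Fin 3 → F}, f a a ≠ 0 → a ≠ 0 := fun h h0 => h (by rw [h0, R.zero_left])
  have hflip : ∀ {b c : Fin 3 → F}, f b b ≠ 0 → (∀ l : F, c ≠ l • b) → ∀ l : F, f c c ≠ 0 → b ≠ l • c :=
    fun {b c} hb h l hc h' => h l⁻¹ (by
      rw [h', inv_smul_smul₀]
      rintro rfl
      exact hne hb (by rw [h', zero_smul]))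
  obtain ⟨c₁, h1, h1', -, l1⟩ := hline ∅ (by simp) (by rw [Finset.card_empty]; omega)
  obtain ⟨c₂, h2, h2', n2, l2⟩ := hline {c₁} (by simpa using hne h1') (by simp; omega)
  simp only [Finset.mem_singleton, forall_eq] at n2
  by_cases h12 : f c₁ c₂ ≠ 0
  · exact ⟨c₁, c₂, h1, h2, h1', h12, n2, key c₁ c₂ h1 h2 h1' h12 n2 l1 l2⟩
  rw [not_not] at h12
  obtain ⟨c₃, h3, h3', n3, l3⟩ := hline {c₁, c₂} (by
    simpa using ⟨hne h1', hne h2'⟩) (by have := Finset.card_le_two (a := c₁) (b := c₂); omega)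
  simp only [Finset.mem_insert, Finset.mem_singleton, forall_eq_or_imp, forall_eq] at n3
  by_cases h13 : f c₁ c₃ ≠ 0
  · exact ⟨c₁, c₃, h1, h3, h1', h13, n3.1, key c₁ c₃ h1 h3 h1' h13 n3.1 l1 l3⟩
  by_cases h23 : f c₂ c₃ ≠ 0
  · exact ⟨c₂, c₃, h2, h3, h2', h23, n3.2, key c₂ c₃ h2 h3 h2' h23 n3.2 l2 l3⟩
  rw [not_not] at h13 h23
  obtain ⟨c₄, h4, h4', n4, l4⟩ := hline {c₁, c₂, c₃} (by
    simpa using ⟨hne h1', hne h2', hne h3'⟩) (by
      have := Finset.card_le_three (a := c₁) (b := c₂) (c := c₃); omega)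
  simp only [Finset.mem_insert, Finset.mem_singleton, forall_eq_or_imp, forall_eq] at n4
  by_cases h14 : f c₁ c₄ ≠ 0
  · exact ⟨c₁, c₄, h1, h4, h1', h14, n4.1, key c₁ c₄ h1 h4 h1' h14 n4.1 l1 l4⟩
  by_cases h24 : f c₂ c₄ ≠ 0
  · exact ⟨c₂, c₄, h2, h4, h2', h24, n4.2.1, key c₂ c₄ h2 h4 h2' h24 n4.2.1 l2 l4⟩
  by_cases h34 : f c₃ c₄ ≠ 0
  · exact ⟨c₃, c₄, h3, h4, h3', h34, n4.2.2, key c₃ c₄ h3 h4 h3' h34 n4.2.2 l3 l4⟩
  rw [not_not] at h14 h24 h34
  exact absurd (R.eq_zero_of_span (R.span_orth h1' h2' h3' h12 h13 h23) (R.perp_symm h14) (R.perp_symm h24)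
    (R.perp_symm h34)) (hne h4')

end Fr

namespace RS

variable (R : RS σ f C q)
include R

/-- rational rotations of a plane with nonzero entries -/
theorem exists_rotation {a b c : Fin 3 → F} (ha : C a = a) (hb : C b = b) (haa : f a a ≠ 0) (hbb : f b b ≠ 0)
    (hab : f a b = 0) (hca : f c a = 0) (hcb : f c b = 0) (T : Finset F) (hT : ∀ s ∈ T, σ s = s)
    (h7 : 7 ≤ T.card) :
    ∃ h, InS f h ∧ Rat C h ∧ ap h c = c ∧ ∃ A B D E : F, σ A = A ∧ σ B = B ∧ σ D = D ∧ σ E = E ∧ A ≠ 0 ∧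
      B ≠ 0 ∧ D ≠ 0 ∧ E ≠ 0 ∧ ap h a = A • a + D • b ∧ ap h b = B • a + E • b := by
  classical
  obtain ⟨α, hα⟩ : ∃ α, α = f a a := ⟨_, rfl⟩
  obtain ⟨β, hβ⟩ : ∃ β, β = f b b := ⟨_, rfl⟩
  have hrα : σ α = α := hα ▸ R.real ha ha
  have hrβ : σ β = β := hβ ▸ R.real hb hb
  have hα0 : α ≠ 0 := hα ▸ haa
  have hβ0 : β ≠ 0 := hβ ▸ hbb
  have hq : ∀ r : F, (T.filter fun t => r + β * (t * t) = 0).card ≤ 2 := fun r => by
    by_contra hlt
    obtain ⟨x, y, z, hx, hy, hz, hxy, hxz, hyz⟩ := Finset.two_lt_card_iff.1 (not_le.1 hlt)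
    simp only [Finset.mem_filter] at hx hy hz
    exact hβ0 (quad_three (a := r) (b := 0) (c := β) hxy hxz hyz (by linear_combination hx.2)
      (by linear_combination hy.2) (by linear_combination hz.2)).2.2
  obtain ⟨t, ht, ht0, hN, hM⟩ : ∃ t ∈ T, t ≠ 0 ∧ α + β * (t * t) ≠ 0 ∧ -α + β * (t * t) ≠ 0 := by
    by_contra hno
    push Not at hno
    have h1 : T ⊆ ({0} ∪ T.filter fun t => α + β * (t * t) = 0) ∪ T.filter fun t => -α + β * (t * t) = 0 :=
      fun t ht => by
        by_cases h0 : t = 0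
        · simp [h0]
        by_cases h1 : α + β * (t * t) = 0
        · simp [h1, ht]
        · simp [hno t ht h0 h1, ht]
    have := (Finset.card_le_card h1).trans ((Finset.card_union_le _ _).trans
      (add_le_add (Finset.card_union_le _ _) le_rfl))
    have := hq α
    have := hq (-α)
    simp only [Finset.card_singleton] at *
    omega
  have hσt := hT t ht
  obtain ⟨N, hNd⟩ : ∃ N, N = α + β * (t * t) := ⟨_, rfl⟩
  rw [← hNd] at hN
  have hσN : σ N = N := by rw [hNd, map_add, map_mul, map_mul, hrα, hrβ, hσt]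
  have hu : C (a + t • b) = a + t • b := R.fx_add ha (R.fx_smul hb hσt)
  have hba := R.perp_symm hab
  have huu : f (a + t • b) (a + t • b) = N := by
    rw [hNd]; simp only [R.add_left, R.add_right, R.smul_left, R.smul_right, hab, hba, hσt, ← hα, ← hβ]; ring
  obtain ⟨g1, h1s, h1r, h1⟩ := R.exists_rv hu (huu ▸ hN)
  obtain ⟨g2, h2s, h2r, h2⟩ := R.exists_rv ha haa
  have h2' := R.two
  refine ⟨g2 * g1, h2s.mul h1s, h2r.mul h1r, ?_, (α - β * (t * t)) / N,
    2 * t * β / N, -(2 * α * t) / N, (α - β * (t * t)) / N,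
    ?_, ?_, ?_, ?_, ?_, ?_, ?_, ?_, ?_, ?_⟩
  · rw [ap_mul, h1, R.add_right, hca, R.smul_right, hcb, mul_zero, add_zero, mul_zero, zero_div, zero_smul,
      zero_sub, h2, R.neg_left, hca, neg_zero, mul_zero, zero_div, zero_smul, zero_sub, neg_neg]
  all_goals try simp only [map_div₀, map_sub, map_mul, map_neg, map_ofNat, hrα, hrβ, hσt, hσN]
  · exact div_ne_zero (fun h => hM (by linear_combination -h)) hN
  · exact div_ne_zero (mul_ne_zero (mul_ne_zero R.two ht0) hβ0) hN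
  · exact div_ne_zero (neg_ne_zero.2 (mul_ne_zero (mul_ne_zero R.two hα0) ht0)) hN
  · exact div_ne_zero (fun h => hM (by linear_combination -h)) hN
  all_goals
    simp only [ap_mul, h1, h2, huu, R.add_left, R.add_right, R.sub_left, R.smul_left, R.smul_right, hab, hba,
      hσt, ← hα, ← hβ]
    match_scalars <;> field_simp <;> subst hNd <;> ring

/-- an overgroup without transvections commutes with the conjugation -/
theorem com_of_noTv {u v e : Fin 3 → F} (fr : Fr f C u v e) {M : Subgroup (GL (Fin 3) F)} (S : Sub f C M)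
    (hno : NoTv f M u) (T : Finset F) (hT : ∀ s ∈ T, σ s = s) (h7 : 7 ≤ T.card) {g : GL (Fin 3) F}
    (hg : g ∈ M) : Com C g := by
  classical
  by_contra hgc
  have hgI := (S.ins g hg).1
  obtain ⟨b, c, hb, hc, hbb, hbc, hnp, k, hk, hkb, hkc⟩ := fr.exists_two_lines R S hno T hT h7 hg hgc
  obtain ⟨b', hb'⟩ : ∃ b', b' = f b b • c - f c b • b := ⟨_, rfl⟩
  have hbr := R.real hb hb
  have hcr := R.real hc hb
  have hb'c : C b' = b' := hb' ▸ R.fx_sub (R.fx_smul hc hbr) (R.fx_smul hb hcr)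
  have hb'b : f b' b = 0 := by rw [hb', R.sub_left, R.smul_left, R.smul_left]; ring
  have hkb' : C (k • ap g b') = k • ap g b' := by
    rw [hb', ap_sub, ap_smul, ap_smul, smul_sub, smul_comm k, smul_comm k]
    exact R.fx_sub (R.fx_smul hkc hbr) (R.fx_smul hkb hcr)
  have hb'0 : b' ≠ 0 := fun h => hnp (f c b / f b b) (by
    rw [hb', sub_eq_zero] at h
    rw [div_eq_inv_mul, mul_smul, ← h, inv_smul_smul₀ hbb])
  have hb'b' : f b' b' ≠ 0 := fun h => hgc (fr.com_of_iso R S hno hg hb'c hb'0 h hk hkb')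
  obtain ⟨a, hac, haa, hab, hab'⟩ := R.exists_third hb hb'c hbb hb'b' (R.perp_symm hb'b)
  obtain ⟨r, hr⟩ : ∃ r, r = k • ap g b := ⟨_, rfl⟩
  obtain ⟨r', hr'⟩ : ∃ r', r' = k • ap g b' := ⟨_, rfl⟩
  have hrc : C r = r := hr ▸ hkb
  have hr'c : C r' = r' := hr' ▸ hkb'
  have hσk : σ k ≠ 0 := (map_ne_zero σ).2 hk
  have hrr : f r r ≠ 0 := by
    rw [hr, R.smul_left, R.smul_right, hgI]; exact mul_ne_zero hk (mul_ne_zero hσk hbb)
  have hr'r' : f r' r' ≠ 0 := by
    rw [hr', R.smul_left, R.smul_right, hgI]; exact mul_ne_zero hk (mul_ne_zero hσk hb'b')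
  have hr'r : f r' r = 0 := by rw [hr', hr, R.smul_left, R.smul_right, hgI, hb'b]; ring
  have hgar : f (ap g a) r = 0 := by rw [hr, R.smul_right, hgI, hab, mul_zero]
  have hgar' : f (ap g a) r' = 0 := by rw [hr', R.smul_right, hgI, hab', mul_zero]
  have hgaa : f (ap g a) (ap g a) ≠ 0 := by rw [hgI]; exact haa
  have hsp : Span3 r r' (ap g a) :=
    R.span_orth hrr hr'r' hgaa (R.perp_symm hr'r) (R.perp_symm hgar) (R.perp_symm hgar')
  obtain ⟨n, hn, hna⟩ : ∃ n : F, n ≠ 0 ∧ C (n • ap g a) = n • ap g a := by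
    obtain ⟨l, m, n, h⟩ := hsp (C (ap g a))
    have h1 : f (C (ap g a)) r = 0 := by rw [← hrc, R.c_form, hgar, map_zero]
    have h2 : f (C (ap g a)) r' = 0 := by rw [← hr'c, R.c_form, hgar', map_zero]
    rw [h] at h1 h2
    simp only [R.add_left, R.smul_left, hr'r, R.perp_symm hr'r, hgar, hgar', mul_zero, add_zero, zero_add,
      mul_eq_zero, hrr, hr'r', or_false] at h1 h2
    rw [h1, h2, zero_smul, zero_smul, zero_add, zero_add] at h
    exact R.exists_fx_multiple h
  obtain ⟨a'', ha''⟩ : ∃ a'', a'' = n • ap g a := ⟨_, rfl⟩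
  have ha''c : C a'' = a'' := ha'' ▸ hna
  have hσn : σ n ≠ 0 := (map_ne_zero σ).2 hn
  have ha''a'' : f a'' a'' ≠ 0 := by
    rw [ha'', R.smul_left, R.smul_right, hgI]; exact mul_ne_zero hn (mul_ne_zero hσn haa)
  have ha''r : f a'' r = 0 := by rw [ha'', R.smul_left, hgar, mul_zero]
  have ha''r' : f a'' r' = 0 := by rw [ha'', R.smul_left, hgar', mul_zero]
  obtain ⟨τ, hτ⟩ : ∃ τ, τ = n / k := ⟨_, rfl⟩
  have hτ0 : τ ≠ 0 := hτ ▸ div_ne_zero hn hk
  have hτr : σ τ ≠ τ := fun h => hgc ⟨k, hk, fun x => by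
    obtain ⟨l, m, p, rfl⟩ := R.span_orth hbb hb'b' haa (R.perp_symm hb'b) (R.perp_symm hab)
      (R.perp_symm hab') x
    have eA : k • ap g a = τ⁻¹ • a'' := by
      rw [ha'', smul_smul, hτ, inv_div, div_mul_cancel₀ _ hn]
    simp only [ap_add, ap_smul, smul_add, smul_comm k, ← hr, ← hr', eA, R.c_add, R.c_smul, hrc, hr'c, ha''c,
      map_inv₀, h, hb, hb'c, hac]⟩
  obtain ⟨h, hhs, hhr, hhb, A, B, D, E, hA, hB, hD, hE, hA0, hB0, hD0, hE0, hha, hhb'⟩ :=
    R.exists_rotation hac hb'c haa hb'b' hab' (R.perp_symm hab) (R.perp_symm hb'b) T hT h7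
  obtain ⟨g', hg'⟩ : ∃ g', g' = g * h * g⁻¹ := ⟨_, rfl⟩
  have hg'm : g' ∈ M := hg' ▸ mul_mem (mul_mem hg (S.incl h hhs hhr.com)) (inv_mem hg)
  have k1 : ap g' r = r := by rw [hr, hg', ap_mul, ap_mul, ap_smul g⁻¹, inv_ap, ap_smul h, hhb, ap_smul]
  have k2 : ap g' a'' = A • a'' + (D * τ) • r' := by
    rw [ha'', hr', hg', ap_mul, ap_mul, ap_smul g⁻¹, inv_ap, ap_smul h, hha, ap_smul, ap_add, ap_smul, ap_smul,
      hτ]
    match_scalars <;> field_simp
  have k3 : ap g' r' = (B / τ) • a'' + E • r' := by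
    rw [ha'', hr', hg', ap_mul, ap_mul, ap_smul g⁻¹, inv_ap, ap_smul h, hhb', ap_smul, ap_add, ap_smul, ap_smul,
      hτ]
    match_scalars <;> field_simp
  have hfun : ∀ {y : Fin 3 → F} {i j : F}, f y y ≠ 0 → i * f y y = j * f y y → i = j :=
    fun hy h => mul_right_cancel₀ hy h
  have hg'c : ¬Com C g' := by
    rintro ⟨m, hm, hmc⟩
    have h1 := congrArg (f · r) (hmc r)
    rw [k1, hrc, R.c_smul, hrc, k1, R.smul_left, R.smul_left] at h1
    have hσm := hfun hrr h1
    have h2 := congrArg (f · r') (hmc a'')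
    rw [ha''c, R.c_smul, k2, R.c_add, R.c_smul, R.c_smul, ha''c, hr'c, R.smul_left, R.smul_left, R.add_left,
      R.add_left, R.smul_left, R.smul_left, R.smul_left, R.smul_left, ha''r', mul_zero, mul_zero, zero_add,
      zero_add, hσm, map_mul, hD] at h2
    exact hτr (mul_left_cancel₀ hD0 (mul_right_cancel₀ hr'r' (mul_left_cancel₀ hm h2)))
  have hclass : ∀ s ∈ T, f (zs f u v e s) r = 0 ∨ ∃ t : F, σ t = t ∧ f (zs f u v e s) (a'' + t • r') = 0 ∧
      τ * σ τ * (A * D) + B * D * (τ + σ τ) * t + B * E * (t * t) = 0 := by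
    intro s hs
    obtain ⟨hz, hz0, hzz⟩ := fr.zs_spec R (hT s hs)
    obtain ⟨x, hx, hxx, hzx, m, hm, hmx⟩ := fr.exists_line R S hno hg'm hg'c hz hz0 hzz
    obtain ⟨i, j, l, rfl⟩ :=
      R.span_orth hrr hr'r' ha''a'' (R.perp_symm hr'r) (R.perp_symm ha''r) (R.perp_symm ha''r') x
    have co : ∀ {y : Fin 3 → F} {i : F}, f y y ≠ 0 → C y = y → f (i • y) y = σ (f (i • y) y) → σ i = i := by
      intro y i hy hyc h
      rw [R.smul_left, map_mul, R.real hyc hyc] at h
      exact (mul_right_cancel₀ hy h).symm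
    have hi : σ i = i := by
      have h := congrArg (f · r) hx
      simp only [R.c_add, R.c_smul, hrc, hr'c, ha''c, R.add_left, R.smul_left, hr'r, ha''r, mul_zero, add_zero] at h
      exact hfun hrr h
    have hj : σ j = j := by
      have h := congrArg (f · r') hx
      simp only [R.c_add, R.c_smul, hrc, hr'c, ha''c, R.add_left, R.smul_left, R.perp_symm hr'r, ha''r', mul_zero,
        add_zero, zero_add] at h
      exact hfun hr'r' h
    have hl : σ l = l := by
      have h := congrArg (f · a'') hx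
      simp only [R.c_add, R.c_smul, hrc, hr'c, ha''c, R.add_left, R.smul_left, R.perp_symm ha''r,
        R.perp_symm ha''r', mul_zero, zero_add] at h
      exact hfun ha''a'' h
    simp only [ap_add, ap_smul, k1, k2, k3] at hmx
    simp only [R.c_add, R.c_smul, map_mul, map_div₀, hrc, hr'c, ha''c, hA, hB, hD, hE, hi, hj, hl] at hmx
    have e1 : σ m * i = m * i := by
      have h := congrArg (f · r) hmx
      simp only [R.add_left, R.smul_left, hr'r, ha''r, mul_zero, add_zero] at h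
      exact hfun hrr (by linear_combination h)
    have e2 : σ m * (j * E + l * D * σ τ) = m * (j * E + l * D * τ) := by
      have h := congrArg (f · r') hmx
      simp only [R.add_left, R.smul_left, R.perp_symm hr'r, ha''r', mul_zero, add_zero, zero_add] at h
      exact hfun hr'r' (by linear_combination h)
    have e3 : σ m * (l * A + j * (B / σ τ)) = m * (l * A + j * (B / τ)) := by
      have h := congrArg (f · a'') hmx
      simp only [R.add_left, R.smul_left, R.perp_symm ha''r, R.perp_symm ha''r', mul_zero, add_zero, zero_add] at h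
      exact hfun ha''a'' (by linear_combination h)
    have hστ : σ τ ≠ 0 := (map_ne_zero σ).2 hτ0
    have hd : σ τ - τ ≠ 0 := sub_ne_zero.2 hτr
    rcases ne_or_eq i 0 with hi0 | hi0
    · left
      have hσm : σ m = m := mul_right_cancel₀ hi0 e1
      rw [hσm] at e2 e3
      have hl0 : l = 0 := by
        have h := mul_left_cancel₀ hm e2
        refine (mul_eq_zero.1 (show l * (D * (σ τ - τ)) = 0 by linear_combination h)).resolve_right
          (mul_ne_zero hD0 hd)
      have hj0 : j = 0 := by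
        have h := mul_left_cancel₀ hm e3
        field_simp at h
        refine (mul_eq_zero.1 (show j * (B * (σ τ - τ)) = 0 by linear_combination -h)).resolve_right
          (mul_ne_zero hB0 hd)
      rw [hl0, hj0, zero_smul, zero_smul, add_zero, add_zero, R.smul_right, hi] at hzx
      exact (mul_eq_zero.1 hzx).resolve_left hi0
    · right
      subst hi0
      have e4 : σ m * m * ((j * E + l * D * σ τ) * (l * A + j * (B / τ))) =
          σ m * m * ((j * E + l * D * τ) * (l * A + j * (B / σ τ))) := by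
        linear_combination m * (l * A + j * (B / τ)) * e2 - m * (j * E + l * D * τ) * e3
      have e5 := mul_left_cancel₀ (mul_ne_zero ((map_ne_zero σ).2 hm) hm) e4
      field_simp at e5
      have e6 : τ * σ τ * (A * D) * (l * l) + B * D * (τ + σ τ) * (j * l) + B * E * (j * j) = 0 :=
        (mul_eq_zero.1 (show (σ τ - τ) * (τ * σ τ * (A * D) * (l * l) + B * D * (τ + σ τ) * (j * l) +
          B * E * (j * j)) = 0 by linear_combination e5)).resolve_left hd
      have hl0 : l ≠ 0 := by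
        rintro rfl
        have : j = 0 := by simpa [hB0, hE0] using e6
        exact hxx (by rw [this]; simp [R.zero_left])
      refine ⟨j / l, by rw [map_div₀, hj, hl], ?_, ?_⟩
      · rw [zero_smul, zero_add, show j • r' + l • a'' = l • (a'' + (j / l) • r') by
          rw [smul_add, smul_smul, mul_div_cancel₀ _ hl0, add_comm], R.smul_right, hl] at hzx
        exact (mul_eq_zero.1 hzx).resolve_left hl0
      · field_simp
        linear_combination e6
  -- the lines cover at most six members of the family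
  obtain ⟨T₁, hT₁⟩ : ∃ T₁, T₁ = T.filter fun s => f (zs f u v e s) r ≠ 0 := ⟨_, rfl⟩
  have hne : ∀ t : F, a'' + t • r' ≠ 0 := fun t h => ha''a'' (by
    have h' := congrArg (f · a'') h
    simpa only [R.add_left, R.smul_left, R.perp_symm ha''r', mul_zero, add_zero, R.zero_left] using h')
  have hr0 : r ≠ 0 := fun h => hrr (by rw [h, R.zero_left])
  have step : ∀ {U : Finset F} {c : Fin 3 → F}, c ≠ 0 →
      U.card ≤ (U.filter fun s => f (zs f u v e s) c ≠ 0).card + 2 := fun {U c} hc => by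
    have := Finset.card_filter_add_card_filter_not (s := U) (fun s => f (zs f u v e s) c = 0)
    have := fr.card_filter_le R U hc
    simp only [ne_eq] at *
    omega
  have hT₁c := hT₁ ▸ step (U := T) hr0
  have hpick : ∀ U : Finset F, U.Nonempty → U ⊆ T₁ → ∃ s ∈ U, ∃ t : F, f (zs f u v e s) (a'' + t • r') = 0 ∧
      τ * σ τ * (A * D) + B * D * (τ + σ τ) * t + B * E * (t * t) = 0 := by
    rintro U ⟨s, hs⟩ hsub
    have hs' := hsub hs
    rw [hT₁, Finset.mem_filter] at hs'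
    obtain ⟨t, -, ht⟩ := (hclass s hs'.1).resolve_left hs'.2
    exact ⟨s, hs, t, ht⟩
  obtain ⟨s₁, -, t₁, hz₁, ht₁⟩ := hpick T₁ (Finset.card_pos.1 (by omega)) subset_rfl
  obtain ⟨T₂, hT₂⟩ : ∃ T₂, T₂ = T₁.filter fun s => f (zs f u v e s) (a'' + t₁ • r') ≠ 0 := ⟨_, rfl⟩
  have hT₂c := hT₂ ▸ step (U := T₁) (hne t₁)
  obtain ⟨s₂, hs₂, t₂, hz₂, ht₂⟩ := hpick T₂ (Finset.card_pos.1 (by omega)) (hT₂ ▸ Finset.filter_subset _ _)
  have h21 : t₂ ≠ t₁ := fun h => by
    rw [hT₂, Finset.mem_filter] at hs₂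
    exact hs₂.2 (h ▸ hz₂)
  obtain ⟨T₃, hT₃⟩ : ∃ T₃, T₃ = T₂.filter fun s => f (zs f u v e s) (a'' + t₂ • r') ≠ 0 := ⟨_, rfl⟩
  have hT₃c := hT₃ ▸ step (U := T₂) (hne t₂)
  obtain ⟨s₃, hs₃, t₃, hz₃, ht₃⟩ := hpick T₃ (Finset.card_pos.1 (by omega))
    (hT₃ ▸ (Finset.filter_subset _ _).trans (hT₂ ▸ Finset.filter_subset _ _))
  rw [hT₃, Finset.mem_filter, hT₂, Finset.mem_filter] at hs₃
  exact mul_ne_zero hB0 hE0 (quad_three h21.symm (fun h : t₁ = t₃ => hs₃.1.2 (h ▸ hz₃))
    (fun h : t₂ = t₃ => hs₃.2 (h ▸ hz₃)) ht₁ ht₂ ht₃).2.2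

/-- an element outside the rational group gives three independent full points -/
theorem full_of_outside (T : Finset F) (hT : ∀ s ∈ T, σ s = s) (h7 : 7 ≤ T.card) {M : Subgroup (GL (Fin 3) F)}
    (S : Sub f C M) {g : GL (Fin 3) F} (hg : g ∈ M) (hgc : ¬Com C g) :
    ∃ a b c, UFull σ f M a ∧ UFull σ f M b ∧ UFull σ f M c ∧ LinearIndependent F ![a, b, c] := by
  obtain ⟨u, hu, hu0, huu⟩ := R.exists_iso
  obtain ⟨v, e, fr⟩ := R.exists_frame hu hu0 huu
  exact fr.full_of_tv R S fun hno => hgc (R.com_of_noTv fr S hno T hT h7 hg)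

/-- the rational group is proper -/
theorem exists_outside : ∃ g, InS f g ∧ ¬Com C g := by
  obtain ⟨u, hu, hu0, huu⟩ := R.exists_iso
  obtain ⟨v, e, fr⟩ := R.exists_frame hu hu0 huu
  obtain ⟨θ, hθ0, hθ⟩ := R.exists_theta
  obtain ⟨g, hg⟩ := R.exists_E (u := u) (y := (0 : Fin 3 → F)) θ huu (R.zero_right u)
  refine ⟨g, hg.inS R huu (R.zero_right u) (by rw [R.zero_right, hθ]; ring), fun ⟨c, hc, h⟩ => ?_⟩
  have h1 := congrArg (f · v) (h u)
  have h2 := congrArg (f · v) (h v)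
  simp only [hg u, hg v, hu, fr.cv, R.c_smul, R.c_add, R.zero_right, R.smul_left, R.add_left, fr.uu, fr.uv,
    fr.vv, fr.vu, smul_zero, add_zero, zero_smul, mul_zero, mul_one, sub_zero, zero_add, hθ] at h1 h2
  rw [h1] at h2
  exact mul_ne_zero (mul_ne_zero hc hθ0) R.two (by linear_combination -h2)

end RS

end CfsgLib.MaxSub.SuThree.Orth
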