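import Cfsg.Agent.Lib.MaxSub.SuThree.OrthBase

/-!
Elements of an overgroup of the rational group fixing the line of a rational isotropic vector, and what one
transvection in such an overgroup gives.
-/

set_option autoImplicit false
set_option linter.unusedSectionVars false
set_option linter.style.haveILetI false
set_option linter.unusedSimpArgs false

namespace CfsgLib.MaxSub.SuThree.Orth

open Matrix
open scoped MatrixGroups

variable {F : Type*} [Field F] [Fintype F]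
variable {σ : F ≃+* F} {f : (Fin 3 → F) → (Fin 3 → F) → F} {C : (Fin 3 → F) → (Fin 3 → F)} {q : ℕ}

/-- between the rational group and the special unitary group -/
structure Sub (f : (Fin 3 → F) → (Fin 3 → F) → F) (C : (Fin 3 → F) → (Fin 3 → F))
    (M : Subgroup (GL (Fin 3) F)) : Prop where
  incl : ∀ g, InS f g → Com C g → g ∈ M
  ins : ∀ g ∈ M, InS f g

/-- no transvection with centre `u` -/
def NoTv (f : (Fin 3 → F) → (Fin 3 → F) → F) (M : Subgroup (GL (Fin 3) F)) (u : Fin 3 → F) : Prop :=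
  ∀ g ∈ M, ∀ k : F, IsE f g u 0 k → k = 0

theorem InS.inv {g : GL (Fin 3) F} (hg : InS f g) : InS f g⁻¹ := by
  refine ⟨hg.1.inv, ?_⟩
  have h : (((g⁻¹ * g : GL (Fin 3) F)) : Matrix (Fin 3) (Fin 3) F).det = 1 := by
    rw [inv_mul_cancel, Units.val_one, det_one]
  rwa [Units.val_mul, det_mul, hg.2, mul_one] at h

theorem Rat.inv {g : GL (Fin 3) F} (hg : Rat C g) : Rat C g⁻¹ := fun x => by
  rw [← inv_ap g (C (ap g⁻¹ x)), ← hg, ap_inv]

theorem Com.sandwich {g g0 h1 h2 : GL (Fin 3) F} (hg : Com C g0) (h1r : Rat C h1) (h2r : Rat C h2)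
    (he : g = h2 * g0 * h1) : Com C g := by
  obtain ⟨c, hc, h⟩ := hg
  refine ⟨c, hc, fun x => ?_⟩
  rw [he, ap_mul, ap_mul, ← ap_smul, h2r, h, h1r, ap_smul, ap_mul, ap_mul]

namespace Fr

variable {u v e : Fin 3 → F} (fr : Fr f C u v e)
include fr

theorem u_ne (R : RS σ f C q) : u ≠ 0 := fun h => by
  have := fr.uv
  rw [h, R.zero_left] at this
  exact zero_ne_one this

theorem v_ne (R : RS σ f C q) : v ≠ 0 := fun h => by
  have := fr.vu
  rw [h, R.zero_left] at this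
  exact zero_ne_one this

theorem ee_real (R : RS σ f C q) : σ (f e e) = f e e := R.real fr.ce fr.ce

/-- rational diagonal elements -/
theorem exists_torus (R : RS σ f C q) {r : F} (hr : σ r = r) (hr0 : r ≠ 0) :
    ∃ h, InS f h ∧ Rat C h ∧ ap h u = r • u ∧ ap h v = r⁻¹ • v ∧ ap h e = e := by
  have hc : ∀ l : F, σ l = l → C (u + l • v) = u + l • v := fun l hl => R.fx_add fr.cu (R.fx_smul fr.cv hl)
  have hn : ∀ l : F, σ l = l → f (u + l • v) (u + l • v) = 2 * l := fun l hl => by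
    simp only [R.add_left, R.add_right, R.smul_left, R.smul_right, fr.uu, fr.vv, fr.uv, fr.vu, hl]; ring
  have hr' : σ r⁻¹ = r⁻¹ := by rw [map_inv₀, hr]
  obtain ⟨g1, h1s, h1r, h1⟩ := R.exists_rv (hc 1 (map_one σ))
    (by rw [hn 1 (map_one σ)]; exact mul_ne_zero R.two one_ne_zero)
  obtain ⟨g2, h2s, h2r, h2⟩ := R.exists_rv (hc r⁻¹ hr')
    (by rw [hn _ hr']; exact mul_ne_zero R.two (inv_ne_zero hr0))
  have h2' := R.two
  refine ⟨g2 * g1, h2s.mul h1s, h2r.mul h1r, ?_, ?_, ?_⟩ <;>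
    simp only [ap_mul, h1, h2, hn 1 (map_one σ), hn _ hr', one_smul, R.add_left, R.add_right, R.sub_left,
      R.smul_left, R.smul_right, fr.uu, fr.vv, fr.uv, fr.vu, fr.ue, fr.eu, fr.ve, fr.ev, hr', map_one] <;>
    match_scalars <;> field_simp <;> ring_nf <;> field_simp <;> ring

/-- the rational involution exchanging the two isotropic vectors -/
theorem exists_swap (R : RS σ f C q) : ∃ h, InS f h ∧ Rat C h ∧ ap h u = v ∧ ap h v = u := by
  have hn : f (u + v) (u + v) = 2 := by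
    rw [R.add_left, R.add_right, R.add_right, fr.uu, fr.vv, fr.uv, fr.vu]; ring
  obtain ⟨g, hs, hr, h⟩ := R.exists_rv (R.fx_add fr.cu fr.cv) (hn ▸ R.two)
  have h2' := R.two
  refine ⟨g, hs, hr, ?_, ?_⟩ <;>
    simp only [h, hn, R.add_right, fr.uu, fr.vv, fr.uv, fr.vu] <;> match_scalars <;> field_simp <;> ring

/-- rational isotropic points can be moved to `u` -/
theorem exists_move (R : RS σ f C q) {p : Fin 3 → F} (hp : C p = p) (hp0 : p ≠ 0) (hpp : f p p = 0) :
    ∃ h, InS f h ∧ Rat C h ∧ ∃ m : F, m ≠ 0 ∧ ap h p = m • u := by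
  have hd := fr.decomp R p
  obtain ⟨a, ha⟩ : ∃ a, a = f p v := ⟨_, rfl⟩
  obtain ⟨b, hb⟩ : ∃ b, b = f p u := ⟨_, rfl⟩
  obtain ⟨m, hm⟩ : ∃ m, m = f p e / f e e := ⟨_, rfl⟩
  rw [← ha, ← hb, ← hm] at hd
  have hσb : σ b = b := hb ▸ R.real hp fr.cu
  have hσa : σ a = a := ha ▸ R.real hp fr.cv
  have hσm : σ m = m := by rw [hm, map_div₀, R.real hp fr.ce, fr.ee_real R]
  have hval : 2 * a * b + m * m * f e e = 0 := by
    rw [← hpp, hd]
    simp only [R.add_left, R.add_right, R.smul_left, R.smul_right, fr.uu, fr.vv, fr.uv, fr.vu, fr.ue, fr.eu,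
      fr.ve, fr.ev, hσa, hσb, hσm]
    ring
  rcases eq_or_ne b 0 with hb0 | hb0
  · have hm0 : m = 0 := by
      rw [hb0, mul_zero, zero_add] at hval
      exact mul_self_eq_zero.1 ((mul_eq_zero.1 hval).resolve_right fr.ee)
    rw [hb0, hm0, zero_smul, zero_smul, add_zero, add_zero] at hd
    refine ⟨1, ⟨fun x y => by rw [ap_one, ap_one], by rw [Units.val_one, det_one]⟩, fun x => by rw [ap_one, ap_one],
      a, fun h => hp0 (by rw [hd, h, zero_smul]), by rw [ap_one, hd]⟩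
  have hl : σ (-(m / b)) = -(m / b) := by rw [map_neg, map_div₀, hσm, hσb]
  obtain ⟨E, hEs, hEr, hE⟩ := R.exists_EU fr.cu (R.fx_smul fr.ce hl) fr.uu
    (by rw [R.smul_right, fr.ue, mul_zero])
  obtain ⟨w, hws, hwr, -, hwv⟩ := fr.exists_swap R
  refine ⟨w * E, hws.mul hEs, hwr.mul hEr, b, hb0, ?_⟩
  have h2' := R.two
  have hEp : ap E p = b • v := by
    rw [hE, hd]
    simp only [R.add_left, R.smul_left, R.smul_right, fr.uu, fr.uv, fr.vu, fr.ue, fr.eu, fr.ve, fr.ev, hl]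
    match_scalars
    · field_simp
      linear_combination b * hval
    · ring
    · field_simp
      ring
  rw [ap_mul, hEp, ap_smul, hwv]

/-- an irrational parameter gives a transvection -/
theorem tv_of_irrational (R : RS σ f C q) {M : Subgroup (GL (Fin 3) F)} (S : Sub f C M) {η s : F}
    (hη : σ η ≠ η) {g : GL (Fin 3) F} (hg : g ∈ M) (hgE : IsE f g u (η • e) s) : ¬NoTv f M u := fun hno => by
  obtain ⟨E, hEs, hEr, hE⟩ := R.exists_EU fr.cu fr.ce fr.uu fr.ue
  have hE' := S.incl E hEs hEr.com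
  have hue : f u (η • e) = 0 := by rw [R.smul_right, fr.ue, mul_zero]
  obtain ⟨k, hk⟩ : ∃ k, k = (η - σ η) * f e e := ⟨_, rfl⟩
  obtain ⟨T, hT⟩ := R.exists_E (u := u) (y := (0 : Fin 3 → F)) k fr.uu (R.zero_right u)
  have h1 := hgE.mul R hE fr.uu hue fr.eu
  have h2 := hE.mul R hgE fr.uu fr.ue (R.perp_symm hue)
  have h3 := hT.mul R h2 fr.uu (R.zero_right u) (by rw [R.add_left, fr.eu, R.smul_left, fr.eu]; ring)
  have e1 : T * (E * g) = g * E := IsE.uniq h3 fun x => by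
    rw [h1, hk]
    simp only [R.zero_right, R.add_right, R.smul_left, R.smul_right]
    module
  have hTm : T ∈ M := by
    rw [eq_mul_inv_of_mul_eq e1]
    exact mul_mem (mul_mem hg hE') (inv_mem (mul_mem hE' hg))
  have := hno T hTm k hT
  rw [hk, mul_eq_zero] at this
  exact hη (sub_eq_zero.1 (this.resolve_right fr.ee)).symm

/-- without transvections, the elements fixing a rational isotropic line commute with the conjugation -/
theorem com_of_fix (R : RS σ f C q) {M : Subgroup (GL (Fin 3) F)} (S : Sub f C M) (hno : NoTv f M u)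
    {g : GL (Fin 3) F} (hg : g ∈ M) {t : F} (ht : ap g u = t • u) : Com C g := by
  obtain ⟨hgI, hgd⟩ := S.ins g hg
  have ht0 : t ≠ 0 := fun h => ap_ne_zero g (fr.u_ne R) (by rw [ht, h, zero_smul])
  have hσt : σ t ≠ 0 := (map_ne_zero σ).2 ht0
  have hfx : ∀ x, σ t * f (ap g x) u = f x u := fun x => by rw [← hgI x u, ht, R.smul_right]
  obtain ⟨a, ha⟩ : ∃ a, a = f (ap g e) v := ⟨_, rfl⟩
  obtain ⟨s, hs⟩ : ∃ s, s = f (ap g e) e / f e e := ⟨_, rfl⟩
  have hge : ap g e = a • u + s • e := by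
    have h := hfx e
    rw [fr.eu, mul_eq_zero] at h
    have hd := fr.decomp R (ap g e)
    rw [h.resolve_left hσt, zero_smul, add_zero, ← ha, ← hs] at hd
    exact hd
  have hNs : s * σ s = 1 := by
    have h := hgI e e
    rw [hge] at h
    simp only [R.add_left, R.add_right, R.smul_left, R.smul_right, fr.uu, fr.ue, fr.eu] at h
    refine mul_right_cancel₀ fr.ee ?_
    linear_combination h
  have hs0 : s ≠ 0 := left_ne_zero_of_mul_eq_one hNs
  have hσs : σ s ≠ 0 := (map_ne_zero σ).2 hs0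
  have hue : ∀ l : F, f u (l • e) = 0 := fun l => by rw [R.smul_right, fr.ue, mul_zero]
  have hη : σ (σ t * s) = σ t * s := by
    by_contra hne
    obtain ⟨E, hEs, hEr, hE⟩ := R.exists_EU fr.cu fr.ce fr.uu fr.ue
    have h := hE.conj hgI (h := g)
    rw [ht] at h
    have h1 := h.scale R
    have e1 : σ t • ap g e = (σ t * s) • e + (σ t * a) • u := by rw [hge]; module
    rw [e1] at h1
    exact fr.tv_of_irrational R S hne (mul_mem (mul_mem hg (S.incl E hEs hEr.com)) (inv_mem hg)) (h1.shift R) hno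
  rw [map_mul, R.ss] at hη
  obtain ⟨r, hr⟩ : ∃ r, r = t / s := ⟨_, rfl⟩
  have hr0 : r ≠ 0 := hr ▸ div_ne_zero ht0 hs0
  have hσr : σ r = r := by
    rw [hr, map_div₀, div_eq_div_iff hσs hs0]
    linear_combination -hη
  obtain ⟨h, hhs, hhr, hhu, hhv, hhe⟩ := fr.exists_torus R hσr hr0
  have hiu : ap h⁻¹ u = r⁻¹ • u := by
    conv_rhs => rw [← inv_ap h u, hhu, ap_smul, inv_smul_smul₀ hr0]
  have hiv : ap h⁻¹ v = r • v := by
    conv_rhs => rw [← inv_ap h v, hhv, ap_smul, smul_inv_smul₀ hr0]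
  have hie : ap h⁻¹ e = e := by conv_lhs => rw [← hhe, inv_ap]
  obtain ⟨c, hc⟩ : ∃ c : GL (Fin 3) F, ∀ x, ap c x = s • x :=
    ⟨⟨s • (1 : Matrix (Fin 3) (Fin 3) F), s⁻¹ • (1 : Matrix (Fin 3) (Fin 3) F),
      by rw [Matrix.smul_mul, Matrix.mul_smul, smul_smul, one_mul, mul_inv_cancel₀ hs0, one_smul],
      by rw [Matrix.smul_mul, Matrix.mul_smul, smul_smul, one_mul, inv_mul_cancel₀ hs0, one_smul]⟩,
      fun x => by simp [ap, smul_mulVec]⟩
  have hci : ∀ x, ap c⁻¹ x = s⁻¹ • x := fun x => by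
    conv_rhs => rw [← ap_inv c x, hc, inv_smul_smul₀ hs0]
  have hcI : Isom f c := fun x y => by rw [hc, hc, R.smul_left, R.smul_right, ← mul_assoc, hNs, one_mul]
  obtain ⟨U, hU⟩ : ∃ U, U = c⁻¹ * g * h⁻¹ := ⟨_, rfl⟩
  have hUI : Isom f U := hU ▸ (hcI.inv.mul hgI).mul hhs.inv.1
  have hUu : ap U u = u := by
    rw [hU, ap_mul, ap_mul, hiu, ap_smul, ht, hci, smul_smul, smul_smul, hr]
    match_scalars; field_simp
  obtain ⟨γ, hγ⟩ : ∃ γ, γ = r / s * f (ap g v) v := ⟨_, rfl⟩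
  obtain ⟨δ, hδ⟩ : ∃ δ, δ = r / s * (f (ap g v) e / f e e) := ⟨_, rfl⟩
  have hUv : ap U v = γ • u + v + δ • e := by
    have h1 := hfx v
    rw [fr.vu] at h1
    have h2 : r / s * f (ap g v) u = 1 := by
      refine mul_right_cancel₀ (mul_ne_zero hσt (mul_ne_zero hs0 hs0)) ?_
      rw [show r / s * f (ap g v) u * (σ t * (s * s)) = r * s * (σ t * f (ap g v) u) by field_simp, h1, hr]
      field_simp
      linear_combination s * hη - t * hNs
    rw [hU, ap_mul, ap_mul, hiv, ap_smul, hci, fr.decomp R (ap g v), hγ, hδ]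
    match_scalars
    · ring
    · linear_combination h2
    · ring
  have hUe : ap U e = (a / s) • u + e := by
    rw [hU, ap_mul, ap_mul, hie, hge, hci]
    match_scalars <;> field_simp
  have ha' : a / s = -(σ δ * f e e) := by
    have h1 := hUI e v
    rw [hUe, hUv] at h1
    simp only [R.add_left, R.add_right, R.smul_left, R.smul_right, fr.uu, fr.uv, fr.ue, fr.eu, fr.ev] at h1
    linear_combination h1
  have hUE : IsE f U u (δ • e) γ := fun x => by
    obtain ⟨l, m, n, rfl⟩ := fr.span R x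
    simp only [ap_add, ap_smul, hUu, hUv, hUe, ha', R.add_left, R.smul_left, R.smul_right, fr.uu, fr.uv, fr.vu,
      fr.ue, fr.eu, fr.ve]
    module
  have hUS : InS f U := hUE.inS R fr.uu (hue δ) (by
    have h1 := hUI v v
    rw [hUv] at h1
    simp only [R.add_left, R.add_right, R.smul_left, R.smul_right, fr.uu, fr.vv, fr.uv, fr.vu, fr.ue, fr.eu,
      fr.ve, fr.ev] at h1
    rw [R.smul_left, R.smul_right]
    linear_combination h1)
  have hg' : g = c * U * h := by rw [hU]; group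
  have hcS : InS f c := ⟨hcI, by
    have h1 := hgd
    rw [hg', Units.val_mul, Units.val_mul, det_mul, det_mul, hUS.2, hhs.2, mul_one, mul_one] at h1
    exact h1⟩
  have hcM : c ∈ M := S.incl c hcS ⟨s⁻¹, inv_ne_zero hs0, fun x => by
    rw [hc, hc, inv_smul_smul₀ hs0, inv_smul_smul₀ hs0]⟩
  have hUM : U ∈ M := hU ▸ mul_mem (mul_mem (inv_mem hcM) hg) (inv_mem (S.incl h hhs hhr.com))
  by_cases hδr : σ δ = δ
  · obtain ⟨E, hEs, hEr, hE⟩ := R.exists_EU fr.cu (R.fx_smul fr.ce hδr) fr.uu (hue δ)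
    obtain ⟨k, hk⟩ : ∃ k, k = γ - -f (δ • e) (δ • e) / 2 := ⟨_, rfl⟩
    obtain ⟨T, hT⟩ := R.exists_E (u := u) (y := (0 : Fin 3 → F)) k fr.uu (R.zero_right u)
    have h3 := hT.mul R hE fr.uu (R.zero_right u) (R.perp_symm (hue δ))
    have e1 : T * E = U := IsE.uniq h3 fun x => by
      rw [hUE, hk, zero_add, R.zero_right, sub_zero, sub_add_cancel]
    have hk0 := hno T (by
      rw [eq_mul_inv_of_mul_eq e1]
      exact mul_mem hUM (inv_mem (S.incl E hEs hEr.com))) k hT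
    have hT1 : T = 1 := ap_ext fun x => by
      rw [hT, ap_one, hk0, R.zero_right, smul_zero, zero_mul, sub_zero, zero_smul, add_zero, add_zero]
    rw [hT1, one_mul] at e1
    refine ⟨s⁻¹, inv_ne_zero hs0, fun x => ?_⟩
    rw [hg', ← e1]
    simp only [ap_mul, hc, inv_smul_smul₀ hs0]
    rw [hEr, hhr]
  · exact absurd hno (fr.tv_of_irrational R S hδr hUM hUE)

/-- without transvections, an element moving a rational isotropic point to a rational point commutes with the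
conjugation -/
theorem com_of_iso (R : RS σ f C q) {M : Subgroup (GL (Fin 3) F)} (S : Sub f C M) (hno : NoTv f M u)
    {g : GL (Fin 3) F} (hg : g ∈ M) {z : Fin 3 → F} (hz : C z = z) (hz0 : z ≠ 0) (hzz : f z z = 0)
    {l : F} (hl : l ≠ 0) (hgz : C (l • ap g z) = l • ap g z) : Com C g := by
  obtain ⟨h1, h1s, h1r, m, hm, e1⟩ := fr.exists_move R hz hz0 hzz
  obtain ⟨h2, h2s, h2r, n, -, e2⟩ := fr.exists_move R hgz (smul_ne_zero hl (ap_ne_zero g hz0))
    (by rw [R.smul_left, R.smul_right, (S.ins g hg).1, hzz, mul_zero, mul_zero])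
  obtain ⟨g0, hg0⟩ : ∃ g0, g0 = h2 * g * h1⁻¹ := ⟨_, rfl⟩
  have hfix : ap g0 u = (m⁻¹ * (l⁻¹ * n)) • u := by
    rw [hg0, ap_mul, ap_mul, show u = m⁻¹ • ap h1 z by rw [e1, inv_smul_smul₀ hm], ap_smul h1⁻¹, inv_ap, ap_smul g,
      ap_smul h2]
    rw [show ap h2 (ap g z) = l⁻¹ • n • u by rw [← e2, ap_smul, inv_smul_smul₀ hl], e1, inv_smul_smul₀ hm,
      smul_smul, smul_smul, mul_assoc]
  have hg0m : g0 ∈ M := hg0 ▸ mul_mem (mul_mem (S.incl h2 h2s h2r.com) hg) (inv_mem (S.incl h1 h1s h1r.com))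
  exact (fr.com_of_fix R S hno hg0m hfix).sandwich h1r h2r.inv (by rw [hg0]; group)

/-- one transvection gives three independent full points -/
theorem full_of_tv (R : RS σ f C q) {M : Subgroup (GL (Fin 3) F)} (S : Sub f C M) (htv : ¬NoTv f M u) :
    ∃ a b c, UFull σ f M a ∧ UFull σ f M b ∧ UFull σ f M c ∧ LinearIndependent F ![a, b, c] := by
  unfold NoTv at htv
  push Not at htv
  obtain ⟨g, hg, k, hgE, hk⟩ := htv
  have hkt : k + σ k = 0 := hgE.trace R (S.ins g hg).1 fr.uu (fr.u_ne R)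
  have hsq : ∀ l : F, σ l = l → ∃ T ∈ M, IsE f T u 0 (l * l * k) := fun l hl => by
    rcases eq_or_ne l 0 with rfl | hl0
    · exact ⟨1, one_mem M, fun x => by rw [ap_one, R.zero_right]; module⟩
    obtain ⟨h, hhs, hhr, hhu, -, -⟩ := fr.exists_torus R hl hl0
    refine ⟨h * g * h⁻¹, mul_mem (mul_mem (S.incl h hhs hhr.com) hg) (inv_mem (S.incl h hhs hhr.com)), ?_⟩
    have h1 := hgE.conj hhs.1 (h := h)
    rw [hhu, show ap h (0 : Fin 3 → F) = 0 from mulVec_zero _] at h1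
    have h2 := h1.scale R
    rwa [smul_zero, hl] at h2
  obtain ⟨K, hK⟩ : ∃ K : Subfield F, ∀ x, x ∈ K ↔ σ x = x :=
    ⟨RingHom.eqLocusField σ.toRingHom (RingHom.id F), fun x => Iff.rfl⟩
  have hu : UFull σ f M u := by
    refine ⟨fr.uu, fun c hc => ?_⟩
    have hm : σ (c / k) = c / k := by
      rw [map_div₀, eq_neg_of_add_eq_zero_right hc, eq_neg_of_add_eq_zero_right hkt, neg_div_neg_eq]
    obtain ⟨s, t, hst⟩ := CfsgLib.Geom.exists_binary_eq (F := K) (a := 1) (b := 1)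
      (fun h => R.two (congrArg Subtype.val h)) one_ne_zero one_ne_zero ⟨c / k, (hK _).2 hm⟩
    obtain ⟨T₁, hT₁m, hT₁⟩ := hsq s ((hK _).1 s.2)
    obtain ⟨T₂, hT₂m, hT₂⟩ := hsq t ((hK _).1 t.2)
    refine ⟨by rw [smul_dotProduct, hDual_dot R.form, fr.uu, smul_zero], T₁ * T₂, mul_mem hT₁m hT₂m,
      Matrix.ext_of_mulVec_single fun i => ?_⟩
    have h3 := hT₁.mul R hT₂ fr.uu (R.zero_right u) (R.zero_left u) (Pi.single i 1)
    rw [uTv_mulVec R.form]
    refine h3.trans ?_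
    have e := congrArg Subtype.val hst
    simp only [Subfield.coe_add, Subfield.coe_mul, Subfield.coe_one, one_mul] at e
    have : c = (s : F) * s * k + t * t * k := by rw [← add_mul, e, div_mul_cancel₀ _ hk]
    simp only [R.zero_right, add_zero, smul_zero, sub_zero, this]
  obtain ⟨w, hws, hwr, hwu, -⟩ := fr.exists_swap R
  have hv : UFull σ f M v := hwu ▸ hu.conj R.form (S.incl w hws hwr.com) hws.1
  obtain ⟨E, hEs, hEr, hE⟩ := R.exists_EU fr.cu fr.ce fr.uu fr.ue
  refine ⟨u, v, ap E v, hu, hv, hv.conj R.form (S.incl E hEs hEr.com) hEs.1, ?_⟩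
  rw [hE, fr.vu, fr.ve, Fintype.linearIndependent_iff]
  intro c hc
  rw [Fin.sum_univ_three] at hc
  simp only [Matrix.cons_val] at hc
  have h1 := congrArg (f · u) hc
  have h2 := congrArg (f · v) hc
  have h3 := congrArg (f · e) hc
  simp only [R.add_left, R.smul_left, R.zero_left, fr.uu, fr.vv, fr.uv, fr.vu, fr.ue, fr.eu, fr.ve, fr.ev,
    mul_zero, mul_one, add_zero, zero_add, one_mul, mul_eq_zero, fr.ee, or_false] at h1 h2 h3
  rw [h3, zero_mul, add_zero] at h2
  rw [h3, add_zero] at h1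
  intro i
  fin_cases i <;> assumption

end Fr

end CfsgLib.MaxSub.SuThree.Orth
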