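import Cfsg.Agent.Lib.MaxSub.SuThree.Basic
import Cfsg.Prelude.Def_GeometricClasses

/-!
The stabilisers of isotropic and of non-degenerate points are maximal in the three-dimensional special
unitary group.
-/

set_option autoImplicit false
set_option linter.unusedSectionVars false

namespace CfsgLib.MaxSub.SuThree

open Matrix CfsgLib.MaxSub
open scoped MatrixGroups

variable {F : Type*} [Field F] [Fintype F] {q : ℕ}

/-- transvections with centre in the orthogonal of a subspace stabilise it -/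
theorem uTv_mem_stab (hF : Fintype.card F = q ^ 2) {W : Submodule F (Fin 3 → F)} {z : Fin 3 → F}
    (hz : Cfsg.hermForm 3 F q z z = 0) (hW : ∀ x ∈ W, Cfsg.hermForm 3 F q x z = 0)
    {M : Subgroup (GL (Fin 3) F)}
    (hM : Cfsg.Geo.subspaceStabilizer W ⊓ (Cfsg.GU 3 F q ⊓ Cfsg.Geo.specialLinear (Fin 3) F) ≤ M) :
    UFull (qConj hF) (Cfsg.hermForm 3 F q) M z := by
  have hf := isUnitaryForm_hermForm hF 3
  refine ⟨hz, fun c hc => ?_⟩
  have hd : (c • hDual (Cfsg.hermForm 3 F q) z) ⬝ᵥ z = 0 := by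
    rw [smul_dotProduct, hDual_dot hf, hz, smul_zero]
  exact (hasTv_iff hd).2 (hM ⟨mem_subspaceStabilizer_of_maps fun x hx => by
    rw [coe_tvGL, uTv_mulVec hf, hW x hx, mul_zero, zero_smul, add_zero]
    exact hx, uTv_mem_su hF hz hc hd⟩)

/-- an isotropic point stabiliser is maximal -/
theorem isotropic_maximal (hF : Fintype.card F = q ^ 2) (hq : 3 ≤ q) (W : Submodule F (Fin 3 → F))
    (hW0 : W ≠ ⊥) (hW : Cfsg.Geo.IsTotallySingularFor (Cfsg.hermForm 3 F q) W) :
    Cfsg.Geo.IsMaximalIn (Cfsg.GU 3 F q ⊓ Cfsg.Geo.specialLinear (Fin 3) F)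
      (Cfsg.Geo.subspaceStabilizer W ⊓ (Cfsg.GU 3 F q ⊓ Cfsg.Geo.specialLinear (Fin 3) F)) := by
  classical
  have hf := isUnitaryForm_hermForm hF 3
  set f := Cfsg.hermForm 3 F q with hfdef
  obtain ⟨z, hz, hz0⟩ := W.exists_mem_ne_zero_of_ne_bot hW0
  have hzz : f z z = 0 := hW z hz z hz
  have hWs : ∀ x, x ∈ W ↔ x ∈ Submodule.span F {z} := fun x =>
    ⟨fun hx => mem_span_of_iso_orth hF hz0 hzz (hW x hx x hx) (hW z hz x hx),
      fun hx => (Submodule.span_singleton_le_iff_mem _ _).2 hz hx⟩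
  have hWz : ∀ x ∈ W, f x z = 0 := fun x hx => hW x hx z hz
  refine isMaximalIn_of_lt (lt_of_le_of_ne inf_le_right fun he => ?_) fun M hM hMS g hg hgH => ?_
  · obtain ⟨⟨x, hx⟩, -⟩ := hf.nondegenerate z hz0
    obtain ⟨t, ht⟩ := exists_shift hf hzz (z := x) hx
    obtain ⟨r, hre⟩ : ∃ r, r = x + t • z := ⟨_, rfl⟩
    rw [← hre] at ht
    have hrz : f r z ≠ 0 := by rw [hre, hf.add_left, hf.smul_left, hzz, mul_zero, add_zero]; exact hx
    obtain ⟨c, hc0, hc⟩ := exists_trace_zero hf
    have hd : (c • hDual f r) ⬝ᵥ r = 0 := by rw [smul_dotProduct, hDual_dot hf, ht, smul_zero]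
    have hmem := uTv_mem_su hF ht hc hd
    rw [← he] at hmem
    have h := maps_of_mem_subspaceStabilizer hmem.1 hz
    rw [coe_tvGL, uTv_mulVec hf, Submodule.add_mem_iff_right _ hz,
      W.smul_mem_iff (mul_ne_zero hc0 fun e => hrz (herm_eq_zero_comm hf e))] at h
    exact hrz (hWz r h)
  · have hfull := uTv_mem_stab hF hzz hWz hM
    obtain ⟨r, hre⟩ : ∃ r, r = (g : Matrix (Fin 3) (Fin 3) F) *ᵥ z := ⟨_, rfl⟩
    have hrW : r ∉ W := fun h => hgH ⟨mem_subspaceStabilizer_of_maps fun x hx => by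
      obtain ⟨c, rfl⟩ := Submodule.mem_span_singleton.1 ((hWs x).1 hx)
      rw [mulVec_smul, ← hre]; exact W.smul_mem c h, hMS hg⟩
    have hr : UFull (qConj hF) f M r := hre ▸ hfull.conj hf hg (isometry_of_mem hF hMS hg)
    have hzr : f r z ≠ 0 := fun e =>
      hrW ((hWs r).2 (mem_span_of_iso_orth hF hz0 hzz hr.1 (herm_eq_zero_comm hf e)))
    obtain ⟨y, hy, hy0⟩ := (hPerp hf (Submodule.span F (Set.range ![z, r]))).exists_mem_ne_zero_of_ne_bot
      (fun e => by
        have h1 := finrank_le_finrank_hPerp_add hf (Submodule.span F (Set.range ![z, r]))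
        have h2 : Module.finrank F (Submodule.span F (Set.range ![z, r])) ≤ 2 := by
          simpa [Set.finrank] using finrank_range_le_card (R := F) ![z, r]
        rw [e, finrank_bot] at h1
        omega)
    have hyz : f y z = 0 := hy z (Submodule.subset_span ⟨0, rfl⟩)
    have hyr : f y r = 0 := hy r (Submodule.subset_span ⟨1, rfl⟩)
    obtain ⟨k, hk⟩ := exists_trace_eq hf (a := -f y y) (by rw [map_neg, herm_self_fixed hf])
    have hzy := herm_eq_zero_comm hf hyz
    have hh : hEich hf z y k hzz hzy ∈ M := hM ⟨mem_subspaceStabilizer_of_maps fun x hx => by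
        obtain ⟨c, rfl⟩ := Submodule.mem_span_singleton.1 ((hWs x).1 hx)
        rw [hEich_mulVec hf, hf.smul_left, hf.smul_left, hzy, hzz]
        simp [W.smul_mem c hz],
      fun a b => hEich_isometry hf z y k hzz hzy hk a b, hEich_mem_specialLinear hf z y k hzz hzy⟩
    refine su_le_of_three hF hq hfull hr (hr.conj hf hh (isometry_of_mem hF hMS hh)) ?_
    refine Fintype.linearIndependent_iff.2 fun c hc => ?_
    simp only [Fin.sum_univ_three, cons_val, hEich_mulVec hf] at hc
    have hry := herm_eq_zero_comm hf hyr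
    have hzr' : f z r ≠ 0 := fun e => hzr (herm_eq_zero_comm hf e)
    have h1 := congrArg (fun v => f v z) hc
    have h2 := congrArg (fun v => f v r) hc
    simp only [hf.add_left, hf.smul_left, herm_zero_left hf, hzz, hr.1, hyz, hyr] at h1 h2
    have e12 : c 1 + c 2 = 0 :=
      (mul_eq_zero.1 (show (c 1 + c 2) * f r z = 0 by linear_combination h1)).resolve_right hzr
    have e0 : c 0 + c 2 * (f r y + k * f r z) = 0 :=
      (mul_eq_zero.1 (show (c 0 + c 2 * (f r y + k * f r z)) * f z r = 0 by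
        linear_combination h2)).resolve_right hzr'
    have e2 : (c 2 * -f r z) • y = 0 := by
      have : c 0 • z + c 1 • r + c 2 • (r + (f r y + k * f r z) • z + (-f r z) • y) =
          (c 0 + c 2 * (f r y + k * f r z)) • z + (c 1 + c 2) • r + (c 2 * -f r z) • y := by module
      rw [this, e0, e12, zero_smul, zero_smul, zero_add, zero_add] at hc
      exact hc
    rw [smul_eq_zero, mul_neg, neg_eq_zero, mul_eq_zero] at e2
    have c2 : c 2 = 0 := (e2.resolve_right hy0).resolve_right hzr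
    intro i
    fin_cases i
    · show c 0 = 0; rw [c2, zero_mul, add_zero] at e0; exact e0
    · show c 1 = 0; rw [c2, add_zero] at e12; exact e12
    · exact c2

/-- a non-degenerate point stabiliser is maximal -/
theorem point_maximal (hF : Fintype.card F = q ^ 2) (hq : 3 ≤ q) (W : Submodule F (Fin 3 → F)) (hW0 : W ≠ ⊥)
    (hW : Cfsg.Geo.IsNondegenerateOn (Cfsg.hermForm 3 F q) W) (hdim : 2 * Module.finrank F W < 3) :
    Cfsg.Geo.IsMaximalIn (Cfsg.GU 3 F q ⊓ Cfsg.Geo.specialLinear (Fin 3) F)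
      (Cfsg.Geo.subspaceStabilizer W ⊓ (Cfsg.GU 3 F q ⊓ Cfsg.Geo.specialLinear (Fin 3) F)) := by
  classical
  have hf := isUnitaryForm_hermForm hF 3
  set f := Cfsg.hermForm 3 F q with hfdef
  obtain ⟨w, hw, hw0⟩ := W.exists_mem_ne_zero_of_ne_bot hW0
  have hWw : W = Submodule.span F {w} := by
    refine (Submodule.eq_of_le_of_finrank_le ?_ ?_).symm
    · rw [Submodule.span_singleton_le_iff_mem]; exact hw
    · rw [finrank_span_singleton hw0]; omega
  have hww : f w w ≠ 0 := fun e => by
    obtain ⟨⟨x, hx, hxw⟩, -⟩ := hW w hw hw0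
    rw [hWw, Submodule.mem_span_singleton] at hx
    obtain ⟨c, rfl⟩ := hx
    rw [hf.smul_left, e, mul_zero] at hxw
    exact hxw rfl
  have hP : ∀ v, v ∈ hPerp hf W ↔ f v w = 0 := fun v => by
    refine ⟨fun h => h w hw, fun h u hu => ?_⟩
    rw [hWw, Submodule.mem_span_singleton] at hu
    obtain ⟨c, rfl⟩ := hu
    rw [herm_smul_right hf, h, mul_zero]
  obtain ⟨p, hp, hp0, hpp⟩ := exists_isotropic hf (U := hPerp hf W) (by
    have := finrank_le_finrank_hPerp_add hf W
    rw [hWw, finrank_span_singleton hw0] at this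
    rw [hWw]; omega)
  obtain ⟨y, hy, hpy⟩ := exists_hPerp_of_notMem hf (W := W) (x := p) (fun hpW => hp0 (by
    rw [hWw, Submodule.mem_span_singleton] at hpW
    obtain ⟨c, rfl⟩ := hpW
    have := (hP _).1 hp
    rw [hf.smul_left, mul_eq_zero] at this
    rw [this.resolve_right hww, zero_smul]))
  have hyp : f y p ≠ 0 := fun e => hpy (herm_eq_zero_comm hf e)
  obtain ⟨t, ht⟩ := exists_shift hf hpp hyp
  obtain ⟨r, hre⟩ : ∃ r, r = y + t • p := ⟨_, rfl⟩
  rw [← hre] at ht
  have hrP : r ∈ hPerp hf W := hre ▸ add_mem hy ((hPerp hf W).smul_mem t hp)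
  have hrp : f r p ≠ 0 := by rw [hre, hf.add_left, hf.smul_left, hpp, mul_zero, add_zero]; exact hyp
  have hpw := (hP p).1 hp
  have hrw := (hP r).1 hrP
  have hwp := herm_eq_zero_comm hf hpw
  have hwr := herm_eq_zero_comm hf hrw
  refine isMaximalIn_of_lt (lt_of_le_of_ne inf_le_right fun he => ?_) fun M hM hMS g hg hgH => ?_
  · obtain ⟨s, hs⟩ := exists_shift hf hpp (z := w + r) (by rw [hf.add_left, hwp, zero_add]; exact hrp)
    obtain ⟨x, hxe⟩ : ∃ x, x = w + r + s • p := ⟨_, rfl⟩
    rw [← hxe] at hs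
    have hwx : f w x = f w w := by
      rw [hxe, herm_add_right hf, herm_add_right hf, herm_smul_right hf, hwp, hwr]; ring
    obtain ⟨c, hc0, hc⟩ := exists_trace_zero hf
    have hd : (c • hDual f x) ⬝ᵥ x = 0 := by rw [smul_dotProduct, hDual_dot hf, hs, smul_zero]
    have hmem := uTv_mem_su hF hs hc hd
    rw [← he] at hmem
    have h := maps_of_mem_subspaceStabilizer hmem.1 hw
    rw [coe_tvGL, uTv_mulVec hf, hwx, Submodule.add_mem_iff_right _ hw, W.smul_mem_iff (mul_ne_zero hc0 hww),
      hWw, Submodule.mem_span_singleton] at h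
    obtain ⟨d, hd'⟩ := h
    have h1 : f x p = 0 := by rw [← hd', hf.smul_left, hwp, mul_zero]
    rw [hxe, hf.add_left, hf.add_left, hf.smul_left, hwp, hpp] at h1
    exact hrp (by linear_combination h1)
  · have hbase : ∀ z, f z w = 0 → f z z = 0 → UFull (qConj hF) f M z := fun z hz hzz =>
      uTv_mem_stab hF hzz (fun u hu => herm_eq_zero_comm hf ((hP z).2 hz u hu)) hM
    have hfp := hbase p hpw hpp
    have hfr := hbase r hrw ht
    have hind3 : ∀ v, f v w ≠ 0 → LinearIndependent F ![p, r, v] := fun v hv => by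
      refine Fintype.linearIndependent_iff.2 fun c hc => ?_
      simp only [Fin.sum_univ_three, cons_val] at hc
      have h1 := congrArg (fun u => f u w) hc
      simp only [hf.add_left, hf.smul_left, herm_zero_left hf, hpw, hrw, mul_zero, zero_add] at h1
      have c2 : c 2 = 0 := (mul_eq_zero.1 h1).resolve_right hv
      rw [c2, zero_smul, add_zero] at hc
      have h2 := congrArg (fun u => f u p) hc
      simp only [hf.add_left, hf.smul_left, herm_zero_left hf, hpp, mul_zero, zero_add] at h2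
      have c1 : c 1 = 0 := (mul_eq_zero.1 h2).resolve_right hrp
      rw [c1, zero_smul, add_zero, smul_eq_zero] at hc
      intro i
      fin_cases i
      · exact hc.resolve_right hp0
      · exact c1
      · exact c2
    obtain ⟨v, hv, hvf, hvw⟩ : ∃ v, (v = p ∨ v = r) ∧ UFull (qConj hF) f M v ∧
        f ((g : Matrix (Fin 3) (Fin 3) F) *ᵥ v) w ≠ 0 := by
      by_contra hno
      push Not at hno
      refine hgH ⟨mem_of_map_hPerp hf (isometry_of_mem hF hMS hg) fun z hz => ?_, hMS hg⟩
      have htop := (hind3 w hww).span_eq_top_of_card_eq_finrank' (by simp)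
      obtain ⟨c, rfl⟩ := (Submodule.mem_span_range_iff_exists_fun F).1
        (show z ∈ Submodule.span F (Set.range ![p, r, w]) by rw [htop]; trivial)
      have h1 := (hP _).1 hz
      simp only [Fin.sum_univ_three, cons_val, hf.add_left, hf.smul_left, hpw, hrw, mul_zero, zero_add] at h1
      simp only [Fin.sum_univ_three, cons_val, (mul_eq_zero.1 h1).resolve_right hww, zero_smul, add_zero,
        mulVec_add, mulVec_smul]
      refine (hP _).2 ?_
      rw [hf.add_left, hf.smul_left, hf.smul_left, hno p (Or.inl rfl) hfp, hno r (Or.inr rfl) hfr]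
      ring
    exact su_le_of_three hF hq hfp hfr (hvf.conj hf hg (isometry_of_mem hF hMS hg)) (hind3 _ hvw)

end CfsgLib.MaxSub.SuThree
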