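import Cfsg.Agent.Lib.AschU.Rational
import Mathlib.FieldTheory.Finite.Basic

/-!
Powers in a finite field with an involutive automorphism, and exponents of the Singer group.
-/

set_option autoImplicit false
set_option linter.unusedSectionVars false

namespace CfsgLib.MaxSub.SuThree

/-- an involutive automorphism of a finite field of order `Q²` is the `Q`-th power map -/
theorem ringHom_involutive_eq_pow {L : Type*} [Field L] [Fintype L] {Q : ℕ} (hQ : Fintype.card L = Q ^ 2)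
    (τ : L →+* L) (h2 : ∀ x, τ (τ x) = x) (hne : ∃ x, τ x ≠ x) (x : L) : τ x = x ^ Q := by
  classical
  obtain ⟨θ, hθ⟩ := hne
  have hd : θ - τ θ ≠ 0 := sub_ne_zero.2 (Ne.symm hθ)
  have hQ2 : 2 ≤ Q := by
    by_contra h
    have h1 := Fintype.one_lt_card (α := L)
    rw [hQ] at h1
    interval_cases Q <;> norm_num at h1
  -- the fixed field
  let K0 : Subfield L := RingHom.eqLocusField τ (RingHom.id L)
  have hK0 : ∀ y, y ∈ K0 ↔ τ y = y := fun y => Iff.rfl
  let φ : K0 × K0 → L := fun ab => (ab.1 : L) + (ab.2 : L) * θ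
  have hφ : Function.Bijective φ := by
    constructor
    · rintro ⟨a, b⟩ ⟨a', b'⟩ h
      simp only [φ] at h
      have h' := congrArg τ h
      simp only [map_add, map_mul, (hK0 _).1 a.2, (hK0 _).1 b.2, (hK0 _).1 a'.2, (hK0 _).1 b'.2] at h'
      have hb : (b : L) = b' := mul_right_cancel₀ hd (by linear_combination h - h')
      rw [hb] at h
      exact Prod.ext (Subtype.ext (add_right_cancel h)) (Subtype.ext hb)
    · intro y
      obtain ⟨b, hb⟩ : ∃ b, b = (y - τ y) / (θ - τ θ) := ⟨_, rfl⟩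
      have hτb : τ b = b := by
        have hd' : τ θ - θ ≠ 0 := sub_ne_zero.2 hθ
        rw [hb, map_div₀, map_sub, map_sub, h2, h2]
        field_simp
        ring
      refine ⟨(⟨y - b * θ, (hK0 _).2 ?_⟩, ⟨b, (hK0 _).2 hτb⟩), by simp [φ]⟩
      rw [map_sub, map_mul, hτb]
      have h3 : b * (θ - τ θ) = y - τ y := by rw [hb, div_mul_cancel₀ _ hd]
      linear_combination h3
  have hcard : Nat.card K0 = Q := by
    have h := Nat.card_congr (Equiv.ofBijective φ hφ)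
    rw [Nat.card_prod, Nat.card_eq_fintype_card (α := L), hQ, pow_two] at h
    exact Nat.mul_self_inj.1 h
  -- conjugates
  have hfix : ∀ y ∈ K0, y ^ Q = y := fun y hy => by
    have := Fintype.ofFinite K0
    have h := FiniteField.pow_card (K := K0) ⟨y, hy⟩
    rw [← Nat.card_eq_fintype_card, hcard] at h
    exact congrArg Subtype.val h
  have e1 : (x + τ x) ^ Q = x + τ x := hfix _ (by rw [hK0, map_add, h2, add_comm])
  have e2 : (x * τ x) ^ Q = x * τ x := hfix _ (by rw [hK0, map_mul, h2, mul_comm])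
  obtain ⟨p, hp⟩ := CharP.exists L
  have hpr : p.Prime := CharP.char_is_prime L p
  have : Fact p.Prime := ⟨hpr⟩
  obtain ⟨n, -, hn⟩ := FiniteField.card L p
  obtain ⟨m, -, hm⟩ := (Nat.dvd_prime_pow hpr).1 (show Q ∣ p ^ (n : ℕ) by
    rw [← hn, hQ]; exact dvd_pow_self Q two_ne_zero)
  have hadd : (x + τ x) ^ Q = x ^ Q + (τ x) ^ Q := by rw [hm]; exact add_pow_char_pow x (τ x) p m
  rw [hadd] at e1
  rw [mul_pow] at e2
  have key : (x ^ Q - x) * (x ^ Q - τ x) = 0 := by linear_combination (x ^ Q) * e1 - e2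
  rcases mul_eq_zero.1 key with h | h
  · have hx : x ∈ K0 := CfsgLib.AschU.mem_subfield_of_pow_card (by rw [hcard]; exact sub_eq_zero.1 h)
    rw [(hK0 x).1 hx]
    exact (sub_eq_zero.1 h).symm
  · exact (sub_eq_zero.1 h).symm

section arith

variable {q s : ℕ} (hs : s + q = q * q + 1)
include hs

/-- the two equations cut out the group of order `q² - q + 1` -/
theorem gcd_singer : Nat.gcd (q ^ 3 + 1) (q ^ 4 + q ^ 2 + 1) = s := by
  have h1 : q ^ 3 + 1 = s * (q + 1) := by nlinarith [congrArg (· * (q + 1)) hs]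
  have h2 : q ^ 4 + q ^ 2 + 1 = s * (q * q + q + 1) := by nlinarith [congrArg (· * (q * q + q + 1)) hs]
  have hc : Nat.gcd (q + 1) (q * q + q + 1) = 1 := by
    rw [show q * q + q + 1 = 1 + q * (q + 1) by ring, Nat.gcd_add_mul_right_right, Nat.gcd_one_right]
  rw [h1, h2, Nat.gcd_mul_left, hc, mul_one]

theorem singer_dvd_units : s ∣ (q ^ 3) ^ 2 - 1 := by
  refine Dvd.intro ((q + 1) * (q ^ 3 - 1)) ?_
  rw [show (q ^ 3) ^ 2 - 1 = (q ^ 3 + 1) * (q ^ 3 - 1) by rw [← Nat.sq_sub_sq, one_pow],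
    show q ^ 3 + 1 = s * (q + 1) by nlinarith [congrArg (· * (q + 1)) hs], mul_assoc]

theorem gcd_singer_sub : Nat.gcd s (q * q - 1) = Nat.gcd 3 (q + 1) := by
  rcases Nat.eq_zero_or_pos q with rfl | hq
  · simp at hs; subst hs; simp
  obtain ⟨m, rfl⟩ : ∃ m, q = m + 1 := ⟨q - 1, by omega⟩
  have hs' : s = m * m + m + 1 := by linarith
  have hsub : (m + 1) * (m + 1) - 1 = m * (m + 1 + 1) := by
    rw [show (m + 1) * (m + 1) = m * (m + 1 + 1) + 1 by ring, Nat.add_sub_cancel]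
  have hc1 : Nat.Coprime s m := by
    rw [hs', show m * m + m + 1 = 1 + (m + 1) * m by ring, Nat.Coprime, Nat.gcd_comm,
      Nat.gcd_add_mul_right_right, Nat.gcd_one_right]
  rw [hsub, Nat.Coprime.gcd_mul_left_cancel_right (m + 1 + 1) (Nat.Coprime.symm hc1)]
  obtain ⟨g, hg⟩ : ∃ g, g = Nat.gcd s (m + 1 + 1) := ⟨_, rfl⟩
  rw [← hg]
  refine Nat.dvd_antisymm (Nat.dvd_gcd ?_ ?_) ?_
  · have h1 : g ∣ s + (m + 1 + 1) := dvd_add (hg ▸ Nat.gcd_dvd_left _ _) (hg ▸ Nat.gcd_dvd_right _ _)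
    rw [show s + (m + 1 + 1) = m * (m + 1 + 1) + 3 by rw [hs']; ring] at h1
    exact (Nat.dvd_add_right ((hg ▸ Nat.gcd_dvd_right s (m + 1 + 1)).mul_left m)).1 h1
  · exact hg ▸ Nat.gcd_dvd_right _ _
  · rw [hg]
    refine Nat.dvd_gcd ?_ (Nat.gcd_dvd_right _ _)
    have h2 : Nat.gcd 3 (m + 1 + 1) ∣ m * (m + 1 + 1) + 3 :=
      dvd_add ((Nat.gcd_dvd_right _ _).mul_left m) (Nat.gcd_dvd_left _ _)
    rw [show m * (m + 1 + 1) + 3 = s + (m + 1 + 1) by rw [hs']; ring] at h2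
    exact (Nat.dvd_add_left (Nat.gcd_dvd_right 3 (m + 1 + 1))).1 h2

theorem gcd_singer_three : Nat.gcd s (3 * (q * q - 1)) ∣ q * q - 1 := by
  obtain ⟨g, hg⟩ : ∃ g, g = Nat.gcd s (3 * (q * q - 1)) := ⟨_, rfl⟩
  rw [← hg]
  by_cases h3 : 3 ∣ q + 1
  swap
  · have hc : Nat.Coprime g 3 := by
      refine Nat.Coprime.symm ((Nat.prime_three.coprime_iff_not_dvd).2 fun h => h3 ?_)
      have hsd : 3 ∣ s := h.trans (hg ▸ Nat.gcd_dvd_left _ _)
      rcases (show q % 3 = 0 ∨ q % 3 = 1 ∨ q % 3 = 2 by omega) with h2 | h2 | h2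
      · have h4 : q * q % 3 = 0 := by rw [Nat.mul_mod, h2]
        omega
      · have h4 : q * q % 3 = 1 := by rw [Nat.mul_mod, h2]
        omega
      · omega
    exact hc.dvd_of_dvd_mul_left (hg ▸ Nat.gcd_dvd_right _ _)
  · obtain ⟨j, hj⟩ := h3
    obtain ⟨t, rfl⟩ : ∃ t, q = 3 * t + 2 := ⟨j - 1, by omega⟩
    have hs' : s = 3 * (3 * t * t + 3 * t + 1) := by linarith
    obtain ⟨v, hv⟩ : ∃ v, v = 3 * t * t + 3 * t + 1 := ⟨_, rfl⟩
    rw [← hv] at hs'
    have hc : Nat.Coprime v 3 :=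
      Nat.Coprime.symm ((Nat.prime_three.coprime_iff_not_dvd).2 (by
        rw [hv, show 3 * t * t + 3 * t + 1 = 3 * (t * t + t) + 1 by ring]; omega))
    have hsub : (3 * t + 2) * (3 * t + 2) - 1 = 3 * ((t + 1) * (3 * t + 1)) := by
      rw [show (3 * t + 2) * (3 * t + 2) = 3 * ((t + 1) * (3 * t + 1)) + 1 by ring, Nat.add_sub_cancel]
    rw [hg, hsub, hs', Nat.gcd_mul_left]
    refine Nat.mul_dvd_mul_left 3 ?_
    exact (hc.coprime_dvd_left (Nat.gcd_dvd_left v _)).dvd_of_dvd_mul_left (Nat.gcd_dvd_right _ _)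

end arith

end CfsgLib.MaxSub.SuThree
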