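import Cfsg.Agent.Lib.MaxSub.SuThree.Basic
import Cfsg.Agent.Lib.MaxSub.SuThree.SingerPow
import Cfsg.Agent.Lib.MaxSub.ExtMatrix
import Cfsg.Agent.Lib.MaxSub.BlockMono
import Mathlib.FieldTheory.Finite.Trace
import Mathlib.FieldTheory.IntermediateField.Adjoin.Basic

/-!
The Singer group of the three-dimensional special unitary group inside an adjoint-closed cubic field of
matrices: its order, its normaliser, and the semiregularity of its action on the cosets of the normaliser.
-/

set_option autoImplicit false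
set_option linter.unusedSectionVars false
set_option linter.style.haveILetI false

namespace CfsgLib.MaxSub.SuThree

open Matrix CfsgLib.MaxSub CfsgLib.MaxSub.DecompMax
open scoped MatrixGroups

variable {F : Type*} [Field F] [Fintype F] {q : ℕ}

/-- the elements of the special unitary group lying in `K` -/
def singerGroup (q : ℕ) (K : Subalgebra F (Matrix (Fin 3) (Fin 3) F)) : Subgroup (GL (Fin 3) F) where
  carrier := {g | g ∈ Cfsg.GU 3 F q ⊓ Cfsg.Geo.specialLinear (Fin 3) F ∧ (g : Matrix (Fin 3) (Fin 3) F) ∈ K}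
  mul_mem' ha hb := ⟨mul_mem ha.1 hb.1, by rw [Units.val_mul]; exact K.mul_mem ha.2 hb.2⟩
  one_mem' := ⟨one_mem _, by rw [Units.val_one]; exact K.one_mem⟩
  inv_mem' {a} ha := by
    refine ⟨inv_mem ha.1, ?_⟩
    have : a⁻¹ = a ^ (orderOf a - 1) := by
      refine inv_eq_of_mul_eq_one_left ?_
      rw [← pow_succ, Nat.sub_add_cancel (orderOf_pos a), pow_orderOf_eq_one]
    rw [this, Units.val_pow_eq_pow_val]
    exact K.pow_mem ha.2 _

/-- the normaliser of `K` in the special unitary group -/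
abbrev singerNorm (q : ℕ) (K : Subalgebra F (Matrix (Fin 3) (Fin 3) F)) : Subgroup (GL (Fin 3) F) :=
  Cfsg.Geo.subalgebraNormalizer K ⊓ (Cfsg.GU 3 F q ⊓ Cfsg.Geo.specialLinear (Fin 3) F)

theorem singerGroup_le (K : Subalgebra F (Matrix (Fin 3) (Fin 3) F)) :
    singerGroup q K ≤ singerNorm q K := fun g hg => by
  refine ⟨fun k => ⟨fun hk => ?_, fun hk => ?_⟩, hg.1⟩
  · exact K.mul_mem (K.mul_mem hg.2 hk) ((singerGroup q K).inv_mem hg).2
  · have := K.mul_mem (K.mul_mem ((singerGroup q K).inv_mem hg).2 hk) hg.2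
    simpa [mul_assoc, ← Units.val_mul] using this

variable {K : Subalgebra F (Matrix (Fin 3) (Fin 3) F)} (hK : Cfsg.Geo.IsFieldSubalgebra 3 K)

include hK in
/-- a non-scalar element of the cubic field generates it -/
theorem singer_gen {x : Matrix (Fin 3) (Fin 3) F} (hx : x ∈ K) (hxs : ∀ c : F, x ≠ c • 1)
    {A : Subalgebra F (Matrix (Fin 3) (Fin 3) F)} (hA : x ∈ A) : K ≤ A := by
  letI : Field K := (isField_matField (by norm_num) K hK).toField
  have hfr : Module.finrank F K = 3 := hK.finrank_eq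
  have := (Subalgebra.isSimpleOrder_of_finrank_prime F K (hfr.symm ▸ Nat.prime_three)).eq_bot_or_eq_top
    (A.comap K.val)
  rcases this with h | h
  · exfalso
    have hx' : (⟨x, hx⟩ : K) ∈ A.comap K.val := hA
    rw [h, Algebra.mem_bot] at hx'
    obtain ⟨c, hc⟩ := hx'
    refine hxs c ?_
    have := congrArg Subtype.val hc
    rw [← Algebra.algebraMap_eq_smul_one]
    exact this.symm
  · intro k hk
    have : (⟨k, hk⟩ : K) ∈ A.comap K.val := by rw [h]; trivial
    exact this

include hK in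
/-- the cubic field is its own centraliser -/
theorem singer_centralizer {A : Matrix (Fin 3) (Fin 3) F} (hA : ∀ k ∈ K, A * k = k * A) : A ∈ K := by
  letI : Field K := (isField_matField (by norm_num) K hK).toField
  haveI : Finite K := inferInstanceAs (Finite (K : Set (Matrix (Fin 3) (Fin 3) F)))
  let f : K →ₗ[F] (Fin 3 → F) :=
    { toFun := fun k => (k : Matrix (Fin 3) (Fin 3) F) *ᵥ Pi.single 0 1
      map_add' := fun a b => by rw [Subalgebra.coe_add, add_mulVec]
      map_smul' := fun c a => by rw [Subalgebra.coe_smul, smul_mulVec]; rfl }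
  have hinj : Function.Injective f := by
    refine (injective_iff_map_eq_zero f).2 fun k hk => ?_
    by_contra hk0
    obtain ⟨y, -, hy⟩ := hK.inv k k.2 fun e => hk0 (Subtype.ext e)
    have h1 := congrArg (y *ᵥ ·) hk
    simp only [f, LinearMap.coe_mk, AddHom.coe_mk, mulVec_mulVec, mulVec_zero, mul_eq_one_comm.1 hy,
      one_mulVec] at h1
    simpa using congrFun h1 0
  haveI : Module.Finite F K := Module.Finite.of_finite
  have hsurj := (LinearMap.injective_iff_surjective_of_finrank_eq_finrank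
    (by rw [show Module.finrank F K = 3 from hK.finrank_eq, Module.finrank_fin_fun])).1 hinj
  obtain ⟨k, hk⟩ := hsurj (A *ᵥ Pi.single 0 1)
  have hAk : A = (k : Matrix (Fin 3) (Fin 3) F) := by
    refine Matrix.ext_of_mulVec_single fun i => ?_
    obtain ⟨k', hk'⟩ := hsurj (Pi.single i 1)
    rw [← hk']
    show A *ᵥ ((k' : Matrix (Fin 3) (Fin 3) F) *ᵥ Pi.single 0 1) = _
    rw [mulVec_mulVec, hA k' k'.2, ← mulVec_mulVec, ← hk]
    show (k' : Matrix (Fin 3) (Fin 3) F) *ᵥ ((k : Matrix (Fin 3) (Fin 3) F) *ᵥ Pi.single 0 1) =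
      (k : Matrix (Fin 3) (Fin 3) F) *ᵥ ((k' : Matrix (Fin 3) (Fin 3) F) *ᵥ Pi.single 0 1)
    rw [mulVec_mulVec, mulVec_mulVec, hK.comm _ k.2 _ k'.2]
  rw [hAk]; exact k.2

/-- conjugation by an element of the normaliser, as an automorphism of the field -/
def singerConjEquiv (y : singerNorm q K) : K ≃ₐ[F] K where
  toFun k := ⟨((y : GL (Fin 3) F) : Matrix (Fin 3) (Fin 3) F) * k *
    (((y : GL (Fin 3) F)⁻¹ : GL (Fin 3) F) : Matrix (Fin 3) (Fin 3) F), (y.2.1 k).1 k.2⟩
  invFun k := ⟨(((y : GL (Fin 3) F)⁻¹ : GL (Fin 3) F) : Matrix (Fin 3) (Fin 3) F) * k *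
    ((y : GL (Fin 3) F) : Matrix (Fin 3) (Fin 3) F), by
      have h := ((y⁻¹ : singerNorm q K).2.1 k).1 k.2
      simpa using h⟩
  left_inv k := Subtype.ext (by simp [mul_assoc])
  right_inv k := Subtype.ext (by simp [mul_assoc])
  map_mul' a b := Subtype.ext (by simp [mul_assoc])
  map_add' a b := Subtype.ext (by simp [mul_add, add_mul])
  commutes' c := Subtype.ext (by
    simp only [Subalgebra.coe_algebraMap]
    rw [← Algebra.commutes c, mul_assoc, ← Units.val_mul, mul_inv_cancel, Units.val_one, mul_one])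

/-- the action of the normaliser on the field -/
def singerConj (q : ℕ) (K : Subalgebra F (Matrix (Fin 3) (Fin 3) F)) : singerNorm q K →* (K ≃ₐ[F] K) where
  toFun := singerConjEquiv
  map_one' := AlgEquiv.ext fun k => Subtype.ext (by simp [singerConjEquiv])
  map_mul' a b := AlgEquiv.ext fun k => Subtype.ext (by
    simp [singerConjEquiv, mul_assoc, _root_.mul_inv_rev])

theorem singerConj_val (y : singerNorm q K) (k : K) : (singerConj q K y k : Matrix (Fin 3) (Fin 3) F) =
    ((y : GL (Fin 3) F) : Matrix (Fin 3) (Fin 3) F) * k *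
      (((y : GL (Fin 3) F)⁻¹ : GL (Fin 3) F) : Matrix (Fin 3) (Fin 3) F) := rfl

include hK in
/-- the cubic field has three automorphisms -/
theorem singer_card_aut : Nat.card (K ≃ₐ[F] K) = 3 := by
  letI : Field K := (isField_matField (by norm_num) K hK).toField
  haveI : Finite K := inferInstanceAs (Finite (K : Set (Matrix (Fin 3) (Fin 3) F)))
  haveI : Module.Finite F K := Module.Finite.of_finite
  exact (IsGalois.card_aut_eq_finrank F K).trans hK.finrank_eq

variable (hF : Fintype.card F = q ^ 2)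
include hK hF

/-- the order of the Singer group, and the field elements in it -/
theorem singer_card (hA : Cfsg.Geo.IsAdjointClosedFor (Cfsg.hermForm 3 F q) K) {s : ℕ}
    (hs : s + q = q * q + 1) :
    Nat.card (singerGroup q K) = s ∧ (∀ g ∈ singerGroup q K, g ^ s = 1) ∧
      ∀ g ∈ singerGroup q K, (∀ c : F, (g : Matrix (Fin 3) (Fin 3) F) ≠ c • 1) →
        ∀ c : F, ((g ^ 3 : GL (Fin 3) F) : Matrix (Fin 3) (Fin 3) F) ≠ c • 1 := by
  classical
  have hf := isUnitaryForm_hermForm hF 3
  have hq2 : 2 ≤ q := CfsgLib.Classical.two_le_of_card_sq hF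
  letI : Field K := (isField_matField (by norm_num) K hK).toField
  haveI : Finite K := inferInstanceAs (Finite (K : Set (Matrix (Fin 3) (Fin 3) F)))
  letI : Fintype K := Fintype.ofFinite K
  haveI : Module.Finite F K := Module.Finite.of_finite
  have hfr : Module.finrank F K = 3 := hK.finrank_eq
  have hcard : Fintype.card K = (q ^ 3) ^ 2 := by
    rw [← Nat.card_eq_fintype_card, Module.natCard_eq_pow_finrank (K := F) (V := K), hfr,
      Nat.card_eq_fintype_card, hF, ← pow_mul, ← pow_mul]
  -- the adjoint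
  choose adj hadjK hadj using hA
  have huniq : ∀ A B : Matrix (Fin 3) (Fin 3) F,
      (∀ u v, Cfsg.hermForm 3 F q u (A *ᵥ v) = Cfsg.hermForm 3 F q u (B *ᵥ v)) → A = B := fun A B h => by
    refine Matrix.ext_of_mulVec_single fun i => ?_
    by_contra hne
    obtain ⟨-, z, hz⟩ := hf.nondegenerate _ (sub_ne_zero.2 hne)
    apply hz
    rw [hf.herm, sub_eq_add_neg, ← neg_one_smul F (B *ᵥ _), herm_add_right hf,
      herm_smul_right hf, h, map_neg, map_one]
    simp
  let τ : K →+* K :=
    { toFun := fun x => ⟨adj x x.2, hadjK x x.2⟩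
      map_one' := Subtype.ext (huniq _ _ fun u v => by
        rw [← hadj]; show Cfsg.hermForm 3 F q ((1 : Matrix (Fin 3) (Fin 3) F) *ᵥ u) v = _
        rw [one_mulVec]; show _ = Cfsg.hermForm 3 F q u ((1 : Matrix (Fin 3) (Fin 3) F) *ᵥ v)
        rw [one_mulVec])
      map_zero' := Subtype.ext (huniq _ _ fun u v => by
        rw [← hadj]; show Cfsg.hermForm 3 F q ((0 : Matrix (Fin 3) (Fin 3) F) *ᵥ u) v = _
        rw [zero_mulVec]; show _ = Cfsg.hermForm 3 F q u ((0 : Matrix (Fin 3) (Fin 3) F) *ᵥ v)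
        rw [zero_mulVec, herm_zero_left hf, herm_zero_right hf])
      map_add' := fun x y => Subtype.ext (huniq _ _ fun u v => by
        rw [← hadj]
        show Cfsg.hermForm 3 F q (((x : Matrix (Fin 3) (Fin 3) F) + (y : Matrix (Fin 3) (Fin 3) F)) *ᵥ u) v =
          Cfsg.hermForm 3 F q u ((adj x x.2 + adj y y.2) *ᵥ v)
        rw [add_mulVec, add_mulVec, hf.add_left, herm_add_right hf, hadj _ x.2, hadj _ y.2])
      map_mul' := fun x y => Subtype.ext (huniq _ _ fun u v => by
        rw [← hadj]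
        show Cfsg.hermForm 3 F q (((x * y : K) : Matrix (Fin 3) (Fin 3) F) *ᵥ u) v =
          Cfsg.hermForm 3 F q u ((adj x x.2 * adj y y.2) *ᵥ v)
        rw [← mulVec_mulVec, ← hadj _ x.2 u, ← hadj _ y.2]
        rw [mul_comm x y, Subalgebra.coe_mul, ← mulVec_mulVec]) }
  have hτval : ∀ x : K, (τ x : Matrix (Fin 3) (Fin 3) F) = adj x x.2 := fun x => rfl
  have hττ : ∀ x, τ (τ x) = x := fun x => Subtype.ext (huniq _ _ fun u v => by
    rw [hτval, ← hadj, hτval, hf.herm, ← hadj _ x.2, ← hf.herm])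
  have hsmul : ∀ (c : F) (u : Fin 3 → F),
      ((algebraMap F K c : K) : Matrix (Fin 3) (Fin 3) F) *ᵥ u = c • u := fun c u => by
    rw [Subalgebra.coe_algebraMap, Algebra.algebraMap_eq_smul_one, smul_mulVec, one_mulVec]
  have hτne : ∃ x, τ x ≠ x := by
    obtain ⟨c, hc⟩ : ∃ c, qConj hF c ≠ c := by
      by_contra hall
      simp only [not_exists, not_not] at hall
      exact hf.ne_refl (RingEquiv.ext hall)
    refine ⟨algebraMap F K c, fun e => hc ?_⟩
    obtain ⟨⟨z, hz⟩, -⟩ := hf.nondegenerate (Pi.single 0 1) (Pi.single_ne_zero_iff.2 one_ne_zero)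
    have h1 := hadj _ (algebraMap F K c).2 z (Pi.single 0 1)
    rw [← hτval, e, hsmul, hsmul, hf.smul_left, herm_smul_right hf] at h1
    exact (mul_right_cancel₀ hz h1).symm
  have hτpow := ringHom_involutive_eq_pow hcard τ hττ hτne
  -- the determinant
  let f : K →ₗ[F] (Fin 3 → F) :=
    { toFun := fun k => (k : Matrix (Fin 3) (Fin 3) F) *ᵥ Pi.single 0 1
      map_add' := fun a b => by rw [Subalgebra.coe_add, add_mulVec]
      map_smul' := fun c a => by rw [Subalgebra.coe_smul, smul_mulVec]; rfl }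
  have hinj : Function.Injective f := by
    refine (injective_iff_map_eq_zero f).2 fun k hk => ?_
    by_contra hk0
    obtain ⟨y, -, hy⟩ := hK.inv k k.2 fun e => hk0 (Subtype.ext e)
    have h1 := congrArg (y *ᵥ ·) hk
    simp only [f, LinearMap.coe_mk, AddHom.coe_mk, mulVec_mulVec, mulVec_zero, mul_eq_one_comm.1 hy,
      one_mulVec] at h1
    simpa using congrFun h1 0
  let e : K ≃ₗ[F] (Fin 3 → F) := LinearEquiv.ofBijective f ⟨hinj,
    (LinearMap.injective_iff_surjective_of_finrank_eq_finrank (by rw [hfr, Module.finrank_fin_fun])).1 hinj⟩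
  have hdet : ∀ x : K, algebraMap F K (x : Matrix (Fin 3) (Fin 3) F).det = x ^ (q ^ 4 + q ^ 2 + 1) := by
    intro x
    have hL : Matrix.toLin' (x : Matrix (Fin 3) (Fin 3) F) =
        e.toLinearMap ∘ₗ (Algebra.lmul F K x) ∘ₗ e.symm.toLinearMap := LinearMap.ext fun v => by
      obtain ⟨y, rfl⟩ := e.surjective v
      simp only [LinearMap.coe_comp, Function.comp_apply, LinearEquiv.coe_coe, LinearEquiv.symm_apply_apply,
        Matrix.toLin'_apply]
      show _ = ((x * y : K) : Matrix (Fin 3) (Fin 3) F) *ᵥ Pi.single 0 1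
      rw [Subalgebra.coe_mul, ← mulVec_mulVec]; rfl
    rw [← LinearMap.det_toLin', hL, LinearMap.det_conj, ← Algebra.norm_apply,
      FiniteField.algebraMap_norm_eq_pow_sum, hfr, Nat.card_eq_fintype_card, hF]
    congr 1
    simp [Finset.sum_range_succ]; ring
  -- membership
  have hmem : ∀ (g : GL (Fin 3) F) (hg : (g : Matrix (Fin 3) (Fin 3) F) ∈ K),
      g ∈ singerGroup q K ↔ (⟨_, hg⟩ : K) ^ s = 1 := by
    intro g hg
    obtain ⟨x, hx⟩ : ∃ x : K, x = ⟨_, hg⟩ := ⟨_, rfl⟩
    rw [← hx]
    have h1 : q ^ 3 + 1 = s * (q + 1) := by nlinarith [congrArg (· * (q + 1)) hs]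
    have h2 : q ^ 4 + q ^ 2 + 1 = s * (q * q + q + 1) := by nlinarith [congrArg (· * (q * q + q + 1)) hs]
    have hU : g ∈ Cfsg.GU 3 F q ↔ x ^ (q ^ 3 + 1) = 1 := by
      rw [pow_succ, ← hτpow]
      constructor
      · intro h
        refine Subtype.ext (huniq _ _ fun u v => ?_)
        show Cfsg.hermForm 3 F q u ((adj x x.2 * (x : Matrix (Fin 3) (Fin 3) F)) *ᵥ v) =
          Cfsg.hermForm 3 F q u ((1 : Matrix (Fin 3) (Fin 3) F) *ᵥ v)
        rw [← mulVec_mulVec, ← hadj _ x.2, one_mulVec, hx]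
        exact h u v
      · intro h u v
        have hm : adj x x.2 * (x : Matrix (Fin 3) (Fin 3) F) = 1 := congrArg Subtype.val h
        have hxv : (x : Matrix (Fin 3) (Fin 3) F) = g := by rw [hx]
        show Cfsg.hermForm 3 F q ((g : Matrix (Fin 3) (Fin 3) F) *ᵥ u) ((g : Matrix (Fin 3) (Fin 3) F) *ᵥ v) = _
        rw [← hxv, hadj _ x.2, mulVec_mulVec, hm, one_mulVec]
    have hS : g ∈ Cfsg.Geo.specialLinear (Fin 3) F ↔ x ^ (q ^ 4 + q ^ 2 + 1) = 1 := by
      rw [mem_sl_iff, ← hdet, map_eq_one_iff _ (algebraMap F K).injective, hx]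
    constructor
    · intro h
      have h3 := hU.1 h.1.1
      have h4 := hS.1 h.1.2
      rw [← gcd_singer hs]
      exact pow_gcd_eq_one.2 ⟨h3, h4⟩
    · intro h
      exact ⟨⟨hU.2 (by rw [h1, pow_mul, h, one_pow]), hS.2 (by rw [h2, pow_mul, h, one_pow])⟩, hg⟩
  refine ⟨?_, fun g hg => ?_, fun g hg hgs c hc => ?_⟩
  · let toGL : Kˣ →* GL (Fin 3) F := Units.map K.val.toMonoidHom
    have hinjG : Function.Injective toGL := fun a b h =>
      Units.ext (Subtype.ext (congrArg Units.val h))
    have himg : singerGroup q K = (powMonoidHom s : Kˣ →* Kˣ).ker.map toGL := by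
      ext g
      constructor
      · intro hg
        have hgK := hg.2
        have h1 := (hmem g hgK).1 hg
        refine ⟨(Units.mk0 ⟨_, hgK⟩ fun e0 => Units.ne_zero g (congrArg Subtype.val e0)), Units.ext ?_, Units.ext rfl⟩
        exact h1
      · rintro ⟨x, hx, rfl⟩
        refine (hmem _ (x : K).2).2 ?_
        exact congrArg Units.val (MonoidHom.mem_ker.1 hx)
    rw [himg, Nat.card_congr ((Subgroup.equivMapOfInjective _ toGL hinjG).symm.toEquiv),
      IsCyclic.card_powMonoidHom_ker, Nat.card_units, Nat.card_eq_fintype_card, hcard,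
      Nat.gcd_eq_right (singer_dvd_units hs)]
  · have h := (hmem g hg.2).1 hg
    refine Units.ext ?_
    rw [Units.val_pow_eq_pow_val, Units.val_one]
    exact congrArg Subtype.val h
  · obtain ⟨x, hx⟩ : ∃ x : K, x = ⟨_, hg.2⟩ := ⟨_, rfl⟩
    have h1 : x ^ s = 1 := hx ▸ (hmem g hg.2).1 hg
    have h3 : x ^ 3 = algebraMap F K c := Subtype.ext (by
      rw [SubmonoidClass.coe_pow, Subalgebra.coe_algebraMap, Algebra.algebraMap_eq_smul_one, hx]
      rw [Units.val_pow_eq_pow_val] at hc
      exact hc)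
    have hx0 : x ≠ 0 := fun e0 => Units.ne_zero g (by rw [hx] at e0; exact congrArg Subtype.val e0)
    have hc0 : c ≠ 0 := fun e0 => pow_ne_zero 3 hx0 (by rw [h3, e0, map_zero])
    have h4 : x ^ (3 * (q * q - 1)) = 1 := by
      rw [pow_mul, h3, ← map_pow, ← map_one (algebraMap F K)]
      congr 1
      have := FiniteField.pow_card_sub_one_eq_one c hc0
      rwa [hF, pow_two] at this
    have h5 : x ^ (q * q - 1) = 1 := by
      obtain ⟨j, hj⟩ := gcd_singer_three hs
      rw [hj, pow_mul, pow_gcd_eq_one.2 ⟨h1, h4⟩, one_pow]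
    have hR : Nat.card (algebraMap F K).fieldRange = q ^ 2 := by
      show Nat.card (Set.range (algebraMap F K)) = _
      rw [Nat.card_range_of_injective (algebraMap F K).injective, Nat.card_eq_fintype_card, hF]
    obtain ⟨a, ha⟩ := RingHom.mem_fieldRange.1 (CfsgLib.AschU.mem_subfield_of_pow_card
      (F₀ := (algebraMap F K).fieldRange) (x := x) (by
        rw [hR, pow_two, show q * q = q * q - 1 + 1 from (Nat.sub_add_cancel (by nlinarith)).symm,
          pow_succ, h5, one_mul]))
    refine hgs a ?_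
    have h6 := congrArg Subtype.val ha
    rw [Subalgebra.coe_algebraMap, Algebra.algebraMap_eq_smul_one, hx] at h6
    exact h6.symm

omit hF in
/-- the Singer group acts semiregularly on the other cosets of the normaliser -/
theorem singer_semiregular {x g : GL (Fin 3) F} (hx : x ∈ singerGroup q K)
    (hxs : ∀ c : F, (x : Matrix (Fin 3) (Fin 3) F) ≠ c • 1)
    (hx3 : ∀ c : F, ((x ^ 3 : GL (Fin 3) F) : Matrix (Fin 3) (Fin 3) F) ≠ c • 1)
    (hg : g ∈ Cfsg.GU 3 F q ⊓ Cfsg.Geo.specialLinear (Fin 3) F)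
    (hy : g⁻¹ * x * g ∈ singerNorm q K) : g ∈ singerNorm q K := by
  classical
  obtain ⟨y, hye⟩ : ∃ y, y = g⁻¹ * x * g := ⟨_, rfl⟩
  rw [← hye] at hy
  have hconj : ∀ k : Matrix (Fin 3) (Fin 3) F, (y : Matrix (Fin 3) (Fin 3) F) ∈ K → k ∈ K →
      ((g⁻¹ : GL (Fin 3) F) : Matrix (Fin 3) (Fin 3) F) * k * (g : Matrix (Fin 3) (Fin 3) F) ∈ K := by
    intro k hyK hk
    let A : Subalgebra F (Matrix (Fin 3) (Fin 3) F) :=
      { carrier := {k | ((g⁻¹ : GL (Fin 3) F) : Matrix (Fin 3) (Fin 3) F) * k *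
          (g : Matrix (Fin 3) (Fin 3) F) ∈ K}
        mul_mem' := fun {a b} ha hb => by
          have := K.mul_mem ha hb
          simp only [Set.mem_ofPred_eq] at *
          simpa [mul_assoc, ← Units.val_mul] using this
        one_mem' := by simp [K.one_mem]
        add_mem' := fun {a b} ha hb => by
          simp only [Set.mem_ofPred_eq] at *
          rw [mul_add, add_mul]; exact K.add_mem ha hb
        zero_mem' := by simp [K.zero_mem]
        algebraMap_mem' := fun c => by
          simp only [Set.mem_ofPred_eq]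
          rw [← Algebra.commutes c, mul_assoc, ← Units.val_mul, inv_mul_cancel, Units.val_one, mul_one]
          exact K.algebraMap_mem c }
    have hxA : (x : Matrix (Fin 3) (Fin 3) F) ∈ A := by
      show _ ∈ K
      rw [hye, Units.val_mul, Units.val_mul] at hyK
      exact hyK
    exact singer_gen hK hx.2 hxs hxA hk
  by_cases hyK : (y : Matrix (Fin 3) (Fin 3) F) ∈ K
  · -- the field is normalised
    have hiff : ∀ k, k ∈ K → ((g⁻¹ : GL (Fin 3) F) : Matrix (Fin 3) (Fin 3) F) * k *
        (g : Matrix (Fin 3) (Fin 3) F) ∈ K := fun k => hconj k hyK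
    haveI : Finite K := inferInstanceAs (Finite (K : Set (Matrix (Fin 3) (Fin 3) F)))
    have hsurj : Function.Surjective (fun k : K => (⟨_, hiff k k.2⟩ : K)) :=
      Finite.surjective_of_injective fun a b h => Subtype.ext (by
        have := congrArg (fun k : K => (g : Matrix (Fin 3) (Fin 3) F) * k *
          ((g⁻¹ : GL (Fin 3) F) : Matrix (Fin 3) (Fin 3) F)) h
        simp only [← mul_assoc, ← Units.val_mul, mul_inv_cancel, Units.val_one, one_mul] at this
        simpa [mul_assoc, ← Units.val_mul] using this)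
    have hginv : g⁻¹ ∈ Cfsg.Geo.subalgebraNormalizer K := by
      intro k
      rw [inv_inv]
      refine ⟨hiff k, fun hk => ?_⟩
      obtain ⟨k', hk'⟩ := hsurj ⟨_, hk⟩
      have h1 := congrArg (fun k : K => (g : Matrix (Fin 3) (Fin 3) F) * k *
          ((g⁻¹ : GL (Fin 3) F) : Matrix (Fin 3) (Fin 3) F)) hk'
      simp only [← mul_assoc, ← Units.val_mul, mul_inv_cancel, Units.val_one, one_mul] at h1
      simp only [mul_assoc, ← Units.val_mul, mul_inv_cancel, Units.val_one, mul_one] at h1
      rw [← h1]; exact k'.2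
    exact ⟨inv_inv g ▸ (Cfsg.Geo.subalgebraNormalizer K).inv_mem hginv, hg⟩
  · exfalso
    have hy3K : ((y ^ 3 : GL (Fin 3) F) : Matrix (Fin 3) (Fin 3) F) ∈ K := by
      refine singer_centralizer hK fun k hk => ?_
      have h1 : singerConj q K (⟨y, hy⟩ ^ 3) = 1 := by
        have h := pow_card_eq_one' (x := singerConj q K ⟨y, hy⟩)
        rw [singer_card_aut hK] at h
        rw [map_pow, h]
      have h3 : ((y ^ 3 : GL (Fin 3) F) : Matrix (Fin 3) (Fin 3) F) * k *
          (((y ^ 3)⁻¹ : GL (Fin 3) F) : Matrix (Fin 3) (Fin 3) F) = k :=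
        congrArg Subtype.val (AlgEquiv.congr_fun h1 ⟨k, hk⟩)
      have h4 := congrArg (· * ((y ^ 3 : GL (Fin 3) F) : Matrix (Fin 3) (Fin 3) F)) h3
      simp only [mul_assoc, ← Units.val_mul, inv_mul_cancel, Units.val_one, mul_one] at h4
      exact h4
    by_cases hy3 : ∃ c : F, ((y ^ 3 : GL (Fin 3) F) : Matrix (Fin 3) (Fin 3) F) = c • 1
    · obtain ⟨c, hc⟩ := hy3
      refine hx3 c ?_
      rw [show x ^ 3 = g * y ^ 3 * g⁻¹ by rw [← conj_pow, hye]; group, Units.val_mul, Units.val_mul, hc,
        Matrix.mul_smul, Matrix.smul_mul, mul_one, ← Units.val_mul, mul_inv_cancel, Units.val_one]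
    · push Not at hy3
      apply hyK
      refine singer_centralizer hK fun k hk => ?_
      have hA : (y ^ 3 : GL (Fin 3) F).1 ∈ Subalgebra.centralizer F {(y : Matrix (Fin 3) (Fin 3) F)} := by
        rw [Subalgebra.mem_centralizer_iff]
        rintro _ rfl
        rw [Units.val_pow_eq_pow_val]
        exact (Commute.self_pow _ 3).eq
      have hkA := singer_gen hK hy3K hy3 hA hk
      rw [Subalgebra.mem_centralizer_iff] at hkA
      exact hkA _ rfl

omit hF in
/-- the normaliser is an extension of the Singer group by a group of order dividing three -/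
theorem singer_norm_card :
    ∃ j, (j = 1 ∨ j = 3) ∧ Nat.card (singerNorm q K) = Nat.card (singerGroup q K) * j := by
  classical
  have hker : (singerConj q K).ker = (singerGroup q K).subgroupOf (singerNorm q K) := by
    ext y
    rw [MonoidHom.mem_ker, Subgroup.mem_subgroupOf]
    constructor
    · intro h
      refine ⟨y.2.2, singer_centralizer hK fun k hk => ?_⟩
      have h1 : ((y : GL (Fin 3) F) : Matrix (Fin 3) (Fin 3) F) * k *
          (((y : GL (Fin 3) F)⁻¹ : GL (Fin 3) F) : Matrix (Fin 3) (Fin 3) F) = k :=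
        congrArg Subtype.val (AlgEquiv.congr_fun h ⟨k, hk⟩)
      have h2 := congrArg (· * ((y : GL (Fin 3) F) : Matrix (Fin 3) (Fin 3) F)) h1
      simp only [mul_assoc, ← Units.val_mul, inv_mul_cancel, Units.val_one, mul_one] at h2
      exact h2
    · intro h
      refine AlgEquiv.ext fun k => Subtype.ext ?_
      rw [singerConj_val]
      show _ = (k : Matrix (Fin 3) (Fin 3) F)
      rw [hK.comm _ h.2 _ k.2, mul_assoc, ← Units.val_mul, mul_inv_cancel, Units.val_one, mul_one]
  refine ⟨Nat.card (singerConj q K).range, ?_, ?_⟩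
  · have h := Subgroup.card_subgroup_dvd_card (singerConj q K).range
    rw [singer_card_aut hK] at h
    exact (Nat.dvd_prime Nat.prime_three).1 h
  · rw [← Nat.card_congr (Subgroup.subgroupOfEquivOfLe (singerGroup_le K)).toEquiv, ← hker,
      ← Subgroup.index_ker, Subgroup.card_mul_index]

end CfsgLib.MaxSub.SuThree
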