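import Mathlib

/-!
The divisors of `q³(q+1)²(q-1)/3` congruent to one modulo the order of the projective Singer cycle of the
three-dimensional unitary group.
-/

set_option autoImplicit false

namespace CfsgLib.MaxSub.SuThree

/-- the test for one value -/
def singerBad (q k : ℕ) : Bool :=
  let D := 1 + k * ((q * q - q + 1) / Nat.gcd 3 (q + 1))
  let I := q ^ 3 * (q + 1) ^ 2 * (q - 1)
  decide (1 ≤ k) && decide (3 * D ^ 2 ≤ I) && decide (I % (3 * D) = 0)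

set_option maxRecDepth 8000 in
theorem singer_num_small : ∀ q < 110, q ∉ [0, 1, 2, 3, 4, 5, 6, 8, 14, 35] →
    ∀ k < 4 * q, singerBad q k = false := by
  decide +kernel

set_option maxHeartbeats 1000000 in
/-- the smaller of the two factors is one, apart from two values of `q` -/
theorem singer_num_le {p a q d s sb k k' : ℕ} (hp : p.Prime) (hq : q = p ^ a) (h4 : 4 ≤ q) (h5 : q ≠ 5)
    (hd : d = Nat.gcd 3 (q + 1)) (hs : s + q = q * q + 1) (hsb : d * sb = s)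
    (heq : 3 * ((1 + k * sb) * (1 + k' * sb)) = q ^ 3 * ((q + 1) ^ 2 * (q - 1))) (hkk : k ≤ k') :
    k = 0 ∨ (q = 4 ∧ k = 3 ∧ k' = 3) ∨ (q = 8 ∧ k = 5 ∧ k' = 53) := by
  rcases Nat.eq_zero_or_pos k with hk | hk
  · exact Or.inl hk
  right
  obtain ⟨m, rfl⟩ : ∃ m, q = m + 1 := ⟨q - 1, by omega⟩
  obtain ⟨X, hX⟩ : ∃ X, X = (m + 1 + 1) ^ 2 * m := ⟨_, rfl⟩
  obtain ⟨D, hD⟩ : ∃ D, D = 1 + k * sb := ⟨_, rfl⟩
  rw [show m + 1 - 1 = m from rfl, ← hX, ← hD] at heq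
  have hs' : s = m * m + m + 1 := by linarith
  have hd3 : d ≤ 3 := hd ▸ Nat.le_of_dvd (by norm_num) (Nat.gcd_dvd_left _ _)
  have hd0 : 1 ≤ d := hd ▸ Nat.gcd_pos_of_pos_left _ (by norm_num)
  have hdD : d * D = d + k * s := by rw [hD, ← hsb]; ring
  have hD2 : 3 * D ^ 2 ≤ (m + 1) ^ 3 * X := by
    rw [← heq, pow_two]
    refine Nat.mul_le_mul_left _ (Nat.mul_le_mul_left _ ?_)
    rw [hD]; gcongr
  have hks : 3 * (k * s) ^ 2 ≤ d ^ 2 * ((m + 1) ^ 3 * X) := by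
    refine le_trans ?_ (Nat.mul_le_mul_left _ hD2)
    rw [show d ^ 2 * (3 * D ^ 2) = 3 * (d * D) ^ 2 by ring, hdD]
    gcongr
    exact Nat.le_add_left _ _
  -- first bound on `k`
  have hk2 : k ^ 2 * (3 * m ^ 2) ≤ d ^ 2 * ((m + 1) ^ 2 * (m + 1 + 1) ^ 2) := by
    have h1 : (m + 1) * m ≤ s := by rw [hs']; nlinarith
    have h2 : 3 * (k * ((m + 1) * m)) ^ 2 ≤ 3 * (k * s) ^ 2 := by gcongr
    have h3 : X ≤ (m + 1 + 1) ^ 2 * (m + 1) := by rw [hX]; gcongr; omega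
    have h4' : k ^ 2 * (3 * m ^ 2) * (m + 1) ^ 2 ≤ d ^ 2 * ((m + 1) ^ 2 * (m + 1 + 1) ^ 2) * (m + 1) ^ 2 := by
      calc k ^ 2 * (3 * m ^ 2) * (m + 1) ^ 2 = 3 * (k * ((m + 1) * m)) ^ 2 := by ring
        _ ≤ d ^ 2 * ((m + 1) ^ 3 * X) := h2.trans hks
        _ ≤ d ^ 2 * ((m + 1) ^ 3 * ((m + 1 + 1) ^ 2 * (m + 1))) := by gcongr
        _ = d ^ 2 * ((m + 1) ^ 2 * (m + 1 + 1) ^ 2) * (m + 1) ^ 2 := by ring
    exact Nat.le_of_mul_le_mul_right h4' (by positivity)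
  rcases Nat.lt_or_ge (m + 1) 110 with hsmall | hbig
  · have hk4 : k < 4 * (m + 1) := by
      by_contra hge
      push Not at hge
      have h1 : (4 * (m + 1)) ^ 2 * (3 * m ^ 2) ≤ d ^ 2 * ((m + 1) ^ 2 * (m + 1 + 1) ^ 2) :=
        le_trans (by gcongr) hk2
      have h2 : d ^ 2 ≤ 9 := (Nat.pow_le_pow_left hd3 2).trans (by norm_num)
      have h3 : 16 * (3 * m ^ 2) ≤ 9 * (m + 1 + 1) ^ 2 := by
        refine Nat.le_of_mul_le_mul_right ?_ (pow_pos (Nat.succ_pos m) 2)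
        calc 16 * (3 * m ^ 2) * (m + 1) ^ 2 = (4 * (m + 1)) ^ 2 * (3 * m ^ 2) := by ring
          _ ≤ d ^ 2 * ((m + 1) ^ 2 * (m + 1 + 1) ^ 2) := h1
          _ ≤ 9 * ((m + 1) ^ 2 * (m + 1 + 1) ^ 2) := by gcongr
          _ = 9 * (m + 1 + 1) ^ 2 * (m + 1) ^ 2 := by ring
      nlinarith
    have hpp : ∀ n, n = 6 ∨ n = 14 ∨ n = 35 → m + 1 ≠ n := by
      intro n hn e
      have hnd : ∀ l, l.Prime → l ∣ n → l = p := fun l hl hln =>
        (Nat.prime_dvd_prime_iff_eq hl hp).1 (hl.dvd_of_dvd_pow (n := a) (by rw [← hq, e]; exact hln))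
      rcases hn with rfl | rfl | rfl
      · have := (hnd 2 Nat.prime_two (by norm_num)).trans (hnd 3 Nat.prime_three (by norm_num)).symm
        omega
      · have := (hnd 2 Nat.prime_two (by norm_num)).trans (hnd 7 (by norm_num) (by norm_num)).symm
        omega
      · have := (hnd 5 (by norm_num) (by norm_num)).trans (hnd 7 (by norm_num) (by norm_num)).symm
        omega
    have hdvd : (m + 1) ^ 3 * (m + 1 + 1) ^ 2 * (m + 1 - 1) % (3 * D) = 0 := by
      refine Nat.mod_eq_zero_of_dvd ?_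
      rw [show m + 1 - 1 = m from rfl, mul_assoc, ← hX, ← heq, ← mul_assoc]
      exact Nat.dvd_mul_right _ _
    have hsb' : sb = ((m + 1) * (m + 1) - (m + 1) + 1) / Nat.gcd 3 (m + 1 + 1) := by
      rw [← hd, show (m + 1) * (m + 1) - (m + 1) + 1 = s by
        rw [hs', show (m + 1) * (m + 1) = m * m + m + (m + 1) by ring, Nat.add_sub_cancel], ← hsb,
        Nat.mul_div_cancel_left _ hd0]
    by_cases h48 : m + 1 = 4 ∨ m + 1 = 8
    swap
    · exfalso
      have h1 := singer_num_small (m + 1) hsmall (by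
        simp only [List.mem_cons, List.not_mem_nil, or_false, not_or]
        have := hpp 6 (by simp); have := hpp 14 (by simp); have := hpp 35 (by simp)
        omega) k hk4
      simp only [singerBad, Bool.and_eq_false_iff, decide_eq_false_iff_not] at h1
      rw [← hsb', ← hD] at h1
      rcases h1 with (h | h) | h
      · exact h hk
      · rw [show m + 1 - 1 = m from rfl, mul_assoc _ _ m, ← hX] at h; exact h hD2
      · exact h hdvd
    rcases h48 with h | h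
    · obtain rfl : m = 3 := by omega
      norm_num at hd hs
      obtain rfl : s = 13 := by omega
      subst hd
      obtain rfl : sb = 13 := by omega
      subst hX hD
      norm_num at hdvd hD2 heq
      interval_cases k <;> omega
    · obtain rfl : m = 7 := by omega
      norm_num at hd hs
      obtain rfl : s = 57 := by omega
      subst hd
      obtain rfl : sb = 19 := by omega
      subst hX hD
      norm_num at hdvd hD2 heq
      interval_cases k <;> omega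
  exfalso
  have hm : 109 ≤ m := by omega
  -- sharper bounds
  have hk1 : d = 1 → k + 1 < m + 1 := fun hd1 => by
    subst hd1
    by_contra hge
    push Not at hge
    have h1 : m ^ 2 * (3 * m ^ 2) ≤ 1 ^ 2 * ((m + 1) ^ 2 * (m + 1 + 1) ^ 2) :=
      le_trans (by gcongr; omega) hk2
    nlinarith
  have hk3 : k + 3 < 2 * (m + 1) := by
    by_contra hge
    push Not at hge
    have h1 : (2 * m - 1) ^ 2 * (3 * m ^ 2) ≤ d ^ 2 * ((m + 1) ^ 2 * (m + 1 + 1) ^ 2) :=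
      le_trans (by gcongr; omega) hk2
    have h2 : d ^ 2 ≤ 9 := (Nat.pow_le_pow_left hd3 2).trans (by norm_num)
    obtain ⟨t, rfl⟩ : ∃ t, m = t + 109 := ⟨m - 109, by omega⟩
    rw [show 2 * (t + 109) - 1 = 2 * t + 217 by omega] at h1
    have h3 : (17 * ((2 * t + 217) * (t + 109))) ^ 2 ≤ (30 * ((t + 109 + 1) * (t + 109 + 1 + 1))) ^ 2 := by
      calc (17 * ((2 * t + 217) * (t + 109))) ^ 2 = 289 * ((2 * t + 217) ^ 2 * (t + 109) ^ 2) := by ring
        _ ≤ 300 * ((2 * t + 217) ^ 2 * (t + 109) ^ 2) := Nat.mul_le_mul_right _ (by norm_num)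
        _ = 100 * ((2 * t + 217) ^ 2 * (3 * (t + 109) ^ 2)) := by ring
        _ ≤ 100 * (d ^ 2 * ((t + 109 + 1) ^ 2 * (t + 109 + 1 + 1) ^ 2)) := Nat.mul_le_mul_left _ h1
        _ ≤ 100 * (9 * ((t + 109 + 1) ^ 2 * (t + 109 + 1 + 1) ^ 2)) :=
          Nat.mul_le_mul_left _ (Nat.mul_le_mul_right _ h2)
        _ = (30 * ((t + 109 + 1) * (t + 109 + 1 + 1))) ^ 2 := by ring
    have h4' := (Nat.pow_le_pow_iff_left two_ne_zero).1 h3
    clear * - h4'
    ring_nf at h4'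
    omega
  obtain ⟨u, hu⟩ : ∃ u, u = Nat.gcd D ((m + 1) ^ 3) := ⟨_, rfl⟩
  obtain ⟨e, he⟩ : ∃ e, e = D / u := ⟨_, rfl⟩
  have hu0 : 0 < u := hu ▸ Nat.gcd_pos_of_pos_right _ (by positivity)
  have huD : u ∣ D := hu ▸ Nat.gcd_dvd_left _ _
  have huq : u ∣ (m + 1) ^ 3 := hu ▸ Nat.gcd_dvd_right _ _
  have hue : u * e = D := by rw [he, Nat.mul_div_cancel' huD]
  have heX : e ∣ X := by
    have hcop : Nat.Coprime e ((m + 1) ^ 3 / u) := by
      rw [he, hu]; exact Nat.coprime_div_gcd_div_gcd (hu ▸ hu0)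
    refine hcop.dvd_of_dvd_mul_left (Nat.dvd_of_mul_dvd_mul_left hu0 ?_)
    rw [hue, ← mul_assoc, Nat.mul_div_cancel' huq, ← heq]
    exact Dvd.dvd.mul_left (Dvd.intro _ rfl) 3
  have helin : e ∣ d * (m + 1 + 2) + 3 * k := by
    have h1 : e ∣ (m + 1 + 2) * (d * D) := Dvd.dvd.mul_left (Dvd.dvd.mul_left (Dvd.intro_left _ hue) d) _
    rw [hdD, show (m + 1 + 2) * (d + k * s) = k * X + (d * (m + 1 + 2) + 3 * k) by rw [hX, hs']; ring] at h1
    exact (Nat.dvd_add_right (heX.mul_left k)).1 h1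
  have hele : e ≤ d * (m + 1 + 2) + 3 * k :=
    Nat.le_of_dvd (Nat.lt_of_lt_of_le (show 0 < d * (m + 1 + 2) by positivity) (Nat.le_add_right _ _)) helin
  have hsmod : ∀ t, t ∣ m + 1 → t ∣ d + k * s → t ∣ d + k := fun t ht h => by
    rw [show d + k * s = (d + k) + k * ((m + 1) * m) by rw [hs']; ring] at h
    exact (Nat.dvd_add_left ((ht.mul_right m).mul_left k)).1 h
  obtain ⟨i, -, hi⟩ := (Nat.dvd_prime_pow hp).1 (show u ∣ p ^ (a * 3) by rwa [pow_mul, ← hq])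
  rcases Nat.lt_or_ge i a with hia | hia
  · have huq1 : u ∣ m + 1 := by rw [hq, hi]; exact pow_dvd_pow p hia.le
    have h1 : u ∣ d + k := hsmod u huq1 (hdD ▸ Dvd.dvd.mul_left huD d)
    have h2 : u ≤ d + k := Nat.le_of_dvd (by omega) h1
    have h3 : k * s ≤ d * ((d + k) * (d * (m + 1 + 2) + 3 * k)) :=
      calc k * s ≤ d * D := by rw [hdD]; exact Nat.le_add_left _ _
        _ ≤ _ := by rw [← hue]; gcongr
    have h4' : d * ((d + k) * (d * (m + 1 + 2) + 3 * k)) ≤ 3 * ((4 * k) * (3 * (m + 1 + 2) + 6 * (m + 1))) := by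
      exact Nat.mul_le_mul hd3 (Nat.mul_le_mul (by omega) (Nat.add_le_add (Nat.mul_le_mul_right _ hd3) (by omega)))
    have h5' : k * s ≤ k * (108 * (m + 1) + 72) := by linarith
    have h6 := Nat.le_of_mul_le_mul_left h5' hk
    rw [hs'] at h6
    nlinarith
  · have hqD : m + 1 ∣ D := (hq ▸ hi ▸ pow_dvd_pow p hia : m + 1 ∣ u).trans huD
    have h1 : m + 1 ∣ d + k := hsmod _ dvd_rfl (hdD ▸ Dvd.dvd.mul_left hqD d)
    obtain ⟨j, hj⟩ := h1
    obtain rfl : j = 1 := by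
      rcases j with _ | _ | j
      · omega
      · rfl
      · nlinarith
    rcases (show d = 1 ∨ d = 3 by
      rcases (Nat.dvd_prime Nat.prime_three).1 (hd ▸ Nat.gcd_dvd_left 3 (m + 1 + 1)) with h | h <;> omega) with rfl | rfl
    · have := hk1 rfl; omega
    obtain ⟨t, rfl⟩ : ∃ t, m = t + 1 := ⟨m - 1, by omega⟩
    obtain rfl : k + 1 = t := by omega
    have h3D : 3 * D = (k + 1 + 1 + 1) * (k + 1) ^ 2 := by rw [hdD, hs']; ring
    have hu4 : u ∣ 4 * (k + 1 + 1 + 1) := by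
      have ha : u ∣ (k + 1 + 1 + 1) * (k + 1) ^ 2 := h3D ▸ Dvd.dvd.mul_left huD 3
      have hb : u ∣ (k + 1 + 1 + 1) * (k + 1 + 1 + 1) ^ 2 := by rw [← pow_succ']; exact huq
      have hc := Nat.dvd_gcd ha hb
      rw [Nat.gcd_mul_left, Nat.pow_gcd_pow] at hc
      refine hc.trans ?_
      rw [mul_comm 4]
      refine Nat.mul_dvd_mul_left _ ?_
      rw [show (4 : ℕ) = 2 ^ 2 by norm_num]
      refine pow_dvd_pow_of_dvd ?_ 2
      have h1 : (k + 1).gcd (k + 1 + 1 + 1) ∣ (k + 1) + 2 := Nat.gcd_dvd_right _ _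
      exact (Nat.dvd_add_right (Nat.gcd_dvd_left _ _)).1 h1
    have h2 : u ≤ 4 * (k + 1 + 1 + 1) := Nat.le_of_dvd (by positivity) hu4
    have h3 : (k + 1 + 1 + 1) * (k + 1) ^ 2 ≤
        3 * (4 * (k + 1 + 1 + 1) * (3 * (k + 1 + 1 + 1 + 2) + 3 * k)) := by
      rw [← h3D, ← hue]; gcongr
    have h4' : (k + 1) ^ 2 ≤ 12 * (3 * (k + 1 + 1 + 1 + 2) + 3 * k) :=
      Nat.le_of_mul_le_mul_left (le_trans h3 (le_of_eq (by ring))) (show 0 < k + 1 + 1 + 1 by omega)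
    nlinarith

/-- the factorisations of the index with both factors congruent to one -/
theorem singer_num {p a q d s sb D D' : ℕ} (hp : p.Prime) (hq : q = p ^ a) (h4 : 4 ≤ q) (h5 : q ≠ 5)
    (hd : d = Nat.gcd 3 (q + 1)) (hs : s + q = q * q + 1) (hsb : d * sb = s)
    (heq : 3 * (D * D') = q ^ 3 * ((q + 1) ^ 2 * (q - 1))) {k k' : ℕ} (hk : D = 1 + k * sb)
    (hk' : D' = 1 + k' * sb) :
    D = 1 ∨ D' = 1 ∨ (q = 4 ∧ D = 40) ∨ (q = 8 ∧ (D = 96 ∨ D = 1008)) := by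
  subst hk hk'
  have hsb4 : q = 4 → sb = 13 := fun e => by subst e; norm_num at hd; subst hd; omega
  have hsb8 : q = 8 → sb = 19 := fun e => by subst e; norm_num at hd; subst hd; omega
  rcases Nat.le_total k k' with h | h
  · rcases singer_num_le hp hq h4 h5 hd hs hsb heq h with e | ⟨e, ek, -⟩ | ⟨e, ek, -⟩
    · exact Or.inl (by rw [e, zero_mul, add_zero])
    · exact Or.inr (Or.inr (Or.inl ⟨e, by rw [ek, hsb4 e]⟩))
    · exact Or.inr (Or.inr (Or.inr ⟨e, Or.inl (by rw [ek, hsb8 e])⟩))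
  · rw [mul_comm (1 + k * sb)] at heq
    rcases singer_num_le hp hq h4 h5 hd hs hsb heq h with e | ⟨e, -, ek⟩ | ⟨e, -, ek⟩
    · exact Or.inr (Or.inl (by rw [e, zero_mul, add_zero]))
    · exact Or.inr (Or.inr (Or.inl ⟨e, by rw [ek, hsb4 e]⟩))
    · exact Or.inr (Or.inr (Or.inr ⟨e, Or.inr (by rw [ek, hsb8 e])⟩))

end CfsgLib.MaxSub.SuThree
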