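import Cfsg.Agent.Lib.MaxSub.SuThree.Singer
import Cfsg.Agent.Lib.MaxSub.SuThree.SingerNum
import Cfsg.Agent.Lib.AschU.SUGroup
import Cfsg.Agent.Lib.Classical.SUOrder

/-!
Counting cosets of the normaliser of the Singer group of the three-dimensional special unitary group: the
index of the normaliser in an overgroup is congruent to one modulo the order of the projective Singer group,
which leaves only two sporadic possibilities for a proper overgroup.
-/

set_option autoImplicit false
set_option linter.unusedSectionVars false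
set_option linter.style.haveILetI false

namespace CfsgLib.MaxSub.SuThree

open Matrix CfsgLib.MaxSub CfsgLib.AschU
open scoped MatrixGroups

/-- one fixed point and equal orbits elsewhere -/
theorem card_eq_one_add_of_orbits {H X : Type*} [Group H] [MulAction H X] [Finite X] (x0 : X)
    (h0 : ∀ h : H, h • x0 = x0) {m : ℕ} (h : ∀ x, x ≠ x0 → Nat.card (MulAction.orbit H x) = m) :
    ∃ k, Nat.card X = 1 + k * m := by
  classical
  letI : Fintype (Quotient (MulAction.orbitRel H X)) := Fintype.ofFinite _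
  rw [Nat.card_congr (MulAction.selfEquivSigmaOrbits' H X), Nat.card_sigma,
    ← Finset.add_sum_erase _ _ (Finset.mem_univ (Quotient.mk (MulAction.orbitRel H X) x0))]
  refine ⟨(Finset.univ.erase (Quotient.mk (MulAction.orbitRel H X) x0)).card, ?_⟩
  congr 1
  · rw [MulAction.orbitRel.Quotient.orbit_mk, Nat.card_eq_one_iff_unique]
    refine ⟨⟨fun a b => Subtype.ext ?_⟩, ⟨⟨x0, MulAction.mem_orbit_self x0⟩⟩⟩
    obtain ⟨u, hu⟩ := a.2
    obtain ⟨v, hv⟩ := b.2
    simp only [h0] at hu hv
    rw [← hu, ← hv]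
  · refine Finset.sum_const_nat fun ω hω => ?_
    induction ω using Quotient.inductionOn with
    | h x =>
      rw [MulAction.orbitRel.Quotient.orbit_mk]
      exact h x fun e => (Finset.mem_erase.1 hω).1 (by rw [e])

variable {F : Type*} [Field F] [Fintype F] {q : ℕ}

/-- the order of the special unitary group of degree three -/
theorem card_suGL_three (hF : Fintype.card F = q ^ 2) {s : ℕ} (hs : s + q = q * q + 1) :
    Nat.card (suGL 3 q F) = s * (q ^ 3 * ((q + 1) ^ 2 * (q - 1))) := by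
  have hq2 : 2 ≤ q := CfsgLib.Classical.two_le_of_card_sq hF
  have h1 := CfsgLib.Classical.card_su_mul hF (n := 3) (by norm_num)
  rw [CfsgLib.Classical.card_gu hF 3] at h1
  have h2 : Nat.card (suGL 3 q F) = Nat.card (Cfsg.SU 3 F q) := by
    rw [← range_suToGL]
    exact Nat.card_congr (MonoidHom.ofInjective (suToGL_injective 3 q)).toEquiv.symm
  rw [h2]
  refine Nat.eq_of_mul_eq_mul_left (show 0 < q + 1 by omega) ?_
  rw [h1]
  have h3 : q ^ 3 + 1 = s * (q + 1) := by nlinarith [congrArg (· * (q + 1)) hs]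
  have h4 : q ^ 2 - 1 = (q + 1) * (q - 1) := by rw [← Nat.sq_sub_sq, one_pow]
  simp [Finset.prod_range_succ, show ¬ Even 1 from Nat.not_even_one, show Even 2 from even_two, h3, h4]
  ring

variable {K : Subalgebra F (Matrix (Fin 3) (Fin 3) F)} (hK : Cfsg.Geo.IsFieldSubalgebra 3 K)
  (hF : Fintype.card F = q ^ 2) (hA : Cfsg.Geo.IsAdjointClosedFor (Cfsg.hermForm 3 F q) K)

/-- the scalars in the Singer group -/
abbrev singerScalars (q : ℕ) (K : Subalgebra F (Matrix (Fin 3) (Fin 3) F)) : Subgroup (GL (Fin 3) F) :=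
  singerGroup q K ⊓ Cfsg.Geo.scalars (Fin 3) F

include hF in
/-- there are `gcd (3, q + 1)` scalars in the Singer group -/
theorem card_singerScalars : Nat.card (singerScalars q K) = Nat.gcd 3 (q + 1) := by
  classical
  let sc : Fˣ →* GL (Fin 3) F :=
    Units.map ((algebraMap F (Matrix (Fin 3) (Fin 3) F)) : F →* Matrix (Fin 3) (Fin 3) F)
  have hsc : ∀ c : Fˣ, (sc c : Matrix (Fin 3) (Fin 3) F) = (c : F) • 1 := fun c => by
    show algebraMap F (Matrix (Fin 3) (Fin 3) F) (c : F) = _
    exact Algebra.algebraMap_eq_smul_one _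
  have hinj : Function.Injective sc := fun a b h => by
    have := congrArg (fun m : Matrix (Fin 3) (Fin 3) F => m 0 0) (congrArg Units.val h)
    rw [hsc, hsc] at this
    simp at this
    exact Units.ext this
  have hmem : ∀ c : Fˣ, sc c ∈ singerGroup q K ↔ c ^ Nat.gcd 3 (q + 1) = 1 := fun c => by
    rw [pow_gcd_eq_one]
    have hU : sc c ∈ Cfsg.GU 3 F q ↔ c ^ (q + 1) = 1 := by
      constructor
      · intro h
        have h1 := h (Pi.single 0 1) (Pi.single 0 1)
        replace h1 : Cfsg.hermForm 3 F q ((sc c : Matrix (Fin 3) (Fin 3) F) *ᵥ Pi.single 0 1)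
          ((sc c : Matrix (Fin 3) (Fin 3) F) *ᵥ Pi.single 0 1) =
          Cfsg.hermForm 3 F q (Pi.single 0 1) (Pi.single 0 1) := h1
        rw [hsc, smul_mulVec, one_mulVec] at h1
        have hq0 : q ≠ 0 := by have := CfsgLib.Classical.two_le_of_card_sq hF; omega
        simp [Cfsg.hermForm, Fin.sum_univ_three, zero_pow hq0] at h1
        ext
        rw [Units.val_pow_eq_pow_val, Units.val_one, pow_succ']
        exact h1
      · intro h u v
        show Cfsg.hermForm 3 F q ((sc c : Matrix (Fin 3) (Fin 3) F) *ᵥ u)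
          ((sc c : Matrix (Fin 3) (Fin 3) F) *ᵥ v) = _
        have hc : (c : F) * (c : F) ^ q = 1 := by
          rw [← pow_succ', ← Units.val_pow_eq_pow_val, h, Units.val_one]
        rw [hsc, smul_mulVec, smul_mulVec, one_mulVec, one_mulVec]
        simp only [Cfsg.hermForm, Pi.smul_apply, smul_eq_mul, mul_pow]
        refine Finset.sum_congr rfl fun i _ => ?_
        linear_combination (u i * v i ^ q) * hc
    have hS : sc c ∈ Cfsg.Geo.specialLinear (Fin 3) F ↔ c ^ 3 = 1 := by
      rw [DecompMax.mem_sl_iff, hsc, Matrix.det_smul, Matrix.det_one, mul_one, Fintype.card_fin, Units.ext_iff,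
        Units.val_pow_eq_pow_val, Units.val_one]
    constructor
    · exact fun h => ⟨hS.1 h.1.2, hU.1 h.1.1⟩
    · refine fun h => ⟨⟨hU.2 h.2, hS.2 h.1⟩, ?_⟩
      rw [hsc, ← Algebra.algebraMap_eq_smul_one]
      exact K.algebraMap_mem _
  have himg : singerScalars q K = (powMonoidHom (Nat.gcd 3 (q + 1)) : Fˣ →* Fˣ).ker.map sc := by
    ext g
    constructor
    · rintro ⟨hg, c, rfl⟩
      exact ⟨c, MonoidHom.mem_ker.2 ((hmem c).1 hg), rfl⟩
    · rintro ⟨c, hc, rfl⟩
      exact ⟨(hmem c).2 (MonoidHom.mem_ker.1 hc), (Cfsg.Geo.mem_scalars_iff _).2 ⟨c, hsc c⟩⟩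
  rw [himg, Nat.card_congr ((Subgroup.equivMapOfInjective _ sc hinj).symm.toEquiv),
    IsCyclic.card_powMonoidHom_ker, Nat.card_units, Nat.card_eq_fintype_card, hF]
  refine Nat.gcd_eq_right ((Nat.gcd_dvd_right 3 (q + 1)).trans ?_)
  exact ⟨q - 1, by rw [← Nat.sq_sub_sq, one_pow]⟩

include hK hF hA

/-- the index of the normaliser in an overgroup is one modulo the order of the projective Singer group -/
theorem singer_index {s sb : ℕ} (hs : s + q = q * q + 1) (hsb : Nat.gcd 3 (q + 1) * sb = s)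
    {M : Subgroup (GL (Fin 3) F)} (hNM : singerNorm q K ≤ M) (hMG : M ≤ suGL 3 q F) :
    ∃ k, (singerNorm q K).relIndex M = 1 + k * sb := by
  classical
  obtain ⟨hScard, -, hS3⟩ := singer_card hK hF hA hs
  have hSM : singerGroup q K ≤ M := (singerGroup_le K).trans hNM
  letI : MulAction (singerGroup q K) (M ⧸ (singerNorm q K).subgroupOf M) :=
    MulAction.compHom _ (Subgroup.inclusion hSM)
  have hsmul : ∀ (x : singerGroup q K) (g : M), x • (QuotientGroup.mk g : M ⧸ (singerNorm q K).subgroupOf M) =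
      QuotientGroup.mk (Subgroup.inclusion hSM x * g) := fun x g => rfl
  refine card_eq_one_add_of_orbits (H := singerGroup q K) (QuotientGroup.mk (1 : M)) (fun x => ?_) (fun x hx => ?_)
  · rw [hsmul, mul_one, QuotientGroup.eq, mul_one, Subgroup.mem_subgroupOf]
    exact inv_mem (singerGroup_le K x.2)
  · obtain ⟨g, rfl⟩ := QuotientGroup.mk_surjective x
    have hgN : (g : GL (Fin 3) F) ∉ singerNorm q K := fun h => hx (by
      rw [QuotientGroup.eq, Subgroup.mem_subgroupOf, mul_one]
      exact inv_mem h)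
    have hst : MulAction.stabilizer (singerGroup q K)
        (QuotientGroup.mk g : M ⧸ (singerNorm q K).subgroupOf M) =
        (singerScalars q K).subgroupOf (singerGroup q K) := by
      ext x
      rw [MulAction.mem_stabilizer_iff, hsmul, QuotientGroup.eq, Subgroup.mem_subgroupOf, Subgroup.mem_subgroupOf]
      constructor
      · intro h
        refine ⟨x.2, ?_⟩
        by_contra hns
        have hns' : ∀ c : F, ((x : GL (Fin 3) F) : Matrix (Fin 3) (Fin 3) F) ≠ c • 1 := fun c hc => hns (by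
          show (x : GL (Fin 3) F) ∈ Cfsg.Geo.scalars (Fin 3) F
          rw [Cfsg.Geo.mem_scalars_iff]
          have hc0 : c ≠ 0 := fun e => by
            rw [e, zero_smul] at hc
            exact Units.ne_zero (x : GL (Fin 3) F) hc
          exact ⟨Units.mk0 c hc0, hc⟩)
        refine hgN (singer_semiregular hK x.2 hns' (hS3 x x.2 hns') (hMG g.2) ?_)
        have h' := inv_mem h
        simpa [mul_assoc] using h'
      · intro h
        obtain ⟨c, hc⟩ := (Cfsg.Geo.mem_scalars_iff _).1 h.2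
        have hcomm : (g : GL (Fin 3) F)⁻¹ * x = x * (g : GL (Fin 3) F)⁻¹ := Units.ext (by
          rw [Units.val_mul, Units.val_mul, hc, Matrix.mul_smul, mul_one, Matrix.smul_mul, one_mul])
        show ((Subgroup.inclusion hSM x * g)⁻¹ * g : M).1 ∈ singerNorm q K
        have : ((Subgroup.inclusion hSM x * g)⁻¹ * g : M).1 = ((g : GL (Fin 3) F)⁻¹ * x * g)⁻¹ := by
          simp [mul_assoc]
        rw [this, hcomm, mul_assoc, inv_mul_cancel, mul_one]
        exact inv_mem (singerGroup_le K x.2)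
    have hcs := (MulAction.stabilizer (singerGroup q K)
      (QuotientGroup.mk g : M ⧸ (singerNorm q K).subgroupOf M)).card_mul_index
    rw [MulAction.index_stabilizer, hst, Nat.card_congr (Subgroup.subgroupOfEquivOfLe inf_le_left).toEquiv,
      card_singerScalars hF, hScard, ← hsb] at hcs
    rw [← Nat.card_coe_set_eq] at hcs
    exact Nat.eq_of_mul_eq_mul_left (Nat.gcd_pos_of_pos_left _ (by norm_num)) hcs

/-- an overgroup of the normaliser: it or the whole group, apart from three possibilities for `q = 4, 8` -/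
theorem singer_overgroup (h4 : 4 ≤ q) (h5 : q ≠ 5) {s : ℕ} (hs : s + q = q * q + 1)
    {M : Subgroup (GL (Fin 3) F)} (hNM : singerNorm q K ≤ M) (hMG : M ≤ suGL 3 q F) :
    singerNorm q K < suGL 3 q F ∧ (M = singerNorm q K ∨ M = suGL 3 q F ∨
      (∃ D, Nat.card M = 3 * s * D ∧ ((q = 4 ∧ D = 40) ∨ (q = 8 ∧ (D = 96 ∨ D = 1008))))) := by
  classical
  obtain ⟨n, hn⟩ : ∃ n : ℕ+, Fintype.card F = ringChar F ^ (n : ℕ) := by
    haveI : CharP F (ringChar F) := ringChar.charP F
    obtain ⟨n, -, hn⟩ := FiniteField.card F (ringChar F)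
    exact ⟨n, hn⟩
  have hp : (ringChar F).Prime := CharP.char_is_prime F _
  obtain ⟨a, -, ha⟩ := (Nat.dvd_prime_pow hp).1 (show q ∣ ringChar F ^ (n : ℕ) by
    rw [← hn, hF]; exact dvd_pow_self q two_ne_zero)
  obtain ⟨d, hd⟩ : ∃ d, d = Nat.gcd 3 (q + 1) := ⟨_, rfl⟩
  obtain ⟨sb, hsb⟩ : d ∣ s := hd ▸ gcd_singer_sub hs ▸ Nat.gcd_dvd_left _ _
  have hd3 : d ≤ 3 := hd ▸ Nat.le_of_dvd (by norm_num) (Nat.gcd_dvd_left _ _)
  have hs13 : 13 ≤ s := by nlinarith
  have hsb3 : 3 ≤ sb := by
    by_contra h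
    nlinarith
  obtain ⟨hScard, -, -⟩ := singer_card hK hF hA hs
  obtain ⟨j, hj, hNcard⟩ := singer_norm_card (q := q) hK
  rw [hScard] at hNcard
  obtain ⟨X, hX⟩ : ∃ X, X = q ^ 3 * ((q + 1) ^ 2 * (q - 1)) := ⟨_, rfl⟩
  have hNG : singerNorm q K ≤ suGL 3 q F := inf_le_right
  have e1 : (singerNorm q K).relIndex M * M.relIndex (suGL 3 q F) =
      (singerNorm q K).relIndex (suGL 3 q F) := Subgroup.relIndex_mul_relIndex _ _ _ hNM hMG
  obtain ⟨k, hk⟩ := singer_index hK hF hA hs (hd ▸ hsb.symm) hNM hMG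
  obtain ⟨kG, hkG⟩ := singer_index hK hF hA hs (hd ▸ hsb.symm) hNG le_rfl
  have cG : Nat.card (singerNorm q K) * (singerNorm q K).relIndex (suGL 3 q F) =
      Nat.card (suGL 3 q F) := by
    rw [← Nat.card_congr (Subgroup.subgroupOfEquivOfLe hNG).toEquiv]
    exact Subgroup.card_mul_index _
  have cM : Nat.card (singerNorm q K) * (singerNorm q K).relIndex M = Nat.card M := by
    rw [← Nat.card_congr (Subgroup.subgroupOfEquivOfLe hNM).toEquiv]
    exact Subgroup.card_mul_index _
  rw [hNcard, card_suGL_three hF hs, ← hX, mul_assoc] at cG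
  have hjX : j * (singerNorm q K).relIndex (suGL 3 q F) = X := Nat.eq_of_mul_eq_mul_left (by omega) cG
  have hj3 : j = 3 := by
    rcases hj with rfl | rfl
    · exfalso
      rw [one_mul, hkG] at hjX
      have hXZ : (X : ℤ) - 3 = (s : ℤ) * ((q : ℤ) ^ 3 * (q + 2) - 3 * (q + 1)) := by
        have hsZ : (s : ℤ) = (q : ℤ) * q - q + 1 := by
          have : ((s + q : ℕ) : ℤ) = ((q * q + 1 : ℕ) : ℤ) := by rw [hs]
          push_cast at this
          linarith
        rw [hX]; push_cast [Nat.cast_sub (show 1 ≤ q by omega)]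
        rw [hsZ]; ring
      have h2 : (sb : ℤ) ∣ 2 := by
        refine ⟨(kG : ℤ) - (d : ℤ) * ((q : ℤ) ^ 3 * (q + 2) - 3 * (q + 1)), ?_⟩
        have hX1 : (X : ℤ) = 1 + kG * sb := by rw [← hjX]; push_cast; rfl
        have hsd : (s : ℤ) = d * sb := by rw [hsb]; push_cast; rfl
        rw [hX1, hsd] at hXZ
        linear_combination -hXZ
      have := Int.le_of_dvd (by norm_num) h2
      omega
    · rfl
  obtain ⟨D, hD⟩ : ∃ D, D = (singerNorm q K).relIndex M := ⟨_, rfl⟩
  obtain ⟨D', hD'⟩ : ∃ D', D' = M.relIndex (suGL 3 q F) := ⟨_, rfl⟩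
  rw [← hD, ← hD'] at e1
  rw [← hD] at hk cM
  rw [← e1] at hjX
  rw [hj3] at hjX hNcard
  have hlt : singerNorm q K < suGL 3 q F := by
    refine lt_of_le_of_ne hNG fun e => ?_
    have h1 : (singerNorm q K).relIndex (suGL 3 q F) = 1 := by rw [← e]; exact Subgroup.relIndex_self _
    rw [h1] at e1
    rw [e1, hX] at hjX
    have h2 : 4 ≤ q ^ 3 * ((q + 1) ^ 2 * (q - 1)) := by
      calc 4 ≤ q := h4
        _ ≤ q ^ 3 := Nat.le_self_pow (by norm_num) q
        _ ≤ _ := Nat.le_mul_of_pos_right _ (Nat.mul_pos (by positivity) (by omega))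
    omega
  refine ⟨hlt, ?_⟩
  obtain ⟨k', hk'⟩ : ∃ k', D' = 1 + k' * sb := by
    have h1 : D' ≡ 1 [MOD sb] := by
      have hm : D * D' ≡ 1 [MOD sb] := by
        rw [e1, hkG]
        exact Nat.ModEq.add_right_cancel' 0 (by simp [Nat.ModEq])
      have hm2 : D ≡ 1 [MOD sb] := by rw [hk]; simp [Nat.ModEq]
      have := ((hm2.mul_right D').symm).trans hm
      rwa [one_mul] at this
    have hpos : 1 ≤ D' := by
      rcases Nat.eq_zero_or_pos D' with e | e
      · rw [e, mul_zero, mul_zero, hX] at hjX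
        have : 0 < q ^ 3 * ((q + 1) ^ 2 * (q - 1)) :=
          Nat.mul_pos (by positivity) (Nat.mul_pos (by positivity) (by omega))
        omega
      · exact e
    obtain ⟨c, hc⟩ := (Nat.modEq_iff_dvd' hpos).1 h1.symm
    exact ⟨c, by rw [mul_comm, ← hc]; omega⟩
  rcases singer_num hp ha h4 h5 hd hs hsb.symm (hX ▸ hjX) hk hk' with h | h | h
  · refine Or.inl (le_antisymm ?_ hNM)
    exact Subgroup.relIndex_eq_one.1 (hD ▸ h)
  · exact Or.inr (Or.inl (le_antisymm hMG (Subgroup.relIndex_eq_one.1 (hD' ▸ h))))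
  · refine Or.inr (Or.inr ⟨D, ?_, h⟩)
    rw [← cM, hNcard]; ring

end CfsgLib.MaxSub.SuThree
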