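import Cfsg.Agent.Lib.MaxSub.SuThree.SingerSmall

/-!
The normaliser of a Singer field is maximal in the three-dimensional special unitary group.
-/

set_option autoImplicit false
set_option linter.unusedSectionVars false
set_option linter.style.haveILetI false

namespace CfsgLib.MaxSub.SuThree

open Matrix CfsgLib.MaxSub CfsgLib.AschU
open scoped MatrixGroups

/-- equal orbits divide the size of the set -/
theorem dvd_card_of_orbits {H X : Type*} [Group H] [MulAction H X] [Finite X] {m : ℕ}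
    (h : ∀ x : X, Nat.card (MulAction.orbit H x) = m) : m ∣ Nat.card X := by
  classical
  letI : Fintype (Quotient (MulAction.orbitRel H X)) := Fintype.ofFinite _
  rw [Nat.card_congr (MulAction.selfEquivSigmaOrbits' H X), Nat.card_sigma]
  refine Finset.dvd_sum fun ω _ => ?_
  induction ω using Quotient.inductionOn with
  | h x => rw [MulAction.orbitRel.Quotient.orbit_mk, h x]

variable {F : Type*} [Field F] [Fintype F] {q : ℕ}

/-- the stabiliser of a point in a subgroup -/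
abbrev ptStab (M : Subgroup (GL (Fin 3) F)) (z : Fin 3 → F) : Subgroup M :=
  (Cfsg.Geo.subspaceStabilizer (Submodule.span F {z})).subgroupOf M

theorem mem_ptStab {M : Subgroup (GL (Fin 3) F)} {z : Fin 3 → F} {g : M} :
    g ∈ ptStab M z ↔ ∃ l : F, ((g : GL (Fin 3) F) : Matrix (Fin 3) (Fin 3) F) *ᵥ z = l • z := by
  rw [Subgroup.mem_subgroupOf]
  constructor
  · intro h
    obtain ⟨l, hl⟩ := Submodule.mem_span_singleton.1
      (maps_of_mem_subspaceStabilizer h (Submodule.mem_span_singleton_self z))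
    exact ⟨l, hl.symm⟩
  · rintro ⟨l, hl⟩
    refine mem_subspaceStabilizer_of_maps fun x hx => ?_
    obtain ⟨c, rfl⟩ := Submodule.mem_span_singleton.1 hx
    rw [mulVec_smul, hl, smul_smul]
    exact Submodule.smul_mem _ _ (Submodule.mem_span_singleton_self z)

variable {K : Subalgebra F (Matrix (Fin 3) (Fin 3) F)} (hK : Cfsg.Geo.IsFieldSubalgebra 3 K)
include hK

/-- non-scalar elements of the field have no eigenvector -/
theorem singer_no_eigen {x : Matrix (Fin 3) (Fin 3) F} (hx : x ∈ K) (hxs : ∀ c : F, x ≠ c • 1)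
    {v : Fin 3 → F} (hv : v ≠ 0) (l : F) : x *ᵥ v ≠ l • v := fun h => by
  have hd : x - l • 1 ∈ K := K.sub_mem hx (K.smul_mem K.one_mem l)
  obtain ⟨y, -, hy⟩ := hK.inv _ hd (sub_ne_zero.2 (hxs l))
  refine hv ?_
  have h1 : (x - l • 1) *ᵥ v = 0 := by rw [sub_mulVec, smul_mulVec, one_mulVec, h, sub_self]
  have h2 := congrArg (y *ᵥ ·) h1
  simpa [mulVec_mulVec, mul_eq_one_comm.1 hy] using h2

variable (hF : Fintype.card F = q ^ 2) (hA : Cfsg.Geo.IsAdjointClosedFor (Cfsg.hermForm 3 F q) K)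
include hF hA

/-- an overgroup of sporadic order in characteristic two is the whole group -/
theorem singer_small [CharP F 2] (hq : 3 ≤ q) {s sb e ℓ T : ℕ} (hs : s + q = q * q + 1)
    (hsb : Nat.gcd 3 (q + 1) * sb = s) (hl : ℓ.Prime) (hlq : ℓ + 1 = q) (hd2 : Odd (Nat.gcd 3 (q + 1)))
    {M : Subgroup (GL (Fin 3) F)} (hNM : singerNorm q K ≤ M) (hMG : M ≤ suGL 3 q F)
    (hT : Nat.card M = T) (he : 2 ^ (e + 1) ∣ T)
    (hnum : ∀ O, sb ∣ O → O % 2 ^ (e + 1) = 1 → O * (Nat.gcd 3 (q + 1) * 2 ^ (e + 1)) ∣ T →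
      O = q ^ 3 + 1 ∧ ℓ * O ∣ T) : M = suGL 3 q F := by
  classical
  have hf := isUnitaryForm_hermForm hF 3
  have hiso := fun (g : GL (Fin 3) F) (hg : g ∈ M) => isometry_of_mem hF hMG hg
  have hq2 : 2 ∣ q := by
    have h := FiniteField.cast_card_eq_zero F
    rw [hF, CharP.cast_eq_zero_iff F 2] at h
    exact Nat.prime_two.dvd_of_dvd_pow h
  -- isotropic vectors
  let X := {v : Fin 3 → F // v ≠ 0 ∧ Cfsg.hermForm 3 F q v v = 0}
  have hX : Nat.card X = (q ^ 2 - 1) * (q ^ 3 + 1) := by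
    have h := CfsgLib.Classical.card_herm_zero hF 3
    rw [if_neg (by decide)] at h
    have h1 : Nat.card X = ({v : Fin 3 → F | Cfsg.hermForm 3 F q v v = 0} \ {0}).ncard := by
      rw [← Nat.card_coe_set_eq]
      exact Nat.card_congr (Equiv.subtypeEquivRight fun v => by simp [and_comm])
    rw [h1, Set.ncard_sdiff_singleton_of_mem (by exact herm_zero_left hf 0), ← Nat.card_coe_set_eq]
    show Nat.card {v : Fin 3 → F // Cfsg.hermForm 3 F q v v = 0} - 1 = _
    rw [h, Nat.add_sub_cancel, mul_comm]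
  -- the two-group
  obtain ⟨P, hP⟩ := Sylow.exists_subgroup_card_pow_prime 2 (G := M) (n := e + 1) (hT ▸ he)
  letI : MulAction P X :=
    { smul := fun p v => ⟨((p : M) : GL (Fin 3) F).1 *ᵥ v.1,
        fun h => v.2.1 (by
          have := congrArg ((((p : M) : GL (Fin 3) F)⁻¹ : GL (Fin 3) F).1 *ᵥ ·) h
          simpa [mulVec_mulVec] using this),
        ((hiso _ (p : M).2 _ _).trans v.2.2)⟩
      one_smul := fun v => Subtype.ext (one_mulVec _)
      mul_smul := fun a b v => Subtype.ext (by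
        show ((((a : M) : GL (Fin 3) F) * ((b : M) : GL (Fin 3) F) : GL (Fin 3) F)).1 *ᵥ v.1 = _
        rw [Units.val_mul, ← mulVec_mulVec]; rfl) }
  have : Fact (Nat.Prime 2) := ⟨Nat.prime_two⟩
  obtain ⟨⟨z, hz0, hz⟩, hzfix⟩ := (IsPGroup.of_card hP).nonempty_fixed_point_of_prime_not_dvd_card X (by
    rw [hX]
    intro h
    have h2 : 2 ∣ q ^ 2 := dvd_pow hq2 two_ne_zero
    have h3 : 2 ∣ q ^ 3 := dvd_pow hq2 (by norm_num)
    have h4 : 1 ≤ q ^ 2 := Nat.one_le_pow _ _ (by omega)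
    rcases (Nat.Prime.dvd_mul Nat.prime_two).1 h with h5 | h5 <;> omega)
  have hPz : ∀ p : P, ((p : M) : GL (Fin 3) F).1 *ᵥ z = z := fun p => congrArg Subtype.val (hzfix p)
  have hPH : P ≤ ptStab M z := fun p hp => mem_ptStab.2 ⟨1, by rw [one_smul]; exact hPz ⟨p, hp⟩⟩
  have hgz0 : ∀ g : M, (g : GL (Fin 3) F).1 *ᵥ z ≠ 0 := fun g h => hz0 (by
    have := congrArg (((g : GL (Fin 3) F)⁻¹ : GL (Fin 3) F).1 *ᵥ ·) h
    simpa [mulVec_mulVec] using this)
  have hrel : ∀ (x g : M), (x • (QuotientGroup.mk g : M ⧸ ptStab M z) = QuotientGroup.mk g) →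
      ∃ l : F, (x : GL (Fin 3) F).1 *ᵥ ((g : GL (Fin 3) F).1 *ᵥ z) = l • ((g : GL (Fin 3) F).1 *ᵥ z) := by
    intro x g h
    rw [MulAction.Quotient.smul_mk, eq_comm, QuotientGroup.eq] at h
    obtain ⟨l, hl⟩ := mem_ptStab.1 h
    refine ⟨l, ?_⟩
    have h1 := congrArg ((g : GL (Fin 3) F).1 *ᵥ ·) hl
    simp only [smul_eq_mul, Subgroup.coe_mul, InvMemClass.coe_inv, mulVec_mulVec, mulVec_smul,
      ← Units.val_mul, mul_inv_cancel_left] at h1 ⊢
    exact h1
  -- the orbit of `z`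
  obtain ⟨O, hO⟩ : ∃ O, O = Nat.card (M ⧸ ptStab M z) := ⟨_, rfl⟩
  have hOH : Nat.card (ptStab M z) * O = T := by rw [hO, ← hT]; exact Subgroup.card_mul_index _
  obtain ⟨hScard, -, -⟩ := singer_card hK hF hA hs
  have hSM : singerGroup q K ≤ M := (singerGroup_le K).trans hNM
  have hscal : ∀ x ∈ singerScalars q K, ∀ v, ∃ l : F, (x : GL (Fin 3) F).1 *ᵥ v = l • v := fun x hx v => by
    obtain ⟨c, hc⟩ := (Cfsg.Geo.mem_scalars_iff _).1 hx.2
    exact ⟨c, by rw [hc, smul_mulVec, one_mulVec]⟩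
  have h1 : sb ∣ O := by
    letI : MulAction (singerGroup q K) (M ⧸ ptStab M z) := MulAction.compHom _ (Subgroup.inclusion hSM)
    rw [hO]
    refine dvd_card_of_orbits (H := singerGroup q K) fun x => ?_
    obtain ⟨g, rfl⟩ := QuotientGroup.mk_surjective x
    have hst : MulAction.stabilizer (singerGroup q K) (QuotientGroup.mk g : M ⧸ ptStab M z) =
        (singerScalars q K).subgroupOf (singerGroup q K) := by
      ext x
      rw [MulAction.mem_stabilizer_iff, Subgroup.mem_subgroupOf]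
      constructor
      · intro h
        obtain ⟨l, hl⟩ := hrel (Subgroup.inclusion hSM x) g h
        refine ⟨x.2, ?_⟩
        by_contra hns
        refine singer_no_eigen hK x.2.2 (fun c hc => hns ?_) (hgz0 g) l hl
        show (x : GL (Fin 3) F) ∈ Cfsg.Geo.scalars (Fin 3) F
        rw [Cfsg.Geo.mem_scalars_iff]
        have hc0 : c ≠ 0 := fun e => by
          rw [e, zero_smul] at hc
          exact Units.ne_zero (x : GL (Fin 3) F) hc
        exact ⟨Units.mk0 c hc0, hc⟩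
      · intro h
        obtain ⟨c, hc⟩ := (Cfsg.Geo.mem_scalars_iff _).1 h.2
        show Subgroup.inclusion hSM x • (QuotientGroup.mk g : M ⧸ ptStab M z) = _
        rw [MulAction.Quotient.smul_mk, eq_comm, QuotientGroup.eq, mem_ptStab]
        refine ⟨c, ?_⟩
        simp only [smul_eq_mul, Subgroup.coe_mul, InvMemClass.coe_inv, Units.val_mul, Subgroup.coe_inclusion,
          hc, ← mulVec_mulVec, smul_mulVec, one_mulVec, mulVec_smul]
        rw [mulVec_mulVec, ← Units.val_mul, inv_mul_cancel, Units.val_one, one_mulVec]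
    have hcs := (MulAction.stabilizer (singerGroup q K)
      (QuotientGroup.mk g : M ⧸ ptStab M z)).card_mul_index
    rw [MulAction.index_stabilizer, hst, Nat.card_congr (Subgroup.subgroupOfEquivOfLe inf_le_left).toEquiv,
      card_singerScalars hF, hScard, ← hsb] at hcs
    rw [← Nat.card_coe_set_eq] at hcs
    exact Nat.eq_of_mul_eq_mul_left (Nat.gcd_pos_of_pos_left _ (by norm_num)) hcs
  have h2 : O % 2 ^ (e + 1) = 1 := by
    obtain ⟨k, hk⟩ := card_eq_one_add_of_orbits (H := P) (QuotientGroup.mk (1 : M) : M ⧸ ptStab M z)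
      (m := 2 ^ (e + 1)) (fun p => by
        show (p : M) • (QuotientGroup.mk (1 : M) : M ⧸ ptStab M z) = _
        rw [MulAction.Quotient.smul_mk, smul_eq_mul, mul_one, QuotientGroup.eq, mul_one]
        exact inv_mem (hPH p.2))
      (fun x hx => by
        obtain ⟨g, rfl⟩ := QuotientGroup.mk_surjective x
        have hst : MulAction.stabilizer P (QuotientGroup.mk g : M ⧸ ptStab M z) = ⊥ := by
          rw [eq_bot_iff]
          intro p hp
          rw [MulAction.mem_stabilizer_iff] at hp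
          obtain ⟨l, hl⟩ := hrel (p : M) g hp
          have hzr : Cfsg.hermForm 3 F q z ((g : GL (Fin 3) F).1 *ᵥ z) ≠ 0 := fun e0 => by
            obtain ⟨c, hc⟩ := Submodule.mem_span_singleton.1
              (mem_span_of_iso_orth hF hz0 hz ((hiso _ g.2 z z).trans hz) e0)
            exact hx (by rw [QuotientGroup.eq, mul_one]; exact inv_mem (mem_ptStab.2 ⟨c, hc.symm⟩))
          have hpe : p ^ 2 ^ (e + 1) = 1 := by rw [← hP]; exact pow_card_eq_one'
          have := eq_one_of_two_points hF (hiso _ (p : M).2)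
            (show (((p : M) : GL (Fin 3) F)) ^ 2 ^ (e + 1) = 1 by
              have := congrArg (fun p : P => ((p : M) : GL (Fin 3) F)) hpe
              simpa using this) hz ((hiso _ g.2 z z).trans hz) hzr
            (by rw [hPz p]; exact (one_smul F z).symm) hl
          exact Subgroup.mem_bot.2 (Subtype.ext (Subtype.ext this))
        have hcs := (MulAction.stabilizer P (QuotientGroup.mk g : M ⧸ ptStab M z)).card_mul_index
        rw [MulAction.index_stabilizer, hst, Subgroup.card_bot, one_mul, hP] at hcs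
        rwa [Nat.card_coe_set_eq])
    rw [hO, hk, Nat.add_mul_mod_self_right, Nat.one_mod_eq_one]
    exact (Nat.one_lt_pow (Nat.succ_ne_zero e) one_lt_two).ne'
  have h3 : O * (Nat.gcd 3 (q + 1) * 2 ^ (e + 1)) ∣ T := by
    rw [← hOH, mul_comm]
    refine mul_dvd_mul ?_ dvd_rfl
    refine Nat.Coprime.mul_dvd_of_dvd_of_dvd ((Nat.coprime_two_right.2 hd2).pow_right _) ?_
      (hP ▸ Subgroup.card_dvd_of_le hPH)
    have hle : (singerScalars q K).subgroupOf M ≤ ptStab M z := fun x hx =>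
      mem_ptStab.2 (hscal x hx z)
    have h := Subgroup.card_dvd_of_le hle
    rwa [Nat.card_congr (Subgroup.subgroupOfEquivOfLe (inf_le_left.trans hSM)).toEquiv,
      card_singerScalars hF] at h
  obtain ⟨hOq, hlO⟩ := hnum O h1 h2 h3
  -- transitivity
  have htrans : ∀ v, v ≠ 0 → Cfsg.hermForm 3 F q v v = 0 →
      ∃ g : M, ∃ a : F, a ≠ 0 ∧ v = a • ((g : GL (Fin 3) F).1 *ᵥ z) := by
    let φ : (M ⧸ ptStab M z) × Fˣ → X := fun x =>
      ⟨(x.2 : F) • ((x.1.out : GL (Fin 3) F).1 *ᵥ z), smul_ne_zero x.2.ne_zero (hgz0 _), by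
        rw [hf.smul_left, herm_smul_right hf, hiso _ x.1.out.2, hz, mul_zero, mul_zero]⟩
    have hinj : Function.Injective φ := by
      rintro ⟨x, a⟩ ⟨y, b⟩ h
      have h' : (a : F) • ((x.out : GL (Fin 3) F).1 *ᵥ z) = (b : F) • ((y.out : GL (Fin 3) F).1 *ᵥ z) :=
        congrArg Subtype.val h
      have hxy : x = y := by
        rw [← QuotientGroup.out_eq' x, ← QuotientGroup.out_eq' y, QuotientGroup.eq, mem_ptStab]
        refine ⟨(b : F)⁻¹ * a, ?_⟩
        have h1 := congrArg (((x.out : GL (Fin 3) F)⁻¹ : GL (Fin 3) F).1 *ᵥ ·) h'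
        simp only [mulVec_smul, mulVec_mulVec, ← Units.val_mul, inv_mul_cancel, Units.val_one, one_mulVec] at h1
        simp only [Subgroup.coe_mul, InvMemClass.coe_inv]
        rw [mul_smul, h1, inv_smul_smul₀ b.ne_zero]
      subst hxy
      exact Prod.ext rfl (Units.ext (smul_left_injective F (hgz0 _) h'))
    have hbij := (Nat.bijective_iff_injective_and_card φ).2 ⟨hinj, by
      rw [Nat.card_prod, ← hO, hOq, Nat.card_units, Nat.card_eq_fintype_card, hF, hX, mul_comm]⟩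
    intro v hv0 hv
    obtain ⟨⟨x, a⟩, h⟩ := hbij.2 ⟨v, hv0, hv⟩
    exact ⟨x.out, a, a.ne_zero, (congrArg Subtype.val h).symm⟩
  -- a transvection at `z`
  obtain ⟨t, htP⟩ := exists_prime_orderOf_dvd_card' 2 (G := P) (by
    rw [hP, pow_succ]; exact dvd_mul_left 2 _)
  obtain ⟨τ, hτe⟩ : ∃ τ, τ = ((t : M) : GL (Fin 3) F) := ⟨_, rfl⟩
  have hτo : orderOf τ = 2 := by
    rw [hτe, Subgroup.orderOf_coe, Subgroup.orderOf_coe]; exact htP
  obtain ⟨w, c, hw0, hc0, hw, hc⟩ := inC_of_involution hF (hiso τ (hτe ▸ (t : M).2))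
    (by rw [← hτo]; exact pow_orderOf_eq_one τ) (fun e1 => by rw [e1, orderOf_one] at hτo; omega)
    (hτe ▸ (t : M).2)
  obtain ⟨g, a, ha, hga⟩ := htrans w hw0 hw
  have hcz : ∃ c, c ≠ 0 ∧ InC hF M z c := by
    have hgw : (((g : GL (Fin 3) F)⁻¹ : GL (Fin 3) F) : Matrix (Fin 3) (Fin 3) F) *ᵥ w = a • z := by
      rw [hga, mulVec_smul, mulVec_mulVec, ← Units.val_mul, inv_mul_cancel, Units.val_one, one_mulVec]
    exact ⟨_, mul_ne_zero (mul_ne_zero ha ((map_ne_zero _).2 ha)) hc0,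
      InC.move hF hMG (inv_mem g.2) ha hgw hc⟩
  -- all multipliers
  obtain ⟨x, hxo⟩ := exists_prime_orderOf_dvd_card' (hp := ⟨hl⟩) ℓ (G := ptStab M z) (by
    rw [← hOH] at hlO
    exact Nat.dvd_of_mul_dvd_mul_right (show 0 < O by rw [hOq]; omega) hlO)
  obtain ⟨ξ, hξe⟩ : ∃ ξ, ξ = ((x : M) : GL (Fin 3) F) := ⟨_, rfl⟩
  have hξo : orderOf ξ = ℓ := by rw [hξe, Subgroup.orderOf_coe, Subgroup.orderOf_coe]; exact hxo
  have hξM : ξ ∈ M := hξe ▸ (x : M).2
  obtain ⟨l, hlz⟩ := mem_ptStab.1 x.2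
  rw [← hξe] at hlz
  have hll : l ^ ℓ = 1 := eigen_pow_eq_one hz0 hlz (by rw [← hξo]; exact pow_orderOf_eq_one ξ)
  have hl2 : ℓ ≠ 2 := by omega
  have hlq1 : ¬ ℓ ∣ q + 1 := fun h => hl2 ((Nat.prime_dvd_prime_iff_eq hl Nat.prime_two).1
    ((Nat.dvd_add_right (dvd_refl ℓ)).1 (show ℓ ∣ ℓ + 2 by rwa [← hlq] at h)))
  obtain ⟨m, hme⟩ : ∃ m, m = l * qConj hF l := ⟨_, rfl⟩
  have hm1 : m ≠ 1 := fun e1 => by
    have hl1 : l ^ (q + 1) = 1 := by rw [pow_succ', ← qConj_apply hF, ← hme, e1]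
    have h := pow_gcd_eq_one.2 ⟨hll, hl1⟩
    rw [(hl.coprime_iff_not_dvd).2 hlq1, pow_one] at h
    rw [h, one_smul] at hlz
    have := eq_one_of_fixed hF (hiso ξ hξM) hl hl2 hlq1 (by rw [← hξo]; exact pow_orderOf_eq_one ξ)
      hz0 hz hlz
    rw [this, orderOf_one] at hξo
    exact hl.one_lt.ne hξo
  have hml : m ^ ℓ = 1 := by rw [hme, mul_pow, ← map_pow, hll, map_one, mul_one]
  have hmR : m ∈ multRing hF M z := hme ▸ norm_mem_multRing hMG hξM hlz
  have hprim : IsPrimitiveRoot m ℓ := by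
    have : Fact ℓ.Prime := ⟨hl⟩
    exact IsPrimitiveRoot.iff_orderOf.2 (orderOf_eq_prime hml hm1)
  obtain ⟨c', hc'0, hc'⟩ := hcz
  have hfullz : UFull (qConj hF) (Cfsg.hermForm 3 F q) M z := by
    refine uFull_of_multRing hz hc'0 hc' fun y hy => ?_
    rcases eq_or_ne y 0 with rfl | hy0
    · exact zero_mem _
    have hyl : y ^ ℓ = 1 := by
      refine mul_right_cancel₀ hy0 ?_
      rw [← pow_succ, hlq, one_mul, ← qConj_apply hF, hy]
    have : NeZero ℓ := ⟨hl.ne_zero⟩
    obtain ⟨i, -, rfl⟩ := hprim.eq_pow_of_pow_eq_one hyl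
    exact pow_mem hmR i
  refine le_antisymm hMG (su_le_of_uFull hF hq fun v hv => ?_)
  rcases eq_or_ne v 0 with rfl | hv0
  · exact uFull_zero hf
  obtain ⟨g, a, -, rfl⟩ := htrans v hv0 hv
  exact (hfullz.conj hf g.2 (hiso _ g.2)).smul hf a

/-- the normaliser of a Singer field is maximal -/
theorem field_maximal (hq : 3 ≤ q) (h3 : q ≠ 3) (h5 : q ≠ 5) :
    Cfsg.Geo.IsMaximalIn (Cfsg.GU 3 F q ⊓ Cfsg.Geo.specialLinear (Fin 3) F)
      (Cfsg.Geo.subalgebraNormalizer K ⊓ (Cfsg.GU 3 F q ⊓ Cfsg.Geo.specialLinear (Fin 3) F)) := by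
  classical
  obtain ⟨s, hs⟩ : ∃ s, s + q = q * q + 1 := ⟨q * q + 1 - q, Nat.sub_add_cancel (by nlinarith)⟩
  have h4 : 4 ≤ q := by omega
  refine ⟨(singer_overgroup hK hF hA h4 h5 hs le_rfl inf_le_right).1, fun M hNM hMG => ?_⟩
  rcases (singer_overgroup hK hF hA h4 h5 hs hNM hMG).2 with h | h | ⟨D, hD, hcase⟩
  · exact Or.inl h
  · exact Or.inr h
  refine Or.inr ?_
  rcases hcase with ⟨rfl, rfl⟩ | ⟨rfl, rfl | rfl⟩
  · haveI : CharP F 2 := charP_of_card_eq_prime_pow (f := 4) hF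
    obtain rfl : s = 13 := by omega
    refine singer_small hK hF hA hq (sb := 13) (e := 2) (ℓ := 3) (T := 1560) hs (by norm_num) Nat.prime_three
      rfl (by decide) hNM hMG hD (by norm_num) fun O h1 h2 h3 => ?_
    have h4 : O ∣ 195 := Nat.dvd_of_mul_dvd_mul_right (k := 8) (by norm_num) (by simpa using h3)
    have key : ∀ t < 196, t ∣ 195 → 13 ∣ t → t % 8 = 1 → t = 65 := by decide +kernel
    rw [key O (Nat.lt_succ_of_le (Nat.le_of_dvd (by norm_num) h4)) h4 h1 (by simpa using h2)]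
    norm_num
  · haveI : CharP F 2 := charP_of_card_eq_prime_pow (f := 6) hF
    obtain rfl : s = 57 := by omega
    refine singer_small hK hF hA hq (sb := 19) (e := 4) (ℓ := 7) (T := 16416) hs (by norm_num) (by norm_num)
      rfl (by decide) hNM hMG hD (by norm_num) fun O h1 h2 h3 => ?_
    have h4 : O ∣ 171 := Nat.dvd_of_mul_dvd_mul_right (k := 96) (by norm_num) (by simpa using h3)
    have key : ∀ t < 172, t ∣ 171 → 19 ∣ t → t % 32 ≠ 1 := by decide +kernel
    exact absurd (by simpa using h2) (key O (Nat.lt_succ_of_le (Nat.le_of_dvd (by norm_num) h4)) h4 h1)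
  · haveI : CharP F 2 := charP_of_card_eq_prime_pow (f := 6) hF
    obtain rfl : s = 57 := by omega
    refine singer_small hK hF hA hq (sb := 19) (e := 3) (ℓ := 7) (T := 172368) hs (by norm_num) (by norm_num)
      rfl (by decide) hNM hMG hD (by norm_num) fun O h1 h2 h3 => ?_
    have h4 : O ∣ 3591 := Nat.dvd_of_mul_dvd_mul_right (k := 48) (by norm_num) (by simpa using h3)
    obtain ⟨t, rfl⟩ := h1
    have key : ∀ t < 190, t ∣ 189 → (19 * t) % 16 = 1 → t = 27 := by decide +kernel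
    have h5 : t ∣ 189 := Nat.dvd_of_mul_dvd_mul_left (k := 19) (by norm_num) (by simpa using h4)
    rw [key t (Nat.lt_succ_of_le (Nat.le_of_dvd (by norm_num) h5)) h5 (by simpa using h2)]
    norm_num

end CfsgLib.MaxSub.SuThree
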