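import Cfsg.Agent.Lib.MaxSub.SuThree.SingerCount
import Cfsg.Agent.Lib.MaxSub.SuThree.Chord
import Cfsg.Prelude.Def_GeometricClasses
import Mathlib.GroupTheory.Sylow
import Mathlib.RingTheory.RootsOfUnity.PrimitiveRoots

/-!
The sporadic numerical possibilities for an overgroup of the Singer normaliser of the three-dimensional
special unitary group for fields of order four and eight: such an overgroup is transitive on isotropic
points and contains all transvections.
-/

set_option autoImplicit false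
set_option linter.unusedSectionVars false
set_option linter.style.haveILetI false

namespace CfsgLib.MaxSub.SuThree

open Matrix CfsgLib.MaxSub CfsgLib.AschU
open scoped MatrixGroups

variable {F : Type*} [Field F] [Fintype F] {q : ℕ}

/-- in characteristic two an element of two-power order is one -/
theorem eq_one_of_two_pow {R : Type*} [Field R] [CharP R 2] {a : R} {m : ℕ} (h : a ^ 2 ^ m = 1) : a = 1 := by
  induction m with
  | zero => simpa using h
  | succ m ih =>
    refine ih ?_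
    rw [pow_succ, pow_mul] at h
    have h2 : (a ^ 2 ^ m - 1) ^ 2 = 0 := by rw [sub_pow_char, h, one_pow, sub_self]
    exact sub_eq_zero.1 (eq_zero_of_pow_eq_zero h2)

/-- powers on an eigenvector -/
theorem pow_mulVec_eigen {g : GL (Fin 3) F} {z : Fin 3 → F} {l : F}
    (h : (g : Matrix (Fin 3) (Fin 3) F) *ᵥ z = l • z) :
    ∀ m : ℕ, ((g ^ m : GL (Fin 3) F) : Matrix (Fin 3) (Fin 3) F) *ᵥ z = l ^ m • z
  | 0 => by rw [pow_zero, pow_zero, Units.val_one, one_mulVec, one_smul]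
  | m + 1 => by
    rw [pow_succ, Units.val_mul, ← mulVec_mulVec, h, mulVec_smul, pow_mulVec_eigen h m, smul_smul,
      pow_succ' l]

theorem eigen_pow_eq_one {g : GL (Fin 3) F} {z : Fin 3 → F} {l : F} (hz : z ≠ 0)
    (h : (g : Matrix (Fin 3) (Fin 3) F) *ᵥ z = l • z) {m : ℕ} (hm : g ^ m = 1) : l ^ m = 1 := by
  have := pow_mulVec_eigen h m
  rw [hm, Units.val_one, one_mulVec] at this
  exact (smul_left_injective F hz (by simpa using this)).symm

variable (hF : Fintype.card F = q ^ 2)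
include hF

/-- coordinates for a pair of isotropic vectors -/
theorem exists_frame {z r : Fin 3 → F} (hz : Cfsg.hermForm 3 F q z z = 0) (hr : Cfsg.hermForm 3 F q r r = 0)
    (hzr : Cfsg.hermForm 3 F q z r ≠ 0) :
    ∃ y : Fin 3 → F, Cfsg.hermForm 3 F q y z = 0 ∧ Cfsg.hermForm 3 F q y r = 0 ∧ y ≠ 0 ∧
      Cfsg.hermForm 3 F q y y ≠ 0 ∧ ∀ v, ∃ α β γ : F, v = α • z + β • r + γ • y := by
  classical
  have hf := isUnitaryForm_hermForm hF 3
  obtain ⟨y, hy, hy0⟩ := (hPerp hf (Submodule.span F (Set.range ![z, r]))).exists_mem_ne_zero_of_ne_bot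
    (fun e => by
      have h1 := finrank_le_finrank_hPerp_add hf (Submodule.span F (Set.range ![z, r]))
      have h2 : Module.finrank F (Submodule.span F (Set.range ![z, r])) ≤ 2 := by
        simpa [Set.finrank] using finrank_range_le_card (R := F) ![z, r]
      rw [e, finrank_bot] at h1
      omega)
  have hyz : Cfsg.hermForm 3 F q y z = 0 := hy z (Submodule.subset_span ⟨0, rfl⟩)
  have hyr : Cfsg.hermForm 3 F q y r = 0 := hy r (Submodule.subset_span ⟨1, rfl⟩)
  have hzy := herm_eq_zero_comm hf hyz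
  have hry := herm_eq_zero_comm hf hyr
  have hrz : Cfsg.hermForm 3 F q r z ≠ 0 := fun e => hzr (herm_eq_zero_comm hf e)
  have hind : LinearIndependent F ![z, r, y] := by
    refine Fintype.linearIndependent_iff.2 fun c hc => ?_
    simp only [Fin.sum_univ_three, cons_val] at hc
    have h1 := congrArg (fun v => Cfsg.hermForm 3 F q v z) hc
    have h2 := congrArg (fun v => Cfsg.hermForm 3 F q v r) hc
    simp only [hf.add_left, hf.smul_left, herm_zero_left hf, hz, hr, hyz, hyr, mul_zero, zero_add,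
      add_zero] at h1 h2
    have c1 : c 1 = 0 := (mul_eq_zero.1 h1).resolve_right hrz
    have c0 : c 0 = 0 := (mul_eq_zero.1 h2).resolve_right hzr
    rw [c0, c1, zero_smul, zero_smul, zero_add, zero_add, smul_eq_zero] at hc
    intro i
    fin_cases i
    · exact c0
    · exact c1
    · exact hc.resolve_right hy0
  have hexp : ∀ v, ∃ α β γ : F, v = α • z + β • r + γ • y := fun v => by
    have hv : v ∈ Submodule.span F (Set.range ![z, r, y]) := by
      rw [hind.span_eq_top_of_card_eq_finrank' (by simp)]; trivial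
    obtain ⟨c, rfl⟩ := (Submodule.mem_span_range_iff_exists_fun F).1 hv
    exact ⟨c 0, c 1, c 2, by simp [Fin.sum_univ_three]⟩
  refine ⟨y, hyz, hyr, hy0, fun hyy => ?_, hexp⟩
  obtain ⟨⟨x, hx⟩, -⟩ := hf.nondegenerate y hy0
  obtain ⟨α, β, γ, rfl⟩ := hexp x
  exact hx (by simp only [hf.add_left, hf.smul_left, hzy, hry, hyy, mul_zero, add_zero])

variable [CharP F 2] {g : GL (Fin 3) F}
  (hiso : ∀ u v, Cfsg.hermForm 3 F q ((g : Matrix (Fin 3) (Fin 3) F) *ᵥ u)
    ((g : Matrix (Fin 3) (Fin 3) F) *ᵥ v) = Cfsg.hermForm 3 F q u v)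
include hiso

/-- an element of two-power order fixing two isotropic points is the identity -/
theorem eq_one_of_two_points {m : ℕ} (hm : g ^ 2 ^ m = 1) {z r : Fin 3 → F}
    (hz : Cfsg.hermForm 3 F q z z = 0) (hr : Cfsg.hermForm 3 F q r r = 0)
    (hzr : Cfsg.hermForm 3 F q z r ≠ 0) {a b : F} (hgz : (g : Matrix (Fin 3) (Fin 3) F) *ᵥ z = a • z)
    (hgr : (g : Matrix (Fin 3) (Fin 3) F) *ᵥ r = b • r) : g = 1 := by
  classical
  have hf := isUnitaryForm_hermForm hF 3
  have hz0 : z ≠ 0 := fun e => hzr (by rw [e]; exact herm_zero_left hf r)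
  have hr0 : r ≠ 0 := fun e => hzr (by rw [e]; exact herm_zero_right hf z)
  have hrz : Cfsg.hermForm 3 F q r z ≠ 0 := fun e => hzr (herm_eq_zero_comm hf e)
  rw [eq_one_of_two_pow (eigen_pow_eq_one hz0 hgz hm), one_smul] at hgz
  rw [eq_one_of_two_pow (eigen_pow_eq_one hr0 hgr hm), one_smul] at hgr
  obtain ⟨y, hyz, hyr, hy0, hyy, hexp⟩ := exists_frame hF hz hr hzr
  obtain ⟨α, β, γ, hgy⟩ := hexp ((g : Matrix (Fin 3) (Fin 3) F) *ᵥ y)
  have h1 := hiso y z
  have h2 := hiso y r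
  rw [hgy, hgz] at h1
  rw [hgy, hgr] at h2
  simp only [hf.add_left, hf.smul_left, hz, hr, hyz, hyr, mul_zero, zero_add, add_zero] at h1 h2
  have hα : α = 0 := (mul_eq_zero.1 h2).resolve_right hzr
  have hβ : β = 0 := (mul_eq_zero.1 h1).resolve_right hrz
  rw [hα, hβ, zero_smul, zero_smul, zero_add, zero_add] at hgy
  rw [eq_one_of_two_pow (eigen_pow_eq_one hy0 hgy hm), one_smul] at hgy
  refine Units.ext (Matrix.ext_of_mulVec_single fun i => ?_)
  obtain ⟨c, d, e, hv⟩ := hexp (Pi.single i 1)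
  rw [Units.val_one, one_mulVec, hv, mulVec_add, mulVec_add, mulVec_smul, mulVec_smul, mulVec_smul, hgz, hgr, hgy]

/-- an element of odd prime order fixing a non-zero isotropic vector: its order divides the order of norm one -/
theorem eq_one_of_fixed {ℓ : ℕ} (hl : ℓ.Prime) (hl2 : ℓ ≠ 2) (hlq : ¬ ℓ ∣ q + 1) (hm : g ^ ℓ = 1)
    {z : Fin 3 → F} (hz0 : z ≠ 0) (hz : Cfsg.hermForm 3 F q z z = 0)
    (hgz : (g : Matrix (Fin 3) (Fin 3) F) *ᵥ z = z) : g = 1 := by
  classical
  have hf := isUnitaryForm_hermForm hF 3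
  obtain ⟨⟨x, hx⟩, -⟩ := hf.nondegenerate z hz0
  obtain ⟨t, ht⟩ := exists_shift hf hz (z := x) hx
  obtain ⟨r, hre⟩ : ∃ r, r = x + t • z := ⟨_, rfl⟩
  rw [← hre] at ht
  have hrz : Cfsg.hermForm 3 F q r z ≠ 0 := by
    rw [hre, hf.add_left, hf.smul_left, hz, mul_zero, add_zero]; exact hx
  have hzr : Cfsg.hermForm 3 F q z r ≠ 0 := fun e => hrz (herm_eq_zero_comm hf e)
  obtain ⟨y, hyz, hyr, hy0, hyy, hexp⟩ := exists_frame hF hz ht hzr
  have hzy := herm_eq_zero_comm hf hyz
  have hperp : ∀ v, Cfsg.hermForm 3 F q v z = 0 → ∃ α γ : F, v = α • z + γ • y := fun v hv => by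
    obtain ⟨α, β, γ, rfl⟩ := hexp v
    simp only [hf.add_left, hf.smul_left, hz, hyz, mul_zero, zero_add, add_zero] at hv
    exact ⟨α, γ, by rw [(mul_eq_zero.1 hv).resolve_right hrz, zero_smul, add_zero]⟩
  -- the middle eigenvalue
  obtain ⟨α, γ, hgy⟩ := hperp ((g : Matrix (Fin 3) (Fin 3) F) *ᵥ y) (by
    have := hiso y z; rwa [hgz, hyz] at this)
  have hpow : ∀ m : ℕ, ∃ α' : F, ((g ^ m : GL (Fin 3) F) : Matrix (Fin 3) (Fin 3) F) *ᵥ y =
      α' • z + γ ^ m • y := by
    intro m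
    induction m with
    | zero => exact ⟨0, by simp⟩
    | succ m ih =>
      obtain ⟨α', h⟩ := ih
      refine ⟨α' + γ ^ m * α, ?_⟩
      rw [pow_succ', Units.val_mul, ← mulVec_mulVec, h, mulVec_add, mulVec_smul, mulVec_smul, hgz, hgy,
        smul_add, smul_smul, smul_smul, add_smul, pow_succ]
      abel
  obtain ⟨α', hα'⟩ := hpow ℓ
  rw [hm, Units.val_one, one_mulVec] at hα'
  have e1 := congrArg (fun v => Cfsg.hermForm 3 F q v y) hα'
  simp only [hf.add_left, hf.smul_left, hzy, mul_zero, zero_add] at e1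
  have hγl : γ ^ ℓ = 1 := mul_right_cancel₀ hyy (by rw [one_mul]; exact e1.symm)
  have e2 := hiso y y
  rw [hgy] at e2
  simp only [hf.add_left, herm_add_right hf, hf.smul_left, herm_smul_right hf, hz, hzy, hyz, mul_zero, zero_add]
    at e2
  have hγq : γ ^ (q + 1) = 1 := by
    rw [pow_succ', ← qConj_apply hF]
    exact mul_right_cancel₀ hyy (by linear_combination e2)
  have hγ1 : γ = 1 := by
    have := pow_gcd_eq_one.2 ⟨hγl, hγq⟩
    rwa [(hl.coprime_iff_not_dvd).2 hlq, pow_one] at this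
  rw [hγ1, one_smul] at hgy
  -- the cube of the difference
  obtain ⟨N, hN⟩ : ∃ N : Matrix (Fin 3) (Fin 3) F, N = (g : Matrix (Fin 3) (Fin 3) F) - 1 := ⟨_, rfl⟩
  have hNv : ∀ v, N *ᵥ v = (g : Matrix (Fin 3) (Fin 3) F) *ᵥ v - v := fun v => by
    rw [hN, sub_mulVec, one_mulVec]
  have hN3 : N ^ 3 = 0 := by
    refine Matrix.ext_of_mulVec_single fun i => ?_
    rw [pow_three, ← mulVec_mulVec, ← mulVec_mulVec, zero_mulVec]
    obtain ⟨a', c', h'⟩ := hperp (N *ᵥ Pi.single i 1) (by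
      rw [hNv, sub_eq_add_neg, hf.add_left, ← neg_one_smul F (Pi.single i 1 : Fin 3 → F), hf.smul_left]
      have := hiso (Pi.single i 1) z
      rw [hgz] at this
      rw [this]; ring)
    rw [h', mulVec_add, mulVec_smul, mulVec_smul, hNv z, hNv y, hgz, hgy, sub_self, smul_zero, zero_add,
      mulVec_smul, add_sub_cancel_right, mulVec_smul, hNv z, hgz, sub_self, smul_zero, smul_zero]
  have hg4 : g ^ 4 = 1 := Units.ext (by
    have hN4 : ((g : Matrix (Fin 3) (Fin 3) F) - 1) ^ 4 = 0 := by rw [← hN, pow_succ, hN3, zero_mul]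
    haveI : CharP (Matrix (Fin 3) (Fin 3) F) 2 := inferInstance
    rw [show (4 : ℕ) = 2 ^ 2 by norm_num, sub_pow_char_pow_of_commute _ _ (Commute.one_right _), one_pow,
      sub_eq_zero] at hN4
    rw [Units.val_pow_eq_pow_val, Units.val_one, show (4 : ℕ) = 2 ^ 2 by norm_num, hN4])
  have := pow_gcd_eq_one.2 ⟨hm, hg4⟩
  rwa [(hl.coprime_iff_not_dvd).2 (fun h => hl2 ((Nat.prime_dvd_prime_iff_eq hl Nat.prime_two).1
    (hl.dvd_of_dvd_pow (show ℓ ∣ 2 ^ 2 by exact_mod_cast h)))), pow_one] at this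

/-- an involution is a transvection -/
theorem inC_of_involution (hg2 : g ^ 2 = 1) (hg1 : g ≠ 1) {M : Subgroup (GL (Fin 3) F)} (hgM : g ∈ M) :
    ∃ w : Fin 3 → F, ∃ c : F, w ≠ 0 ∧ c ≠ 0 ∧ Cfsg.hermForm 3 F q w w = 0 ∧ InC hF M w c := by
  classical
  have hf := isUnitaryForm_hermForm hF 3
  obtain ⟨N, hN⟩ : ∃ N : Matrix (Fin 3) (Fin 3) F, N = (g : Matrix (Fin 3) (Fin 3) F) - 1 := ⟨_, rfl⟩
  have hgv : ∀ v, (g : Matrix (Fin 3) (Fin 3) F) *ᵥ v = v + N *ᵥ v := fun v => by
    rw [hN, sub_mulVec, one_mulVec, add_sub_cancel]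
  have hN2 : ∀ v, N *ᵥ (N *ᵥ v) = 0 := fun v => by
    haveI : CharP (Matrix (Fin 3) (Fin 3) F) 2 := inferInstance
    rw [mulVec_mulVec, hN, ← pow_two, sub_pow_char_of_commute _ (Commute.one_right _), one_pow,
      ← Units.val_pow_eq_pow_val, hg2, Units.val_one, sub_self, zero_mulVec]
  have hrel : ∀ u v, Cfsg.hermForm 3 F q u (N *ᵥ v) + Cfsg.hermForm 3 F q (N *ᵥ u) v +
      Cfsg.hermForm 3 F q (N *ᵥ u) (N *ᵥ v) = 0 := fun u v => by
    have := hiso u v
    rw [hgv, hgv, hf.add_left, herm_add_right hf, herm_add_right hf] at this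
    linear_combination this
  -- rank one
  let L : (Fin 3 → F) →ₗ[F] (Fin 3 → F) := Matrix.toLin' N
  have hLv : ∀ v, L v = N *ᵥ v := fun v => Matrix.toLin'_apply N v
  have hrk : Module.finrank F (LinearMap.range L) ≤ 1 := by
    have h1 := LinearMap.finrank_range_add_finrank_ker L
    have h2 : LinearMap.range L ≤ LinearMap.ker L := by
      rintro _ ⟨v, rfl⟩
      rw [LinearMap.mem_ker, hLv, hLv, hN2]
    have h3 := Submodule.finrank_mono h2
    rw [Module.finrank_fin_fun] at h1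
    omega
  obtain ⟨x0, hx0⟩ : ∃ x0, N *ᵥ x0 ≠ 0 := by
    by_contra hall
    push Not at hall
    exact hg1 (Units.ext (Matrix.ext_of_mulVec_single fun i => by
      rw [hgv, hall, add_zero, Units.val_one, one_mulVec]))
  obtain ⟨w, hwe⟩ : ∃ w, w = N *ᵥ x0 := ⟨_, rfl⟩
  rw [← hwe] at hx0
  have hspan : ∀ v, ∃ φ : F, N *ᵥ v = φ • w := fun v => by
    have hle : Submodule.span F {w} = LinearMap.range L := by
      refine Submodule.eq_of_le_of_finrank_le ?_ ?_
      · rw [Submodule.span_singleton_le_iff_mem]; exact ⟨x0, by rw [hLv, hwe]⟩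
      · rw [finrank_span_singleton hx0]; exact hrk
    have : N *ᵥ v ∈ Submodule.span F {w} := by rw [hle]; exact ⟨v, hLv v⟩
    obtain ⟨φ, hφ⟩ := Submodule.mem_span_singleton.1 this
    exact ⟨φ, hφ.symm⟩
  have hNw : N *ᵥ w = 0 := hwe ▸ hN2 x0
  have hww : Cfsg.hermForm 3 F q w w = 0 := by
    have := hrel x0 w
    rwa [hNw, ← hwe, herm_zero_right hf, herm_zero_right hf, zero_add, add_zero] at this
  have hφ : ∀ v φ, N *ᵥ v = φ • w →
      Cfsg.hermForm 3 F q v w + φ * Cfsg.hermForm 3 F q w x0 = 0 := fun v φ h => by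
    have := hrel v x0
    rw [h, ← hwe, hf.smul_left, hf.smul_left, hww, mul_zero, add_zero] at this
    exact this
  have hκ : Cfsg.hermForm 3 F q w x0 ≠ 0 := fun e => by
    obtain ⟨⟨v, hv⟩, -⟩ := hf.nondegenerate w hx0
    obtain ⟨φ, h⟩ := hspan v
    have := hφ v φ h
    rw [e, mul_zero, add_zero] at this
    exact hv this
  obtain ⟨c, hce⟩ : ∃ c, c = -(Cfsg.hermForm 3 F q w x0)⁻¹ := ⟨_, rfl⟩
  have hc0 : c ≠ 0 := by rw [hce]; exact neg_ne_zero.2 (inv_ne_zero hκ)
  refine ⟨w, c, hx0, hc0, hww, ?_, ?_, g, hgM, ?_⟩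
  · have h1 := hφ x0 1 (by rw [one_smul, hwe])
    rw [one_mul] at h1
    rw [hce, map_neg, map_inv₀, ← hf.herm x0 w,
      show Cfsg.hermForm 3 F q x0 w = -Cfsg.hermForm 3 F q w x0 by linear_combination h1, inv_neg, neg_neg,
      neg_add_cancel]
  · rw [smul_dotProduct, hDual_dot hf, hww, smul_zero]
  · refine Matrix.ext_of_mulVec_single fun i => ?_
    rw [uTv_mulVec hf, hgv]
    congr 1
    obtain ⟨φ, h⟩ := hspan (Pi.single i 1)
    rw [h]
    congr 1
    have h1 := hφ _ φ h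
    rw [hce]
    field_simp
    linear_combination h1

omit hiso in
/-- transport of a transvection parameter -/
theorem InC.move {M : Subgroup (GL (Fin 3) F)} (hMG : M ≤ suGL 3 q F) {h : GL (Fin 3) F} (hh : h ∈ M)
    {z w : Fin 3 → F} {l : F} (hl : l ≠ 0) (hhz : (h : Matrix (Fin 3) (Fin 3) F) *ᵥ z = l • w) {c : F}
    (hc : InC hF M z c) : InC hF M w (l * qConj hF l * c) := by
  have hf := isUnitaryForm_hermForm hF 3
  refine ⟨by rw [map_mul, map_mul, hf.involutive]; linear_combination (l * qConj hF l) * hc.1, ?_⟩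
  have h1 := hc.2.conj hh
  rw [smul_vecMul, hDual_vecMul_inv hf (isometry_of_mem hF hMG hh), hhz, hDual_smul hf, smul_smul] at h1
  rw [hasTv_smul_iff hl, smul_smul] at h1
  rwa [show l * qConj hF l * c = l * (c * qConj hF l) by ring]

end CfsgLib.MaxSub.SuThree
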