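import Cfsg.Agent.Lib.MaxSub.SuThree.SubfieldCom
import Cfsg.Agent.Lib.MaxSub.SuThree.Basic
import Cfsg.Agent.Lib.MaxSub.SkewSubfield

/-!
Subfield groups of odd prime index are maximal in `SU_3(q)`.
-/

set_option autoImplicit false
set_option linter.unusedSectionVars false
set_option linter.unusedSimpArgs false
set_option linter.style.haveILetI false

namespace CfsgLib.MaxSub.SuThree

open Matrix CfsgLib.MaxSub CfsgLib.MaxSub.SuThree.SubF
open CfsgLib.MaxSub.SuThree.Orth (ap ap_smul Isom InS)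
open scoped MatrixGroups

variable {F : Type*} [Field F] [Fintype F]

/-- isometries of the standard form have determinant of norm one -/
theorem det_norm_one {q : ℕ} (hF : Fintype.card F = q ^ 2) (g : GL (Fin 3) F)
    (hg : Isom (Cfsg.hermForm 3 F q) g) :
    (g : Matrix (Fin 3) (Fin 3) F).det * qConj hF (g : Matrix (Fin 3) (Fin 3) F).det = 1 := by
  have h : (g : Matrix (Fin 3) (Fin 3) F)ᵀ * (g : Matrix (Fin 3) (Fin 3) F).map (qConj hF) = 1 := by
    ext j k
    have h1 := hg (Pi.single j 1) (Pi.single k 1)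
    have hq : q ≠ 0 := by rintro rfl; simp at hF
    simp only [Cfsg.hermForm, ap, mulVec_single, MulOpposite.op_one, one_smul, Matrix.col_apply] at h1
    simp only [Matrix.mul_apply, Matrix.transpose_apply, Matrix.map_apply, qConj_apply]
    rw [h1, Finset.sum_eq_single j (fun i _ hi => by simp [hi]) (by simp), Matrix.one_apply]
    rcases eq_or_ne j k with rfl | hjk
    · simp
    · simp [hjk, Pi.single_eq_of_ne, zero_pow hq]
  have h2 := congrArg Matrix.det h
  rwa [det_mul, det_transpose, det_one, ← RingEquiv.mapMatrix_apply, ← RingEquiv.map_det] at h2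

/-- subfield groups of odd prime index are maximal in the three-dimensional special unitary group -/
theorem subfield_maximal (q : ℕ) (hF : Fintype.card F = q ^ 2) (hq : 3 ≤ q) (F₀ : Subfield F) (r : ℕ)
    (P : GL (Fin 3) F) (hr : r.Prime) (hodd : Odd r) (hcard : Fintype.card F = Nat.card F₀ ^ r)
    (hP : Cfsg.Geo.IsFormRationalStructure (Cfsg.hermForm 3 F q) F₀ 1 P) :
    Cfsg.Geo.IsMaximalIn (Cfsg.GU 3 F q ⊓ Cfsg.Geo.specialLinear (Fin 3) F)
      (Cfsg.Geo.subfieldSubgroup F₀ P ⊓ (Cfsg.GU 3 F q ⊓ Cfsg.Geo.specialLinear (Fin 3) F)) := by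
  classical
  have hf := isUnitaryForm_hermForm hF 3
  obtain ⟨σ, hσ⟩ : ∃ σ : F ≃+* F, σ = qConj hF := ⟨_, rfl⟩
  rw [← hσ] at hf
  have hdn : ∀ g : GL (Fin 3) F, Isom (Cfsg.hermForm 3 F q) g →
      (g : Matrix (Fin 3) (Fin 3) F).det * σ (g : Matrix (Fin 3) (Fin 3) F).det = 1 := fun g hg =>
    hσ ▸ det_norm_one hF g hg
  obtain ⟨f, hfd⟩ : ∃ f, f = Cfsg.hermForm 3 F q := ⟨_, rfl⟩
  rw [← hfd] at hf hdn
  have hsig : ∀ x ∈ F₀, σ x ∈ F₀ := fun x hx => by rw [hσ, qConj_apply]; exact pow_mem hx q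
  have hfin : Module.finrank F₀ F = r := by
    have h1 := Module.natCard_eq_pow_finrank (K := F₀) (V := F)
    rw [Nat.card_eq_fintype_card (α := F), hcard] at h1
    exact (Nat.pow_right_injective (Finite.one_lt_card (α := F₀)) h1).symm
  obtain ⟨a₀, ha₀, ha₀σ⟩ : ∃ a ∈ F₀, σ a ≠ a := by
    by_contra hno
    push Not at hno
    let e : F ≃ₐ[F₀] F := AlgEquiv.ofRingEquiv (f := σ) fun x => hno x.1 x.2
    have he : e ^ 2 = 1 := AlgEquiv.ext fun x => by rw [sq, AlgEquiv.mul_apply]; exact hf.involutive x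
    have h1 : orderOf e ∣ r := by
      have := orderOf_dvd_natCard e
      rwa [IsGalois.card_aut_eq_finrank, hfin] at this
    have h2 : orderOf e ∣ 2 := orderOf_dvd_of_pow_eq_one he
    have h3 : e = 1 := orderOf_eq_one_iff.1 (Nat.dvd_one.1
      (Nat.Coprime.gcd_eq_one (Nat.coprime_two_right.2 hodd) ▸ Nat.dvd_gcd h1 h2))
    exact hf.ne_refl (RingEquiv.ext fun x => AlgEquiv.congr_fun h3 x)
  have htop : ∀ L : Subring F, (∀ x ∈ F₀, x ∈ L) → ∀ c ∈ L, c ∉ F₀ → ∀ x, x ∈ L := fun L hL c hc hc0 => by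
    let A : Subalgebra F₀ F :=
      { toSubsemiring := L.toSubsemiring
        algebraMap_mem' := fun x => hL _ x.2 }
    haveI := Subalgebra.isSimpleOrder_of_finrank_prime F₀ F (hfin.symm ▸ hr)
    rcases IsSimpleOrder.eq_bot_or_eq_top A with h | h
    · exfalso
      have hmem : c ∈ A := hc
      rw [h, Algebra.mem_bot] at hmem
      obtain ⟨y, rfl⟩ := hmem
      exact hc0 y.2
    · intro x
      have : x ∈ A := by rw [h]; trivial
      exact this
  have hlt : Nat.card F₀ ^ 2 < Fintype.card F := by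
    rw [hcard]
    refine Nat.pow_lt_pow_right (Finite.one_lt_card (α := F₀)) ?_
    obtain ⟨i, rfl⟩ := hodd
    have := hr.two_le
    omega
  have hout : ∃ x, x ∉ F₀ := by
    by_contra hno
    push Not at hno
    have h1 : Nat.card F ≤ Nat.card F₀ :=
      Nat.card_le_card_of_injective (fun x : F => (⟨x, hno x⟩ : F₀)) fun a b h => congrArg Subtype.val h
    rw [Nat.card_eq_fintype_card (α := F)] at h1
    have := Nat.le_self_pow (show 2 ≠ 0 by norm_num) (Nat.card F₀)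
    omega
  have hquad : ∀ c a b : F, a ∈ F₀ → b ∈ F₀ → c * c = a * c + b → c ∈ F₀ := by
    intro c a b ha hb hc
    by_contra hc0
    obtain ⟨L, hL⟩ : ∃ L : Subring F, ∀ x, x ∈ L ↔ ∃ i ∈ F₀, ∃ j ∈ F₀, x = i + j * c :=
      ⟨{ carrier := {x | ∃ i ∈ F₀, ∃ j ∈ F₀, x = i + j * c}
         one_mem' := ⟨1, one_mem _, 0, zero_mem _, by ring⟩
         zero_mem' := ⟨0, zero_mem _, 0, zero_mem _, by ring⟩
         mul_mem' := by
           rintro _ _ ⟨i, hi, j, hj, rfl⟩ ⟨i', hi', j', hj', rfl⟩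
           exact ⟨i * i' + j * j' * b, add_mem (mul_mem hi hi') (mul_mem (mul_mem hj hj') hb),
             i * j' + j * i' + j * j' * a,
             add_mem (add_mem (mul_mem hi hj') (mul_mem hj hi')) (mul_mem (mul_mem hj hj') ha),
             by linear_combination (j * j') * hc⟩
         add_mem' := by
           rintro _ _ ⟨i, hi, j, hj, rfl⟩ ⟨i', hi', j', hj', rfl⟩
           exact ⟨i + i', add_mem hi hi', j + j', add_mem hj hj', by ring⟩
         neg_mem' := by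
           rintro _ ⟨i, hi, j, hj, rfl⟩
           exact ⟨-i, neg_mem hi, -j, neg_mem hj, by ring⟩ }, fun _ => Iff.rfl⟩
    have hall := htop L (fun x hx => (hL x).2 ⟨x, hx, 0, zero_mem _, by ring⟩) c
      ((hL c).2 ⟨0, zero_mem _, 1, one_mem _, by ring⟩) hc0
    have hsurj : Function.Surjective fun p : F₀ × F₀ => (p.1 : F) + (p.2 : F) * c := fun x => by
      obtain ⟨i, hi, j, hj, rfl⟩ := (hL x).1 (hall x)
      exact ⟨(⟨i, hi⟩, ⟨j, hj⟩), rfl⟩
    have h1 := Nat.card_le_card_of_surjective _ hsurj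
    rw [Nat.card_prod, Nat.card_eq_fintype_card (α := F)] at h1
    rw [sq] at hlt
    omega
  -- the form on the rational vectors
  let σ₀ : F₀ ≃+* F₀ :=
    { toFun := fun x => ⟨σ x, hsig x x.2⟩
      invFun := fun x => ⟨σ x, hsig x x.2⟩
      left_inv := fun x => Subtype.ext (hf.involutive x)
      right_inv := fun x => Subtype.ext (hf.involutive x)
      map_mul' := fun x y => Subtype.ext (map_mul σ (x : F) y)
      map_add' := fun x y => Subtype.ext (map_add σ (x : F) y) }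
  have hσ₀ : ∀ x : F₀, ((σ₀ x : F₀) : F) = σ (x : F) := fun _ => rfl
  have hmem : ∀ a b, f (incP F₀ P a) (incP F₀ P b) ∈ F₀ := fun a b => by
    have := hP (fun i => (a i : F)) (fun i => (b i : F)) (fun i => (a i).2) fun i => (b i).2
    rwa [one_mul, ← hfd] at this
  obtain ⟨f₀, hf₀⟩ : ∃ f₀ : (Fin 3 → F₀) → (Fin 3 → F₀) → F₀,
      ∀ a b, ((f₀ a b : F₀) : F) = f (incP F₀ P a) (incP F₀ P b) := ⟨fun a b => ⟨_, hmem a b⟩, fun _ _ => rfl⟩
  have hinj : Function.Injective (incP F₀ P) := fun a b h => by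
    have h1 := congrArg (fun w => ((P⁻¹ : GL (Fin 3) F) : Matrix (Fin 3) (Fin 3) F) *ᵥ w) h
    simp only [incP_apply, inv_mulVec_mulVec] at h1
    exact funext fun i => Subtype.ext (congrFun h1 i)
  have hexp : ∀ x, ∃ t : Fin 3 → F, x = ∑ i, t i • incP F₀ P (Pi.single i 1) := fun x => by
    refine ⟨((P⁻¹ : GL (Fin 3) F) : Matrix (Fin 3) (Fin 3) F) *ᵥ x, ?_⟩
    conv_lhs => rw [← mulVec_mulVec_inv P x,
      pi_eq_sum_univ' (((P⁻¹ : GL (Fin 3) F) : Matrix (Fin 3) (Fin 3) F) *ᵥ x), mulVec_sum]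
    refine Finset.sum_congr rfl fun i _ => ?_
    rw [mulVec_smul, incP_apply]
    congr 2
    funext j
    simp only [Pi.single_apply]; split <;> simp
  have hperp : ∀ a, (∀ b, f₀ b a = 0) → a = 0 := fun a h => by
    refine hinj (?_ : incP F₀ P a = incP F₀ P 0)
    rw [map_zero]
    by_contra hne
    obtain ⟨⟨x, hx⟩, -⟩ := hf.nondegenerate _ hne
    apply hx
    obtain ⟨t, rfl⟩ := hexp x
    simp only [Fin.sum_univ_three, hf.add_left, hf.smul_left, ← hf₀, h, ZeroMemClass.coe_zero, mul_zero, add_zero]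
  have hf0 : Cfsg.Geo.IsUnitaryForm σ₀ f₀ := by
    have herm : ∀ a b, f₀ a b = σ₀ (f₀ b a) := fun a b => Subtype.ext (by rw [hσ₀, hf₀, hf₀, ← hf.herm])
    refine ⟨fun h => ha₀σ ?_, fun x => Subtype.ext (hf.involutive (x : F)), fun x y w => Subtype.ext ?_,
      fun c x w => Subtype.ext ?_, herm, fun a ha => ?_⟩
    · exact congrArg Subtype.val (RingEquiv.congr_fun h ⟨a₀, ha₀⟩)
    · rw [hf₀, map_add, hf.add_left, Subfield.coe_add, hf₀, hf₀]
    · rw [hf₀, incP_smul, hf.smul_left, Subfield.coe_mul, hf₀]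
    · obtain ⟨b, hb⟩ : ∃ b, f₀ b a ≠ 0 := by
        by_contra hno
        push Not at hno
        exact ha (hperp a hno)
      exact ⟨⟨b, hb⟩, ⟨b, fun h => hb (by rw [herm, h, map_zero])⟩⟩
  obtain ⟨p, -, hp0, hpp⟩ := exists_isotropic hf0 (U := (⊤ : Submodule F₀ (Fin 3 → F₀)))
    (by rw [finrank_top, Module.finrank_fin_fun]; norm_num)
  obtain ⟨⟨z, hzp⟩, -⟩ := hf0.nondegenerate p hp0
  obtain ⟨z', hz'⟩ : ∃ z', z' = (f₀ z p)⁻¹ • z := ⟨_, rfl⟩
  have hz'p : f₀ z' p = 1 := by rw [hz', hf0.smul_left, inv_mul_cancel₀ hzp]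
  have hpz' : f₀ p z' = 1 := by rw [hf0.herm, hz'p, map_one]
  obtain ⟨s, hs⟩ := exists_trace_eq hf0 (a := -f₀ z' z') (by rw [map_neg, herm_self_fixed hf0])
  obtain ⟨b, hb⟩ : ∃ b, b = z' + s • p := ⟨_, rfl⟩
  have hbb : f₀ b b = 0 := by
    simp only [hb, hf0.add_left, herm_add_right hf0, hf0.smul_left, herm_smul_right hf0, hpp, hz'p, hpz']
    linear_combination hs
  have hbp : f₀ b p = 1 := by rw [hb, hf0.add_left, hf0.smul_left, hpp, hz'p, mul_zero, add_zero]
  have hpb : f₀ p b = 1 := by rw [hf0.herm, hbp, map_one]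
  obtain ⟨c, hcP, hc0⟩ := (hPerp hf0 (Submodule.span F₀ (Set.range ![p, b]))).exists_mem_ne_zero_of_ne_bot
    (fun h => by
      have h1 := finrank_le_finrank_hPerp_add hf0 (Submodule.span F₀ (Set.range ![p, b]))
      have h2 : Module.finrank F₀ (Submodule.span F₀ (Set.range ![p, b])) ≤ 2 := by
        simpa [Set.finrank] using finrank_range_le_card (R := F₀) ![p, b]
      rw [h, finrank_bot] at h1
      omega)
  have hcp : f₀ c p = 0 := hcP p (Submodule.subset_span ⟨0, rfl⟩)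
  have hcb : f₀ c b = 0 := hcP b (Submodule.subset_span ⟨1, rfl⟩)
  have hcc : f₀ c c ≠ 0 := fun h => by
    have hind : LinearIndependent F₀ ![p, c] := (LinearIndependent.pair_iff' hp0).2 fun i hi => by
      rw [← hi, hf0.smul_left, hpb, mul_one] at hcb
      rw [hcb, zero_smul] at hi
      exact hc0 hi.symm
    obtain ⟨y, hy, hyy⟩ := exists_anisotropic hf0 (U := Submodule.span F₀ (Set.range ![p, c])) (by
      rw [finrank_span_eq_card hind]; simp)
    rw [Matrix.range_cons_cons_empty, Submodule.mem_span_pair] at hy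
    obtain ⟨i, j, rfl⟩ := hy
    apply hyy
    simp only [hf0.add_left, herm_add_right hf0, hf0.smul_left, herm_smul_right hf0, hpp, h, hcp,
      herm_eq_zero_comm hf0 hcp, mul_zero, add_zero]
  have lift : ∀ {i j : Fin 3 → F₀} {k : F₀}, f₀ i j = k → f (incP F₀ P i) (incP F₀ P j) = (k : F) :=
    fun {i j k} h => by rw [← hf₀, h]
  have D : Dat σ f F₀ (incP F₀ P p) (incP F₀ P b) (incP F₀ P c) := by
    refine ⟨hf, hsig, ⟨a₀, ha₀, ha₀σ⟩, hquad, htop, fun k hk hkσ => ?_, fun k hk hkσ => ?_, hdn, lift hpp, lift hbb,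
      lift hpb, lift hbp, lift (herm_eq_zero_comm hf0 hcp), lift hcp, lift (herm_eq_zero_comm hf0 hcb), lift hcb,
      fun h => hcc (Subtype.ext (by rw [hf₀]; exact h)), hmem c c⟩
    · obtain ⟨l, hl⟩ := exists_norm_eq hf0 (e := ⟨k, hk⟩) (Subtype.ext hkσ)
      exact ⟨l, l.2, congrArg Subtype.val hl⟩
    · obtain ⟨l, hl⟩ := exists_trace_eq hf0 (a := ⟨k, hk⟩) (Subtype.ext hkσ)
      exact ⟨l, l.2, congrArg Subtype.val hl⟩
  have hrt : ∀ x, Rt f F₀ (incP F₀ P p) (incP F₀ P b) (incP F₀ P c) x ↔ ∃ w, x = incP F₀ P w := fun x => by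
    refine ⟨fun h => ?_, ?_⟩
    · refine ⟨(⟨_, h.2.1⟩ : F₀) • p + (⟨_, h.1⟩ : F₀) • b + (⟨_, div_mem h.2.2 D.eeR⟩ : F₀) • c, ?_⟩
      rw [map_add, map_add, incP_smul, incP_smul, incP_smul]
      exact D.expand x
    · rintro ⟨w, rfl⟩
      exact ⟨hmem w p, hmem w b, hmem w c⟩
  have hiff : ∀ g : GL (Fin 3) F, g ∈ Cfsg.Geo.subfieldSubgroup F₀ P ↔
      Com f F₀ (incP F₀ P p) (incP F₀ P b) (incP F₀ P c) g := fun g => by
    rw [mem_subfieldSubgroup_iff]
    constructor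
    · rintro ⟨k, hk, h⟩
      refine ⟨k, hk, fun x hx => ?_⟩
      obtain ⟨w, rfl⟩ := (hrt x).1 hx
      exact (hrt _).2 (h w)
    · rintro ⟨k, hk, h⟩
      exact ⟨k, hk, fun w => (hrt _).1 (h _ ((hrt _).2 ⟨w, rfl⟩))⟩
  have hS : ∀ g, g ∈ Cfsg.GU 3 F q ⊓ Cfsg.Geo.specialLinear (Fin 3) F ↔ InS f g := fun g => by
    rw [hfd]
    constructor
    · rintro ⟨h1, h2⟩
      refine ⟨h1, ?_⟩
      have : Matrix.GeneralLinearGroup.det g = 1 := h2
      simpa using congrArg Units.val this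
    · rintro ⟨h1, h2⟩
      exact ⟨h1, Units.ext h2⟩
  refine ⟨lt_of_le_not_ge inf_le_right fun hle => ?_, fun M hHM hMG => ?_⟩
  · obtain ⟨g, hg, hgc⟩ := D.exists_outside hout
    exact hgc ((hiff g).1 (hle ((hS g).2 hg)).1)
  by_cases hex : ∀ g ∈ M, g ∈ Cfsg.Geo.subfieldSubgroup F₀ P
  · exact Or.inl (le_antisymm (fun g hg => ⟨hex g hg, hMG hg⟩) hHM)
  refine Or.inr (le_antisymm hMG ?_)
  push Not at hex
  obtain ⟨g, hg, hgc⟩ := hex
  have S : Sub f F₀ (incP F₀ P p) (incP F₀ P b) (incP F₀ P c) M :=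
    ⟨fun g h1 h2 => hHM ⟨(hiff g).2 h2, (hS g).2 h1⟩, fun g h => (hS g).1 (hMG h)⟩
  obtain ⟨x, y, z, hx, hy, hz, hind⟩ := D.full_of_outside S hg fun h => hgc ((hiff g).2 h)
  rw [hσ, hfd] at hx hy hz
  exact su_le_of_three hF hq hx hy hz hind

end CfsgLib.MaxSub.SuThree
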