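import Cfsg.Agent.Lib.MaxSub.SuThree.OrthBase
import Cfsg.Agent.Lib.MaxSub.HermPerp

/-!
A rational frame of a three-dimensional hermitian space over a subfield of odd index: rational vectors, rational
isometries and unipotent elements.
-/

set_option autoImplicit false
set_option linter.unusedSectionVars false
set_option linter.unusedSimpArgs false

namespace CfsgLib.MaxSub.SuThree.SubF

open Matrix CfsgLib.MaxSub
open CfsgLib.MaxSub.SuThree.Orth (ap ap_mul ap_one ap_inv inv_ap ap_ext ap_add ap_sub ap_smul ap_ne_zero Isom InS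
  IsE Span3 span3_of_indep)
open scoped MatrixGroups

variable {F : Type*} [Field F] [Fintype F]

/-- the field data and the frame -/
structure Dat (σ : F ≃+* F) (f : (Fin 3 → F) → (Fin 3 → F) → F) (F₀ : Subfield F) (u v e : Fin 3 → F) : Prop where
  form : Cfsg.Geo.IsUnitaryForm σ f
  sig : ∀ x ∈ F₀, σ x ∈ F₀
  moved : ∃ a ∈ F₀, σ a ≠ a
  quad : ∀ c a b : F, a ∈ F₀ → b ∈ F₀ → c * c = a * c + b → c ∈ F₀
  top : ∀ L : Subring F, (∀ x ∈ F₀, x ∈ L) → ∀ c ∈ L, c ∉ F₀ → ∀ x, x ∈ L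
  norm_onto : ∀ k ∈ F₀, σ k = k → ∃ l ∈ F₀, l * σ l = k
  trace_onto : ∀ k ∈ F₀, σ k = k → ∃ s ∈ F₀, s + σ s = k
  det_norm : ∀ g : GL (Fin 3) F, Isom f g →
    (g : Matrix (Fin 3) (Fin 3) F).det * σ (g : Matrix (Fin 3) (Fin 3) F).det = 1
  uu : f u u = 0
  vv : f v v = 0
  uv : f u v = 1
  vu : f v u = 1
  ue : f u e = 0
  eu : f e u = 0
  ve : f v e = 0
  ev : f e v = 0
  ee : f e e ≠ 0
  eeR : f e e ∈ F₀

/-- rational vectors -/
def Rt (f : (Fin 3 → F) → (Fin 3 → F) → F) (F₀ : Subfield F) (u v e x : Fin 3 → F) : Prop :=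
  f x u ∈ F₀ ∧ f x v ∈ F₀ ∧ f x e ∈ F₀

/-- rational maps -/
def Rat (f : (Fin 3 → F) → (Fin 3 → F) → F) (F₀ : Subfield F) (u v e : Fin 3 → F) (g : GL (Fin 3) F) : Prop :=
  ∀ x, Rt f F₀ u v e x → Rt f F₀ u v e (ap g x)

/-- rational up to a scalar -/
def Com (f : (Fin 3 → F) → (Fin 3 → F) → F) (F₀ : Subfield F) (u v e : Fin 3 → F) (g : GL (Fin 3) F) : Prop :=
  ∃ c : F, c ≠ 0 ∧ ∀ x, Rt f F₀ u v e x → Rt f F₀ u v e (c • ap g x)

/-- between the rational group and the special unitary group -/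
structure Sub (f : (Fin 3 → F) → (Fin 3 → F) → F) (F₀ : Subfield F) (u v e : Fin 3 → F)
    (M : Subgroup (GL (Fin 3) F)) : Prop where
  incl : ∀ g, InS f g → Com f F₀ u v e g → g ∈ M
  ins : ∀ g ∈ M, InS f g

variable {σ : F ≃+* F} {f : (Fin 3 → F) → (Fin 3 → F) → F} {F₀ : Subfield F} {u v e : Fin 3 → F}

namespace Dat

variable (D : Dat σ f F₀ u v e)
include D

theorem add_left (x y z : Fin 3 → F) : f (x + y) z = f x z + f y z := D.form.add_left x y z
theorem add_right (x y z : Fin 3 → F) : f x (y + z) = f x y + f x z := herm_add_right D.form x y z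
theorem smul_left (c : F) (x y : Fin 3 → F) : f (c • x) y = c * f x y := D.form.smul_left c x y
theorem smul_right (c : F) (x y : Fin 3 → F) : f x (c • y) = σ c * f x y := herm_smul_right D.form c x y
theorem zero_left (x : Fin 3 → F) : f 0 x = 0 := herm_zero_left D.form x
theorem zero_right (x : Fin 3 → F) : f x 0 = 0 := herm_zero_right D.form x
theorem neg_left (x y : Fin 3 → F) : f (-x) y = -f x y := by rw [← neg_one_smul F, D.smul_left, neg_one_mul]
theorem neg_right (x y : Fin 3 → F) : f x (-y) = -f x y := by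
  rw [← neg_one_smul F, D.smul_right, map_neg, map_one, neg_one_mul]
theorem sub_left (x y z : Fin 3 → F) : f (x - y) z = f x z - f y z := by
  rw [sub_eq_add_neg, D.add_left, D.neg_left, ← sub_eq_add_neg]
theorem sub_right (x y z : Fin 3 → F) : f x (y - z) = f x y - f x z := by
  rw [sub_eq_add_neg, D.add_right, D.neg_right, ← sub_eq_add_neg]
theorem perp_symm {x y : Fin 3 → F} (h : f x y = 0) : f y x = 0 := herm_eq_zero_comm D.form h
theorem ss (a : F) : σ (σ a) = a := D.form.involutive a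

theorem ee_fix : σ (f e e) = f e e := herm_self_fixed D.form e

theorem u_ne : u ≠ 0 := fun h => by
  have := D.uv
  rw [h, D.zero_left] at this
  exact zero_ne_one this

theorem exists_theta : ∃ θ ∈ F₀, θ ≠ 0 ∧ σ θ = -θ := by
  obtain ⟨a, ha, h⟩ := D.moved
  exact ⟨a - σ a, sub_mem ha (D.sig a ha), sub_ne_zero.2 (Ne.symm h), by rw [map_sub, D.ss, neg_sub]⟩

theorem mem_of_skew {x : F} (h : ∀ l ∈ F₀, x * σ l - σ x * l ∈ F₀) : x ∈ F₀ := by
  obtain ⟨a, ha, hne⟩ := D.moved
  have h1 := h 1 (one_mem _)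
  rw [map_one, mul_one, mul_one] at h1
  have h3 := sub_mem (h a ha) (mul_mem ha h1)
  rw [show x * σ a - σ x * a - a * (x - σ x) = x * (σ a - a) by ring] at h3
  have h4 := div_mem h3 (sub_mem (D.sig a ha) ha)
  rwa [mul_div_cancel_right₀ _ (sub_ne_zero.2 hne)] at h4

theorem span : Span3 u v e := by
  refine span3_of_indep fun l m n h => ?_
  have h1 := congrArg (f · v) h
  have h2 := congrArg (f · u) h
  have h3 := congrArg (f · e) h
  simp only [D.add_left, D.smul_left, D.zero_left, D.uu, D.vv, D.uv, D.vu, D.ue, D.eu, D.ve, D.ev,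
    mul_zero, mul_one, add_zero, zero_add, mul_eq_zero, D.ee, or_false] at h1 h2 h3
  exact ⟨h1, h2, h3⟩

theorem expand (x : Fin 3 → F) : x = f x v • u + f x u • v + (f x e / f e e) • e := by
  obtain ⟨l, m, n, rfl⟩ := D.span x
  simp only [D.add_left, D.smul_left, D.uu, D.vv, D.uv, D.vu, D.ue, D.eu, D.ve, D.ev, mul_zero, mul_one,
    add_zero, zero_add, mul_div_cancel_right₀ _ D.ee]

theorem ext_frame {g h : GL (Fin 3) F} (h1 : ap g u = ap h u) (h2 : ap g v = ap h v) (h3 : ap g e = ap h e) :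
    g = h := ap_ext fun x => by
  rw [D.expand x]; simp only [ap_add, ap_smul, h1, h2, h3]

theorem isom_of_frame {g : GL (Fin 3) F} {a b c : Fin 3 → F} (ha : ap g u = a) (hb : ap g v = b) (hc : ap g e = c)
    (haa : f a a = 0) (hbb : f b b = 0) (hab : f a b = 1) (hac : f a c = 0) (hbc : f b c = 0)
    (hcc : f c c = f e e) : Isom f g := fun x y => by
  have hba : f b a = 1 := by rw [D.form.herm, hab, map_one]
  rw [D.expand x, D.expand y]
  simp only [ap_add, ap_smul, ha, hb, hc, D.add_left, D.add_right, D.smul_left, D.smul_right, haa, hbb, hab, hba,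
    hac, hbc, hcc, D.perp_symm hac, D.perp_symm hbc, D.uu, D.vv, D.uv, D.vu, D.ue, D.eu, D.ve, D.ev]

/-- linear maps with given values on the frame -/
theorem exists_lin {a b c : Fin 3 → F} (haa : f a a = 0) (hbb : f b b = 0) (hab : f a b = 1) (hac : f a c = 0)
    (hbc : f b c = 0) (hcc : f c c = f e e) :
    ∃ g : GL (Fin 3) F, Isom f g ∧ ap g u = a ∧ ap g v = b ∧ ap g e = c := by
  obtain ⟨G, hG⟩ : ∃ G : Matrix (Fin 3) (Fin 3) F, G = vecMulVec a (hDual f v) + vecMulVec b (hDual f u) +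
      vecMulVec ((f e e)⁻¹ • c) (hDual f e) := ⟨_, rfl⟩
  have hap : ∀ x, G *ᵥ x = f x v • a + f x u • b + (f x e / f e e) • c := fun x => by
    rw [hG, add_mulVec, add_mulVec, vecMulVec_mulVec, vecMulVec_mulVec, vecMulVec_mulVec, hDual_dot D.form,
      hDual_dot D.form, hDual_dot D.form]
    simp only [op_smul_eq_smul, smul_smul, div_eq_mul_inv]
  have hu : G *ᵥ u = a := by rw [hap, D.uu, D.uv, D.ue, zero_div]; simp
  have hv : G *ᵥ v = b := by rw [hap, D.vu, D.vv, D.ve, zero_div]; simp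
  have he : G *ᵥ e = c := by rw [hap, D.eu, D.ev, div_self D.ee]; simp
  have hd : G.det ≠ 0 := fun h0 => by
    obtain ⟨x, hx, hGx⟩ := Matrix.exists_mulVec_eq_zero_iff.2 h0
    apply hx
    have hba : f b a = 1 := by rw [D.form.herm, hab, map_one]
    have e1 := congrArg (f · b) hGx
    have e2 := congrArg (f · a) hGx
    have e3 := congrArg (f · c) hGx
    simp only [hap, D.add_left, D.smul_left, D.zero_left, haa, hbb, hab, hba, hac, hbc, hcc, D.perp_symm hac,
      D.perp_symm hbc, mul_zero, mul_one, add_zero, zero_add, div_mul_cancel₀ _ D.ee] at e1 e2 e3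
    rw [D.expand x, e1, e2, e3]; simp
  exact ⟨Matrix.GeneralLinearGroup.mkOfDetNeZero G hd,
    D.isom_of_frame (g := Matrix.GeneralLinearGroup.mkOfDetNeZero G hd) hu hv he haa hbb hab hac hbc hcc, hu, hv, he⟩

/-- the determinant from the coordinates in the frame -/
theorem det_of_frame {G : Matrix (Fin 3) (Fin 3) F} {A : Matrix (Fin 3) (Fin 3) F}
    (h : ∀ j, G *ᵥ ![u, v, e] j = A 0 j • u + A 1 j • v + A 2 j • e) : G.det = A.det := by
  obtain ⟨B, hB⟩ : ∃ B : Matrix (Fin 3) (Fin 3) F, B = Matrix.of fun i j => ![u, v, e] j i := ⟨_, rfl⟩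
  obtain ⟨L, hL⟩ : ∃ L : Matrix (Fin 3) (Fin 3) F,
      ∀ i, L i = ![hDual f v, hDual f u, (f e e)⁻¹ • hDual f e] i :=
    ⟨Matrix.of ![hDual f v, hDual f u, (f e e)⁻¹ • hDual f e], fun _ => rfl⟩
  have hBj : ∀ j i, B i j = ![u, v, e] j i := fun j i => by rw [hB, of_apply]
  have hLB : L * B = 1 := by
    have : ∀ i j, (L * B) i j = L i ⬝ᵥ ![u, v, e] j := fun i j => by
      simp only [Matrix.mul_apply, dotProduct, hBj]
    ext i j
    rw [this, hL]
    fin_cases i <;> fin_cases j <;>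
      simp [of_apply, smul_dotProduct, hDual_dot D.form, D.uu, D.vv, D.uv, D.vu, D.ue, D.eu, D.ve, D.ev, D.ee]
  have hGB : G * B = B * A := by
    ext i j
    have := congrFun (h j) i
    simp only [mulVec, dotProduct, Pi.add_apply, Pi.smul_apply, smul_eq_mul] at this
    rw [Matrix.mul_apply, Matrix.mul_apply, Fin.sum_univ_three (f := fun k => B i k * A k j)]
    simp only [hBj]
    rw [this]
    simp only [Matrix.cons_val]
    ring
  have h1 := congrArg Matrix.det hGB
  rw [det_mul, det_mul] at h1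
  have hB0 : B.det ≠ 0 := fun e0 => by
    have := congrArg Matrix.det hLB
    rw [det_mul, e0, mul_zero, det_one] at this
    exact zero_ne_one this
  exact mul_right_cancel₀ hB0 (h1.trans (mul_comm _ _))

/-! ### rational vectors -/

theorem rt_u : Rt f F₀ u v e u := ⟨by rw [D.uu]; exact zero_mem _, by rw [D.uv]; exact one_mem _,
  by rw [D.ue]; exact zero_mem _⟩

theorem rt_v : Rt f F₀ u v e v := ⟨by rw [D.vu]; exact one_mem _, by rw [D.vv]; exact zero_mem _,
  by rw [D.ve]; exact zero_mem _⟩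

theorem rt_e : Rt f F₀ u v e e := ⟨by rw [D.eu]; exact zero_mem _, by rw [D.ev]; exact zero_mem _, D.eeR⟩

theorem rt_add {x y : Fin 3 → F} (hx : Rt f F₀ u v e x) (hy : Rt f F₀ u v e y) : Rt f F₀ u v e (x + y) :=
  ⟨by rw [D.add_left]; exact add_mem hx.1 hy.1, by rw [D.add_left]; exact add_mem hx.2.1 hy.2.1,
    by rw [D.add_left]; exact add_mem hx.2.2 hy.2.2⟩

theorem rt_sub {x y : Fin 3 → F} (hx : Rt f F₀ u v e x) (hy : Rt f F₀ u v e y) : Rt f F₀ u v e (x - y) :=
  ⟨by rw [D.sub_left]; exact sub_mem hx.1 hy.1, by rw [D.sub_left]; exact sub_mem hx.2.1 hy.2.1,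
    by rw [D.sub_left]; exact sub_mem hx.2.2 hy.2.2⟩

theorem rt_smul {x : Fin 3 → F} {c : F} (hc : c ∈ F₀) (hx : Rt f F₀ u v e x) : Rt f F₀ u v e (c • x) :=
  ⟨by rw [D.smul_left]; exact mul_mem hc hx.1, by rw [D.smul_left]; exact mul_mem hc hx.2.1,
    by rw [D.smul_left]; exact mul_mem hc hx.2.2⟩

theorem rt_form {x y : Fin 3 → F} (hx : Rt f F₀ u v e x) (hy : Rt f F₀ u v e y) : f x y ∈ F₀ := by
  rw [D.expand y, D.add_right, D.add_right, D.smul_right, D.smul_right, D.smul_right]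
  exact add_mem (add_mem (mul_mem (D.sig _ hy.2.1) hx.1) (mul_mem (D.sig _ hy.1) hx.2.1))
    (mul_mem (D.sig _ (div_mem hy.2.2 D.eeR)) hx.2.2)

theorem rat_of_frame {g : GL (Fin 3) F} (h1 : Rt f F₀ u v e (ap g u)) (h2 : Rt f F₀ u v e (ap g v))
    (h3 : Rt f F₀ u v e (ap g e)) : Rat f F₀ u v e g := fun x hx => by
  rw [D.expand x, ap_add, ap_add, ap_smul, ap_smul, ap_smul]
  exact D.rt_add (D.rt_add (D.rt_smul hx.2.1 h1) (D.rt_smul hx.1 h2)) (D.rt_smul (div_mem hx.2.2 D.eeR) h3)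

theorem com_of_frame {g : GL (Fin 3) F} {c : F} (hc : c ≠ 0) (h1 : Rt f F₀ u v e (c • ap g u))
    (h2 : Rt f F₀ u v e (c • ap g v)) (h3 : Rt f F₀ u v e (c • ap g e)) : Com f F₀ u v e g :=
  ⟨c, hc, fun x hx => by
    rw [D.expand x, ap_add, ap_add, ap_smul, ap_smul, ap_smul, smul_add, smul_add, smul_comm c, smul_comm c,
      smul_comm c]
    exact D.rt_add (D.rt_add (D.rt_smul hx.2.1 h1) (D.rt_smul hx.1 h2)) (D.rt_smul (div_mem hx.2.2 D.eeR) h3)⟩

theorem com_one : Com f F₀ u v e 1 := ⟨1, one_ne_zero, fun x hx => by rwa [one_smul, ap_one]⟩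

theorem com_of_rat {g : GL (Fin 3) F} (h : Rat f F₀ u v e g) : Com f F₀ u v e g :=
  ⟨1, one_ne_zero, fun x hx => by rw [one_smul]; exact h x hx⟩

theorem com_mul {g h : GL (Fin 3) F} (hg : Com f F₀ u v e g) (hh : Com f F₀ u v e h) : Com f F₀ u v e (g * h) := by
  obtain ⟨c, hc, hg⟩ := hg
  obtain ⟨d, hd, hh⟩ := hh
  refine ⟨c * d, mul_ne_zero hc hd, fun x hx => ?_⟩
  have := hg _ (hh x hx)
  rwa [ap_smul, smul_smul, ← ap_mul] at this

theorem com_inv {g : GL (Fin 3) F} (hg : Com f F₀ u v e g) : Com f F₀ u v e g⁻¹ := by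
  have : g⁻¹ = g ^ (orderOf g - 1) := by
    refine inv_eq_of_mul_eq_one_right ?_
    rw [← pow_succ', Nat.sub_add_cancel (orderOf_pos g), pow_orderOf_eq_one]
  rw [this]
  generalize orderOf g - 1 = n
  induction n with
  | zero => rw [pow_zero]; exact D.com_one
  | succ n ih => rw [pow_succ]; exact D.com_mul ih hg

/-! ### unipotent elements -/

theorem isE_mul {g g' : GL (Fin 3) F} {w y y' : Fin 3 → F} {s s' : F} (h : IsE f g w y s) (h' : IsE f g' w y' s')
    (hww : f w w = 0) (hwy : f w y = 0) (hyw : f y' w = 0) : IsE f (g * g') w (y + y') (s + s' - f y' y) :=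
  fun x => by
  rw [ap_mul, h, h']
  simp only [D.add_left, D.add_right, D.smul_left, hww, hwy, hyw, mul_zero, add_zero]
  module

theorem isE_scale {g : GL (Fin 3) F} {w y : Fin 3 → F} {l s : F} (h : IsE f g (l • w) y s) :
    IsE f g w (σ l • y) (l * σ l * s) := fun x => by
  rw [h, D.smul_right, D.smul_right, D.ss]
  module

theorem isE_shift {g : GL (Fin 3) F} {w y : Fin 3 → F} {r s : F} (h : IsE f g w (y + r • w) s) :
    IsE f g w y (s + r - σ r) := fun x => by
  rw [h, D.add_right, D.smul_right]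
  module

theorem isE_frame {g : GL (Fin 3) F} {l S : F} (hgu : ap g u = u) (hgv : ap g v = v + l • e + S • u)
    (hge : ap g e = e - (σ l * f e e) • u) : IsE f g u (l • e) S := fun x => by
  conv_lhs => rw [D.expand x]
  conv_rhs => arg 1; arg 1; rw [D.expand x]
  simp only [ap_add, ap_smul, hgu, hgv, hge, D.smul_right]
  have := D.ee
  match_scalars <;> field_simp <;> ring

/-- the unipotent elements fixing `u` -/
theorem exists_E {l S : F} (hS : S + σ S = -(l * σ l * f e e)) :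
    ∃ g, InS f g ∧ IsE f g u (l • e) S ∧ (l ∈ F₀ → S ∈ F₀ → Rat f F₀ u v e g) := by
  obtain ⟨g, hg, h1, h2, h3⟩ := D.exists_lin (a := u) (b := v + l • e + S • u) (c := e - (σ l * f e e) • u) D.uu
    (by
      simp only [D.add_left, D.add_right, D.smul_left, D.smul_right, D.uu, D.vv, D.uv, D.vu, D.ue, D.eu, D.ve, D.ev]
      linear_combination hS)
    (by simp only [D.add_right, D.smul_right, D.uu, D.uv, D.ue]; ring)
    (by simp only [D.sub_right, D.smul_right, D.uu, D.ue]; ring)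
    (by
      simp only [D.add_left, D.sub_right, D.smul_left, D.smul_right, D.uu, D.uv, D.vu, D.ue, D.eu, D.ve, D.ev,
        map_mul, D.ss, D.ee_fix]
      ring)
    (by simp only [D.sub_left, D.sub_right, D.smul_left, D.smul_right, D.uu, D.ue, D.eu]; ring)
  refine ⟨g, ⟨hg, ?_⟩, D.isE_frame h1 h2 h3, fun hl hS' => ?_⟩
  · rw [D.det_of_frame (G := (g : Matrix (Fin 3) (Fin 3) F))
      (A := !![1, S, -(σ l * f e e); 0, 1, 0; 0, l, 1]) (fun j => by
        fin_cases j
        · show ap g u = _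
          rw [h1]; simp
        · show ap g v = _
          rw [h2]; simp; module
        · show ap g e = _
          rw [h3]; simp; module)]
    rw [Matrix.det_fin_three]
    simp
  · refine D.rat_of_frame (h1.symm ▸ D.rt_u) ?_ ?_
    · rw [h2]; exact D.rt_add (D.rt_add D.rt_v (D.rt_smul hl D.rt_e)) (D.rt_smul hS' D.rt_u)
    · rw [h3]; exact D.rt_sub D.rt_e (D.rt_smul (mul_mem (D.sig _ hl) D.eeR) D.rt_u)

/-- the transvections with centre `u` -/
theorem exists_T {k : F} (hk : k + σ k = 0) :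
    ∃ g, InS f g ∧ IsE f g u 0 k ∧ (k ∈ F₀ → Rat f F₀ u v e g) := by
  obtain ⟨g, h1, h2, h3⟩ := D.exists_E (l := 0) (S := k) (by rw [hk]; ring)
  rw [zero_smul] at h2
  exact ⟨g, h1, h2, h3 (zero_mem _)⟩

theorem trace_of_isE {g : GL (Fin 3) F} {k : F} (h : IsE f g u 0 k) (hg : Isom f g) : k + σ k = 0 := by
  have e1 := hg v v
  rw [h, D.zero_right, D.vu, smul_zero, add_zero, sub_zero, mul_one] at e1
  simp only [D.add_left, D.add_right, D.smul_left, D.smul_right, D.uu, D.vv, D.uv, D.vu] at e1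
  linear_combination e1

/-! ### frames -/

/-- orthogonal isotropic vectors are proportional -/
theorem mem_span_of_orth {p y : Fin 3 → F} (hp0 : p ≠ 0) (hp : f p p = 0) (hy : f y y = 0) (hpy : f p y = 0) :
    ∃ l : F, y = l • p := by
  by_contra hno
  push Not at hno
  have hind : LinearIndependent F ![p, y] := (LinearIndependent.pair_iff' hp0).2 fun a ha => hno a ha.symm
  obtain ⟨z, hz, hzz⟩ := exists_anisotropic D.form (U := Submodule.span F (Set.range ![p, y])) (by
    rw [finrank_span_eq_card hind]; simp)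
  rw [Matrix.range_cons_cons_empty, Submodule.mem_span_pair] at hz
  obtain ⟨a, b, rfl⟩ := hz
  apply hzz
  simp only [D.add_left, D.add_right, D.smul_left, D.smul_right, hp, hy, hpy, D.perp_symm hpy, mul_zero, add_zero]

/-- every rational isotropic vector starts a rational frame -/
theorem exists_frame {p : Fin 3 → F} (hp : Rt f F₀ u v e p) (hp0 : p ≠ 0) (hpp : f p p = 0) :
    ∃ b c, Rt f F₀ u v e b ∧ Rt f F₀ u v e c ∧ f b b = 0 ∧ f p b = 1 ∧ f p c = 0 ∧ f b c = 0 ∧
      f c c = f e e := by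
  obtain ⟨z, hz, hzp⟩ : ∃ z, Rt f F₀ u v e z ∧ f p z ≠ 0 := by
    by_contra hno
    push Not at hno
    apply hp0
    rw [D.expand p, hno u D.rt_u, hno v D.rt_v, hno e D.rt_e]; simp
  obtain ⟨z', hz'⟩ : ∃ z', z' = (σ (f p z))⁻¹ • z := ⟨_, rfl⟩
  have hz'R : Rt f F₀ u v e z' := hz' ▸ D.rt_smul (inv_mem (D.sig _ (D.rt_form hp hz))) hz
  have hpz : f p z' = 1 := by rw [hz', D.smul_right, map_inv₀, D.ss, inv_mul_cancel₀ hzp]
  have hzp' : f z' p = 1 := by rw [D.form.herm, hpz, map_one]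
  obtain ⟨s, hsR, hs⟩ := D.trace_onto (-f z' z') (neg_mem (D.rt_form hz'R hz'R))
    (by rw [map_neg, herm_self_fixed D.form])
  obtain ⟨b, hb⟩ : ∃ b, b = z' + s • p := ⟨_, rfl⟩
  have hbR : Rt f F₀ u v e b := hb ▸ D.rt_add hz'R (D.rt_smul hsR hp)
  have hbb : f b b = 0 := by
    simp only [hb, D.add_left, D.add_right, D.smul_left, D.smul_right, hpp, hpz, hzp']
    linear_combination hs
  have hpb : f p b = 1 := by rw [hb, D.add_right, D.smul_right, hpp, hpz, mul_zero, add_zero]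
  have hbp : f b p = 1 := by rw [D.form.herm, hpb, map_one]
  obtain ⟨y, hyP, hy0⟩ := (hPerp D.form (Submodule.span F (Set.range ![p, b]))).exists_mem_ne_zero_of_ne_bot
    (fun h => by
      have h1 := finrank_le_finrank_hPerp_add D.form (Submodule.span F (Set.range ![p, b]))
      have h2 : Module.finrank F (Submodule.span F (Set.range ![p, b])) ≤ 2 := by
        simpa [Set.finrank] using finrank_range_le_card (R := F) ![p, b]
      rw [h, finrank_bot] at h1
      omega)
  have hyp : f y p = 0 := hyP p (Submodule.subset_span ⟨0, rfl⟩)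
  have hyb : f y b = 0 := hyP b (Submodule.subset_span ⟨1, rfl⟩)
  obtain ⟨x, hx, hxy⟩ : ∃ x, Rt f F₀ u v e x ∧ f y x ≠ 0 := by
    by_contra hno
    push Not at hno
    apply hy0
    rw [D.expand y, hno u D.rt_u, hno v D.rt_v, hno e D.rt_e]; simp
  obtain ⟨c, hc⟩ : ∃ c, c = x - f x b • p - f x p • b := ⟨_, rfl⟩
  have hcR : Rt f F₀ u v e c :=
    hc ▸ D.rt_sub (D.rt_sub hx (D.rt_smul (D.rt_form hx hbR) hp)) (D.rt_smul (D.rt_form hx hp) hbR)
  have hcp : f c p = 0 := by
    simp only [hc, D.sub_left, D.smul_left, hpp, hbp]; ring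
  have hcb : f c b = 0 := by
    simp only [hc, D.sub_left, D.smul_left, hpb, hbb]; ring
  have hcy : f y c = f y x := by
    simp only [hc, D.sub_right, D.smul_right, hyp, hyb]; ring
  have hcc : f c c ≠ 0 := fun h => by
    obtain ⟨l, rfl⟩ := D.mem_span_of_orth hp0 hpp h (D.perp_symm hcp)
    rw [D.smul_right, hyp, mul_zero] at hcy
    exact hxy hcy.symm
  obtain ⟨n, hnR, hn⟩ := D.norm_onto (f e e / f c c) (div_mem D.eeR (D.rt_form hcR hcR))
    (by rw [map_div₀, D.ee_fix, herm_self_fixed D.form])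
  refine ⟨b, n • c, hbR, D.rt_smul hnR hcR, hbb, hpb, by rw [D.smul_right, D.perp_symm hcp, mul_zero],
    by rw [D.smul_right, D.perp_symm hcb, mul_zero], ?_⟩
  rw [D.smul_left, D.smul_right, ← mul_assoc, hn, div_mul_cancel₀ _ hcc]

/-- rational elements carry the frame to every rational frame -/
theorem exists_map {a b c : Fin 3 → F} (ha : Rt f F₀ u v e a) (hb : Rt f F₀ u v e b) (hc : Rt f F₀ u v e c)
    (haa : f a a = 0) (hbb : f b b = 0) (hab : f a b = 1) (hac : f a c = 0) (hbc : f b c = 0)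
    (hcc : f c c = f e e) :
    ∃ g, InS f g ∧ Rat f F₀ u v e g ∧ ap g u = a ∧ ap g v = b ∧ ∃ l : F, ap g e = l • c := by
  obtain ⟨A, hA⟩ : ∃ A : Matrix (Fin 3) (Fin 3) F, A = Matrix.of ![fun j => f (![a, b, c] j) v,
      fun j => f (![a, b, c] j) u, fun j => f (![a, b, c] j) e / f e e] := ⟨_, rfl⟩
  obtain ⟨g, hg, h1, h2, h3⟩ := D.exists_lin haa hbb hab hac hbc hcc
  have hd : (g : Matrix (Fin 3) (Fin 3) F).det = A.det := D.det_of_frame fun j => by
    have e1 : (g : Matrix (Fin 3) (Fin 3) F) *ᵥ ![u, v, e] j = ![a, b, c] j := by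
      fin_cases j
      · exact h1
      · exact h2
      · exact h3
    rw [e1, hA]
    exact D.expand (![a, b, c] j)
  have hR : ∀ j, Rt f F₀ u v e (![a, b, c] j) := fun j => by fin_cases j <;> assumption
  have hmem : ∀ i j, A i j ∈ F₀ := fun i j => by
    rw [hA]; fin_cases i
    · exact (hR j).2.1
    · exact (hR j).1
    · exact div_mem (hR j).2.2 D.eeR
  obtain ⟨δ, hδ⟩ : ∃ δ, δ = (g : Matrix (Fin 3) (Fin 3) F).det := ⟨_, rfl⟩
  have hδR : δ ∈ F₀ := by
    rw [hδ, hd, Matrix.det_fin_three]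
    exact sub_mem (add_mem (add_mem (sub_mem (sub_mem (mul_mem (mul_mem (hmem _ _) (hmem _ _)) (hmem _ _))
      (mul_mem (mul_mem (hmem _ _) (hmem _ _)) (hmem _ _))) (mul_mem (mul_mem (hmem _ _) (hmem _ _)) (hmem _ _)))
      (mul_mem (mul_mem (hmem _ _) (hmem _ _)) (hmem _ _))) (mul_mem (mul_mem (hmem _ _) (hmem _ _)) (hmem _ _)))
      (mul_mem (mul_mem (hmem _ _) (hmem _ _)) (hmem _ _))
  have hN : δ * σ δ = 1 := hδ ▸ D.det_norm g hg
  have hδ0 : δ ≠ 0 := left_ne_zero_of_mul_eq_one hN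
  obtain ⟨h, hh, k1, k2, k3⟩ := D.exists_lin (a := a) (b := b) (c := δ⁻¹ • c) haa hbb hab
    (by rw [D.smul_right, hac, mul_zero]) (by rw [D.smul_right, hbc, mul_zero])
    (by rw [D.smul_left, D.smul_right, hcc, ← mul_assoc, map_inv₀, ← mul_inv, hN, inv_one, one_mul])
  obtain ⟨A', hA'⟩ : ∃ A' : Matrix (Fin 3) (Fin 3) F, A' = A.updateCol 2 (δ⁻¹ • fun i => A i 2) := ⟨_, rfl⟩
  have hd' : (h : Matrix (Fin 3) (Fin 3) F).det = A'.det := D.det_of_frame fun j => by
    have e1 : (h : Matrix (Fin 3) (Fin 3) F) *ᵥ ![u, v, e] j = ![a, b, δ⁻¹ • c] j := by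
      fin_cases j
      · exact k1
      · exact k2
      · exact k3
    rw [e1]
    fin_cases j
    · simpa [hA', hA] using D.expand a
    · simpa [hA', hA] using D.expand b
    · have h5 := congrArg (δ⁻¹ • ·) (D.expand c)
      simp only [smul_add, smul_smul] at h5
      simpa [hA', hA] using h5
  refine ⟨h, ⟨hh, ?_⟩, D.rat_of_frame (k1.symm ▸ ha) (k2.symm ▸ hb) (k3.symm ▸ D.rt_smul (inv_mem hδR) hc),
    k1, k2, δ⁻¹, k3⟩
  rw [hd', hA', det_updateCol_smul, updateCol_eq_self, ← hd, ← hδ,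
    inv_mul_cancel₀ hδ0]

end Dat

end CfsgLib.MaxSub.SuThree.SubF
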