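import Cfsg.Agent.Lib.MaxSub.SuThree.SubfieldTwo

/-!
An overgroup of a subfield group of odd index in dimension three is rational or contains three full points.
-/

set_option autoImplicit false
set_option linter.unusedSectionVars false
set_option linter.unusedSimpArgs false
set_option linter.style.haveILetI false

namespace CfsgLib.MaxSub.SuThree.SubF

open Matrix CfsgLib.MaxSub
open CfsgLib.MaxSub.SuThree.Orth (ap ap_mul ap_one ap_inv inv_ap ap_ext ap_add ap_sub ap_smul ap_ne_zero Isom InS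
  IsE Span3 span3_of_indep)
open scoped MatrixGroups

variable {F : Type*} [Field F] [Fintype F]
variable {σ : F ≃+* F} {f : (Fin 3 → F) → (Fin 3 → F) → F} {F₀ : Subfield F} {u v e : Fin 3 → F}

namespace Dat

variable (D : Dat σ f F₀ u v e)
include D

/-- in odd characteristic the norms of the pairings are rational -/
theorem norm_mem (h2 : (2 : F) ≠ 0) {M : Subgroup (GL (Fin 3) F)} (S : Sub f F₀ u v e M) (hno : NoTv f F₀ M u)
    {g : GL (Fin 3) F} (hg : g ∈ M) :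
    f u (ap g u) * σ (f u (ap g u)) ∈ F₀ ∧ (f u (ap g u) ≠ 0 →
      ∃ m ∈ M, ap m u = -u ∧ ap m (ap g u) = -ap g u ∧ ∀ z, f z u = 0 → f z (ap g u) = 0 → ap m z = z) := by
  have hgI := (S.ins g hg).1
  obtain ⟨θ, hθR, hθ0, hθ⟩ := D.exists_theta
  obtain ⟨T, hTs, hT, hTr⟩ := D.exists_T (k := θ) (by rw [hθ, add_neg_cancel])
  have hTM := D.mem_rat S hTs (hTr hθR)
  by_cases hb : f u (ap g u) = 0
  · exact ⟨by rw [hb, zero_mul]; exact zero_mem _, fun h => absurd hb h⟩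
  obtain ⟨hm, h⟩ := D.pair_odd h2 (by rw [hgI, D.uu]) hb hθ0 hθ0 hTM (mul_mem (mul_mem hg hTM) (inv_mem hg)) hT
    (isE_conj_zero hT hgI)
  have hμ : θ * θ * (f u (ap g u) * σ (f u (ap g u))) ∈ F₀ := by
    rcases h with h | ⟨⟨m, hmM, hmE⟩, -⟩
    · exact h
    · have := div_mem (hno m hmM _ hmE) hθR
      rwa [mul_comm θ, mul_div_cancel_right₀ _ hθ0] at this
  refine ⟨?_, fun _ => hm⟩
  have := div_mem hμ (mul_mem hθR hθR)
  rwa [mul_comm (θ * θ), mul_div_cancel_right₀ _ (mul_ne_zero hθ0 hθ0)] at this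

/-- odd characteristic -/
theorem com_odd (h2 : (2 : F) ≠ 0) {M : Subgroup (GL (Fin 3) F)} (S : Sub f F₀ u v e M) (hno : NoTv f F₀ M u)
    {g : GL (Fin 3) F} (hg : g ∈ M) : Com f F₀ u v e g := by
  have hgI := (S.ins g hg).1
  obtain ⟨w, hw⟩ : ∃ w, w = ap g u := ⟨_, rfl⟩
  have hww : f w w = 0 := by rw [hw, hgI, D.uu]
  by_cases hb : f u w = 0
  · obtain ⟨l, hl⟩ := D.mem_span_of_orth D.u_ne D.uu hww hb
    exact D.com_of_fix S hno hg (hw ▸ hl)
  obtain ⟨hN, hm⟩ := D.norm_mem h2 S hno hg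
  rw [← hw] at hN hm
  obtain ⟨m, hmM, hmu, hmw, hmz⟩ := hm hb
  obtain ⟨b, hbd⟩ : ∃ b, b = f u w := ⟨_, rfl⟩
  rw [← hbd] at hN hb
  have hwu : f w u = σ b := by rw [D.form.herm, ← hbd]
  obtain ⟨α, hα⟩ : ∃ α, α = f e w / b := ⟨_, rfl⟩
  have hz : ap m (e - α • u) = e - α • u := hmz _
    (by rw [D.sub_left, D.smul_left, D.eu, D.uu, mul_zero, sub_zero])
    (by rw [D.sub_left, D.smul_left, ← hbd, hα, div_mul_cancel₀ _ hb, sub_self])
  obtain ⟨c, hc, hcm⟩ := D.com_of_fix S hno hmM (t := -1) (by rw [hmu, neg_one_smul])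
  have hme : ap m e = e - (2 * α) • u := by
    have h := hz
    rw [ap_sub, ap_smul, hmu, sub_eq_iff_eq_add] at h
    rw [h]
    module
  have hcR : c ∈ F₀ := by
    have h := (hcm u D.rt_u).2.1
    rw [hmu, D.smul_left, D.neg_left, D.uv, mul_neg, mul_one] at h
    simpa using neg_mem h
  have hαR : α ∈ F₀ := by
    have h := (hcm e D.rt_e).2.1
    rw [hme, D.smul_left, D.sub_left, D.smul_left, D.ev, D.uv, zero_sub, mul_one] at h
    have h' := div_mem (neg_mem h) (mul_mem hcR (ofNat_mem F₀ 2))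
    rwa [show -(c * -(2 * α)) = α * (c * 2) by ring, mul_div_cancel_right₀ _ (mul_ne_zero hc h2)] at h'
  obtain ⟨W, hWs, hWr, hWu, hWv⟩ := D.exists_swap
  have hN' : f v w * σ (f v w) ∈ F₀ := by
    have h := (D.norm_mem h2 S hno (mul_mem (inv_mem (D.mem_rat S hWs hWr)) hg)).1
    have e1 : f u (ap (W⁻¹ * g) u) = f v w := by
      rw [ap_mul, ← hw, ← hWs.1, hWu, ap_inv]
    rwa [e1] at h
  refine D.com_of_point S hno hg (inv_ne_zero ((map_ne_zero σ).2 hb)) ?_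
  rw [← hw]
  have hσb : σ b ≠ 0 := (map_ne_zero σ).2 hb
  obtain ⟨w', hw'⟩ : ∃ w', w' = (σ b)⁻¹ • w := ⟨_, rfl⟩
  rw [← hw']
  have h1 : f w' u = 1 := by rw [hw', D.smul_left, hwu, inv_mul_cancel₀ hσb]
  have h3 : f w' e = σ α := by
    rw [hw', D.smul_left, D.form.herm w e, hα, map_div₀, inv_mul_eq_div]
  obtain ⟨ν, hν⟩ : ∃ ν, ν = f w' v := ⟨_, rfl⟩
  have hn : ν * σ ν ∈ F₀ := by
    have h := div_mem hN' hN
    rw [hν, hw', D.smul_left, D.form.herm w v, map_mul, map_inv₀, D.ss, D.ss]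
    rwa [show f v w * σ (f v w) / (b * σ b) = (σ b)⁻¹ * σ (f v w) * (b⁻¹ * f v w) by field_simp] at h
  have htr : ν + σ ν + σ α * α / f e e = 0 := by
    have h : f w' w' = 0 := by rw [hw', D.smul_left, D.smul_right, hww, mul_zero, mul_zero]
    rw [D.expand w', h1, h3, ← hν] at h
    simp only [D.add_left, D.add_right, D.smul_left, D.smul_right, D.uu, D.vv, D.uv, D.vu, D.ue, D.eu, D.ve, D.ev,
      map_one, map_div₀, D.ss, D.ee_fix, mul_zero, mul_one, add_zero, zero_add, one_mul] at h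
    have := D.ee
    rw [← h]
    field_simp
  have hνR : ν ∈ F₀ := D.quad ν (ν + σ ν) (-(ν * σ ν))
    (by rw [eq_neg_of_add_eq_zero_left htr]; exact neg_mem (div_mem (mul_mem (D.sig _ hαR) hαR) D.eeR))
    (neg_mem hn) (by ring)
  exact ⟨h1 ▸ one_mem _, hν ▸ hνR, h3 ▸ D.sig _ hαR⟩

/-- characteristic two with more than two fixed elements -/
theorem com_even (h2 : (2 : F) = 0) {κ : F} (hκR : κ ∈ F₀) (hκσ : σ κ = κ) (hκ0 : κ ≠ 0) (hκ1 : κ ≠ 1)
    {M : Subgroup (GL (Fin 3) F)} (S : Sub f F₀ u v e M) (hno : NoTv f F₀ M u)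
    {g : GL (Fin 3) F} (hg : g ∈ M) : Com f F₀ u v e g := by
  have hgI := (S.ins g hg).1
  obtain ⟨w, hw⟩ : ∃ w, w = ap g u := ⟨_, rfl⟩
  have hww : f w w = 0 := by rw [hw, hgI, D.uu]
  by_cases hb : f u w = 0
  · obtain ⟨l, hl⟩ := D.mem_span_of_orth D.u_ne D.uu hww hb
    exact D.com_of_fix S hno hg (hw ▸ hl)
  obtain ⟨T₁, hT₁s, hT₁, hT₁r⟩ := D.exists_T (k := 1) (by rw [map_one]; linear_combination h2)
  obtain ⟨T₂, hT₂s, hT₂, hT₂r⟩ := D.exists_T (k := κ) (by rw [hκσ]; linear_combination κ * h2)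
  have hT₁M := D.mem_rat S hT₁s (hT₁r (one_mem _))
  have hT' : IsE f (g * T₁ * g⁻¹) w 0 1 := hw ▸ isE_conj_zero hT₁ hgI
  have hT'M : g * T₁ * g⁻¹ ∈ M := mul_mem (mul_mem hg hT₁M) (inv_mem hg)
  obtain ⟨j₁, hj₁, c₁, hc₁, hu₁, hw₁, hk₁, hz₁⟩ :=
    D.pair_even h2 S.ins hww hb one_ne_zero one_ne_zero hT₁M hT'M hT₁ hT'
  obtain ⟨j₂, hj₂, c₂, hc₂, hu₂, hw₂, hk₂, hz₂⟩ :=
    D.pair_even h2 S.ins hww hb hκ0 one_ne_zero (D.mem_rat S hT₂s (hT₂r hκR)) hT'M hT₂ hT'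
  obtain ⟨h, hh⟩ : ∃ h, h = j₁ * j₂ := ⟨_, rfl⟩
  obtain ⟨l, hl⟩ : ∃ l, l = c₂ / c₁ := ⟨_, rfl⟩
  have hhu : ap h u = l • u := by rw [hh, ap_mul, hu₂, ap_smul, hw₁, smul_smul, ← div_eq_mul_inv, hl]
  have hhw : ap h w = l⁻¹ • w := by
    rw [hh, ap_mul, hw₂, ap_smul, hu₁, smul_smul, inv_mul_eq_div, hl, inv_div]
  obtain ⟨b, hbd⟩ : ∃ b, b = f u w := ⟨_, rfl⟩
  rw [← hbd] at hb
  obtain ⟨α, hα⟩ : ∃ α, α = f e w / b := ⟨_, rfl⟩
  have hz : ap h (e - α • u) = e - α • u := by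
    have q1 : f (e - α • u) u = 0 := by rw [D.sub_left, D.smul_left, D.eu, D.uu, mul_zero, sub_zero]
    have q2 : f (e - α • u) w = 0 := by
      rw [D.sub_left, D.smul_left, ← hbd, hα, div_mul_cancel₀ _ hb, sub_self]
    rw [hh, ap_mul, hz₂ _ q1 q2, hz₁ _ q1 q2]
  have hl0 : l ≠ 0 := hl ▸ div_ne_zero hc₂ hc₁
  have hl1 : l ≠ 1 := fun h => by
    rw [hl, div_eq_one_iff_eq hc₁] at h
    rw [h] at hk₂
    rw [mul_one] at hk₁
    rw [← hk₁, one_mul] at hk₂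
    exact hκ1 hk₂.symm
  obtain ⟨c, hc, hcm⟩ := D.com_of_fix S hno (hh ▸ mul_mem hj₁ hj₂) hhu
  have hhe : ap h e = e + (α * (l - 1)) • u := by
    rw [ap_sub, ap_smul, hhu, sub_eq_iff_eq_add] at hz
    rw [hz]; module
  have hcl : c * l ∈ F₀ := by
    have h := (hcm u D.rt_u).2.1
    rwa [hhu, D.smul_left, D.smul_left, D.uv, mul_one] at h
  have hcR : c ∈ F₀ := by
    have h := div_mem (hcm e D.rt_e).2.2 D.eeR
    rwa [hhe, D.smul_left, D.add_left, D.smul_left, D.ue, mul_zero, add_zero, mul_div_cancel_right₀ _ D.ee] at h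
  have hlR : l ∈ F₀ := by
    have h := div_mem hcl hcR
    rwa [mul_comm, mul_div_cancel_right₀ _ hc] at h
  have hαR : α ∈ F₀ := by
    have h := (hcm e D.rt_e).2.1
    rw [hhe, D.smul_left, D.add_left, D.smul_left, D.ev, D.uv, zero_add, mul_one] at h
    have h' := div_mem h (mul_mem hcR (sub_mem hlR (one_mem _)))
    rwa [show c * (α * (l - 1)) = α * (c * (l - 1)) by ring,
      mul_div_cancel_right₀ _ (mul_ne_zero hc (sub_ne_zero.2 hl1))] at h'
  refine D.com_of_point S hno hg (inv_ne_zero ((map_ne_zero σ).2 hb)) ?_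
  rw [← hw]
  have hσb : σ b ≠ 0 := (map_ne_zero σ).2 hb
  have hwu : f w u = σ b := by rw [D.form.herm, ← hbd]
  obtain ⟨w', hw'⟩ : ∃ w', w' = (σ b)⁻¹ • w := ⟨_, rfl⟩
  rw [← hw']
  have h1 : f w' u = 1 := by rw [hw', D.smul_left, hwu, inv_mul_cancel₀ hσb]
  have h3 : f w' e = σ α := by
    rw [hw', D.smul_left, D.form.herm w e, hα, map_div₀, inv_mul_eq_div]
  obtain ⟨ν, hν⟩ : ∃ ν, ν = f w' v := ⟨_, rfl⟩
  have hw'e : w' = ν • u + v + (σ α / f e e) • e := by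
    conv_lhs => rw [D.expand w', h1, h3, ← hν, one_smul]
  have hhw' : ap h w' = l⁻¹ • w' := by rw [hw', ap_smul, hhw, smul_comm]
  have hhv : ap h v = (ν * (l⁻¹ - l) - σ α / f e e * (α * (l - 1))) • u + l⁻¹ • v +
      ((l⁻¹ - 1) * (σ α / f e e)) • e := by
    have h4 := hhw'
    rw [hw'e, ap_add, ap_add, ap_smul, ap_smul, hhu, hhe] at h4
    linear_combination (norm := module) h4
  have hνR : ν ∈ F₀ := by
    have h := div_mem (hcm v D.rt_v).2.1 hcR
    rw [hhv, D.smul_left, mul_comm, mul_div_cancel_right₀ _ hc] at h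
    simp only [D.add_left, D.smul_left, D.uv, D.vv, D.ev, mul_one, mul_zero, add_zero] at h
    have h' := div_mem (add_mem h (mul_mem (div_mem (D.sig _ hαR) D.eeR) (mul_mem hαR (sub_mem hlR (one_mem _)))))
      (sub_mem (inv_mem hlR) hlR)
    rw [sub_add_cancel, mul_div_cancel_right₀] at h'
    · exact h'
    · intro h0
      refine hl1 (sub_eq_zero.1 (mul_self_eq_zero.1 (show (l - 1) * (l - 1) = 0 from ?_)))
      have h5 : l * l = 1 := by
        have := congrArg (l * ·) (sub_eq_zero.1 h0)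
        simpa [mul_inv_cancel₀ hl0] using this.symm
      linear_combination h5 + (1 - l) * h2
  exact ⟨h1 ▸ one_mem _, hν ▸ hνR, h3 ▸ D.sig _ hαR⟩

/-- an overgroup without irrational transvections is rational -/
theorem com_of_noTv {M : Subgroup (GL (Fin 3) F)} (S : Sub f F₀ u v e M) (hno : NoTv f F₀ M u)
    {g : GL (Fin 3) F} (hg : g ∈ M) : Com f F₀ u v e g := by
  by_cases h2 : (2 : F) = 0
  · by_cases hone : ∀ k ∈ F₀, σ k = k → k = 0 ∨ k = 1
    · exact D.com_four h2 hone S hno hg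
    · push Not at hone
      obtain ⟨k, hkR, hkσ, hk0, hk1⟩ := hone
      exact D.com_even h2 hkR hkσ hk0 hk1 S hno hg
  · exact D.com_odd h2 S hno hg

/-- the rational group is proper -/
theorem exists_outside (hx : ∃ x, x ∉ F₀) : ∃ g, InS f g ∧ ¬Com f F₀ u v e g := by
  obtain ⟨θ, hθR, hθ0, hθ⟩ := D.exists_theta
  obtain ⟨a, ha, haσ⟩ := D.moved
  obtain ⟨x, hx⟩ := hx
  obtain ⟨p, hp, hpR⟩ : ∃ p, σ p = p ∧ p ∉ F₀ := by
    by_contra hall
    push Not at hall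
    have hd : a - σ a ≠ 0 := sub_ne_zero.2 (Ne.symm haσ)
    obtain ⟨s, hs⟩ : ∃ s, s = (x - σ x) / (a - σ a) := ⟨_, rfl⟩
    have hsσ : σ s = s := by
      rw [hs, map_div₀, map_sub, map_sub, D.ss, D.ss, ← neg_div_neg_eq, neg_sub, neg_sub]
    have hr : σ (x - s * a) = x - s * a := by
      have h : s * (a - σ a) = x - σ x := by rw [hs, div_mul_cancel₀ _ hd]
      rw [map_sub, map_mul, hsσ]; linear_combination h
    exact hx (by simpa using add_mem (hall _ hr) (mul_mem (hall _ hsσ) ha))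
  obtain ⟨T, hTs, hT, -⟩ := D.exists_T (k := p * θ) (by rw [map_mul, hp, hθ]; ring)
  refine ⟨T, hTs, fun ⟨c, hc, hcT⟩ => hpR ?_⟩
  have hcR : c ∈ F₀ := by
    have h := (hcT u D.rt_u).2.1
    rwa [hT, D.uu, D.zero_right, smul_zero, add_zero, mul_zero, sub_zero, zero_smul, add_zero, D.smul_left, D.uv,
      mul_one] at h
  have h := div_mem (div_mem (hcT v D.rt_v).2.1 hcR) hθR
  rwa [hT, D.vu, D.zero_right, smul_zero, add_zero, mul_one, sub_zero, D.smul_left, D.add_left, D.smul_left, D.vv,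
    D.uv, zero_add, mul_one, mul_comm c, mul_div_cancel_right₀ _ hc, mul_div_cancel_right₀ _ hθ0] at h

/-- an element outside gives three full points -/
theorem full_of_outside {M : Subgroup (GL (Fin 3) F)} (S : Sub f F₀ u v e M) {g : GL (Fin 3) F} (hg : g ∈ M)
    (hgc : ¬Com f F₀ u v e g) :
    ∃ a b c, UFull σ f M a ∧ UFull σ f M b ∧ UFull σ f M c ∧ LinearIndependent F ![a, b, c] :=
  D.full_of_tv S fun hno => hgc (D.com_of_noTv S hno hg)

end Dat

end CfsgLib.MaxSub.SuThree.SubF
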