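import Cfsg.Agent.Lib.MaxSub.SuThree.SubfieldBase
import Cfsg.Agent.S0801
import Cfsg.Agent.Lib.Geom.SL2Anti

/-!
Overgroups of a subfield group: what elements fixing a rational point, pairs of transvections and irrational
transvections give.
-/

set_option autoImplicit false
set_option linter.unusedSectionVars false
set_option linter.unusedSimpArgs false
set_option linter.style.haveILetI false

namespace CfsgLib.MaxSub.SuThree.SubF

open Matrix CfsgLib.MaxSub
open CfsgLib.MaxSub.SuThree.Orth (ap ap_mul ap_one ap_inv inv_ap ap_ext ap_add ap_sub ap_smul ap_ne_zero Isom InS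
  IsE Span3 span3_of_indep)
open scoped MatrixGroups

variable {F : Type*} [Field F] [Fintype F]
variable {σ : F ≃+* F} {f : (Fin 3 → F) → (Fin 3 → F) → F} {F₀ : Subfield F} {u v e : Fin 3 → F}

/-- all transvections with centre `u` are rational -/
def NoTv (f : (Fin 3 → F) → (Fin 3 → F) → F) (F₀ : Subfield F) (M : Subgroup (GL (Fin 3) F)) (u : Fin 3 → F) :
    Prop :=
  ∀ g ∈ M, ∀ k : F, IsE f g u 0 k → k ∈ F₀

theorem isE_conj_zero {g h : GL (Fin 3) F} {w : Fin 3 → F} {k : F} (hg : IsE f g w 0 k) (hh : Isom f h) :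
    IsE f (h * g * h⁻¹) (ap h w) 0 k := by
  have := hg.conj hh
  rwa [show ap h (0 : Fin 3 → F) = 0 from mulVec_zero _] at this

namespace Dat

variable (D : Dat σ f F₀ u v e)
include D

theorem exists_pair_vec {w : Fin 3 → F} (hw : w ≠ 0) : ∃ x, f x w ≠ 0 :=
  let ⟨⟨x, hx⟩, _⟩ := D.form.nondegenerate w hw
  ⟨x, hx⟩

/-- two descriptions of the same transvection -/
theorem tv_unique {g : GL (Fin 3) F} {a b : Fin 3 → F} {θ k : F} (ha : IsE f g a 0 θ) (hb : IsE f g b 0 k)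
    (ha0 : a ≠ 0) (hb0 : b ≠ 0) (hθ : θ ≠ 0) : ∃ c : F, c ≠ 0 ∧ a = c • b ∧ k = c * σ c * θ := by
  have key : ∀ x, (θ * f x a) • a = (k * f x b) • b := fun x => by
    have h := (ha x).symm.trans (hb x)
    simpa only [D.zero_right, smul_zero, add_zero, sub_zero, add_right_inj] using h
  obtain ⟨x, hx⟩ := D.exists_pair_vec ha0
  obtain ⟨c, hc⟩ : ∃ c, a = c • b := ⟨(θ * f x a)⁻¹ * (k * f x b), by
    rw [mul_smul, ← key x, inv_smul_smul₀ (mul_ne_zero hθ hx)]⟩
  refine ⟨c, fun h => ha0 (by rw [hc, h, zero_smul]), hc, ?_⟩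
  obtain ⟨y, hy⟩ := D.exists_pair_vec hb0
  have h := key y
  rw [hc, D.smul_right, smul_smul] at h
  exact mul_right_cancel₀ hy ((smul_left_injective F hb0 h).symm.trans (by ring))

theorem mem_rat {M : Subgroup (GL (Fin 3) F)} (S : Sub f F₀ u v e M) {g : GL (Fin 3) F} (hg : InS f g)
    (hr : Rat f F₀ u v e g) : g ∈ M :=
  S.incl g hg (D.com_of_rat hr)

theorem exists_swap : ∃ g, InS f g ∧ Rat f F₀ u v e g ∧ ap g u = v ∧ ap g v = u := by
  obtain ⟨g, h1, h2, h3, h4, -⟩ := D.exists_map D.rt_v D.rt_u D.rt_e D.vv D.uu D.vu D.ve D.ue rfl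
  exact ⟨g, h1, h2, h3, h4⟩

/-- the `y`-part and the shift of a unipotent element are rational -/
theorem rational_of_unipotent {M : Subgroup (GL (Fin 3) F)} (S : Sub f F₀ u v e M) (hno : NoTv f F₀ M u)
    {η s : F} {g : GL (Fin 3) F} (hg : g ∈ M) (hgE : IsE f g u (η • e) s) : η ∈ F₀ ∧ s ∈ F₀ := by
  have hue : ∀ l : F, f u (l • e) = 0 := fun l => by rw [D.smul_right, D.ue, mul_zero]
  have heu : ∀ l : F, f (l • e) u = 0 := fun l => by rw [D.smul_left, D.eu, mul_zero]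
  have hs : s + σ s = -(η * σ η * f e e) := by
    have e1 := (S.ins g hg).1 v v
    rw [hgE v, D.vu, one_smul, mul_one, D.smul_right, D.ve, mul_zero, sub_zero] at e1
    simp only [D.add_left, D.add_right, D.smul_left, D.smul_right, D.uu, D.vv, D.uv, D.vu, D.ue, D.eu, D.ve,
      D.ev] at e1
    linear_combination e1
  have hη : η ∈ F₀ := by
    refine D.mem_of_skew fun l hl => ?_
    obtain ⟨s₁, hs₁R, hs₁⟩ := D.trace_onto (-(l * σ l * f e e))
      (neg_mem (mul_mem (mul_mem hl (D.sig _ hl)) D.eeR)) (by rw [map_neg, map_mul, map_mul, D.ss, D.ee_fix]; ring)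
    obtain ⟨E, hEs, hE, hEr⟩ := D.exists_E hs₁
    have hE' := D.mem_rat S hEs (hEr hl hs₁R)
    obtain ⟨k, hk⟩ : ∃ k, k = (η * σ l - σ η * l) * f e e := ⟨_, rfl⟩
    obtain ⟨T, -, hT, -⟩ := D.exists_T (k := k) (by
      rw [hk, map_mul, map_sub, map_mul, map_mul, D.ss, D.ss, D.ee_fix]; ring)
    have h1 := D.isE_mul hgE hE D.uu (hue η) (heu l)
    have h2 := D.isE_mul hE hgE D.uu (hue l) (heu η)
    have h3 := D.isE_mul hT h2 D.uu (D.zero_right u) (by rw [D.add_left, heu, heu, add_zero])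
    have e1 : T * (E * g) = g * E := IsE.uniq h3 fun x => by
      rw [h1, hk]
      simp only [D.zero_right, D.add_right, D.smul_left, D.smul_right]
      module
    have := hno T (by
      rw [eq_mul_inv_of_mul_eq e1]
      exact mul_mem (mul_mem hg hE') (inv_mem (mul_mem hE' hg))) k hT
    rw [hk] at this
    have h4 := div_mem this D.eeR
    rwa [mul_div_cancel_right₀ _ D.ee] at h4
  refine ⟨hη, ?_⟩
  obtain ⟨s₁, hs₁R, hs₁⟩ := D.trace_onto (-(η * σ η * f e e))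
    (neg_mem (mul_mem (mul_mem hη (D.sig _ hη)) D.eeR)) (by rw [map_neg, map_mul, map_mul, D.ss, D.ee_fix]; ring)
  obtain ⟨E, hEs, hE, hEr⟩ := D.exists_E hs₁
  obtain ⟨T, -, hT, -⟩ := D.exists_T (k := s - s₁) (by rw [map_sub]; linear_combination hs - hs₁)
  have h3 := D.isE_mul hT hE D.uu (D.zero_right u) (heu η)
  have e1 : T * E = g := IsE.uniq h3 fun x => by
    rw [hgE, zero_add, D.zero_right, sub_zero, sub_add_cancel]
  have := hno T (by
    rw [eq_mul_inv_of_mul_eq e1]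
    exact mul_mem hg (inv_mem (D.mem_rat S hEs (hEr hη hs₁R)))) _ hT
  simpa using add_mem this hs₁R

/-- without irrational transvections, elements fixing a rational point are rational up to a scalar -/
theorem com_of_fix {M : Subgroup (GL (Fin 3) F)} (S : Sub f F₀ u v e M) (hno : NoTv f F₀ M u)
    {g : GL (Fin 3) F} (hg : g ∈ M) {t : F} (ht : ap g u = t • u) : Com f F₀ u v e g := by
  obtain ⟨hgI, -⟩ := S.ins g hg
  have ht0 : t ≠ 0 := fun h => ap_ne_zero g D.u_ne (by rw [ht, h, zero_smul])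
  have hσt : σ t ≠ 0 := (map_ne_zero σ).2 ht0
  obtain ⟨a, ha⟩ : ∃ a, a = f (ap g e) v := ⟨_, rfl⟩
  obtain ⟨s, hs⟩ : ∃ s, s = f (ap g e) e / f e e := ⟨_, rfl⟩
  have hge : ap g e = a • u + s • e := by
    have h : σ t * f (ap g e) u = 0 := by rw [← D.smul_right, ← ht, hgI, D.eu]
    have hd := D.expand (ap g e)
    rw [(mul_eq_zero.1 h).resolve_left hσt, zero_smul, add_zero, ← ha, ← hs] at hd
    exact hd
  have hNs : s * σ s = 1 := by
    have h := hgI e e
    rw [hge] at h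
    simp only [D.add_left, D.add_right, D.smul_left, D.smul_right, D.uu, D.ue, D.eu] at h
    refine mul_right_cancel₀ D.ee ?_
    linear_combination h
  have hs0 : s ≠ 0 := left_ne_zero_of_mul_eq_one hNs
  have hNt : t * σ t ∈ F₀ := by
    obtain ⟨θ, hθR, hθ0, hθ⟩ := D.exists_theta
    obtain ⟨T, hTs, hT, hTr⟩ := D.exists_T (k := θ) (by rw [hθ, add_neg_cancel])
    have h := isE_conj_zero hT hgI (h := g)
    rw [ht] at h
    have h1 := D.isE_scale h
    rw [smul_zero] at h1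
    have := hno _ (mul_mem (mul_mem hg (D.mem_rat S hTs (hTr hθR))) (inv_mem hg)) _ h1
    have h2 := div_mem this hθR
    rwa [mul_div_cancel_right₀ _ hθ0] at h2
  have key : ∀ l ∈ F₀, σ t * l * s ∈ F₀ ∧ σ t * l * a - σ (σ t * l * a) ∈ F₀ := fun l hl => by
    obtain ⟨s₁, hs₁R, hs₁⟩ := D.trace_onto (-(l * σ l * f e e))
      (neg_mem (mul_mem (mul_mem hl (D.sig _ hl)) D.eeR)) (by rw [map_neg, map_mul, map_mul, D.ss, D.ee_fix]; ring)
    obtain ⟨E, hEs, hE, hEr⟩ := D.exists_E hs₁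
    have h := hE.conj hgI (h := g)
    rw [ht, ap_smul] at h
    have h1 := D.isE_scale h
    rw [hge, show σ t • l • (a • u + s • e) = (σ t * l * s) • e + (σ t * l * a) • u by module] at h1
    obtain ⟨h2, h3⟩ := D.rational_of_unipotent S hno
      (mul_mem (mul_mem hg (D.mem_rat S hEs (hEr hl hs₁R))) (inv_mem hg)) (D.isE_shift h1)
    refine ⟨h2, ?_⟩
    have := sub_mem h3 (mul_mem hNt hs₁R)
    rwa [show t * σ t * s₁ + σ t * l * a - σ (σ t * l * a) - t * σ t * s₁ = σ t * l * a - σ (σ t * l * a) by ring]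
      at this
  have hη : σ t * s ∈ F₀ := by simpa using (key 1 (one_mem _)).1
  have hst : s / t ∈ F₀ := by
    have := div_mem hη hNt
    rwa [show σ t * s / (t * σ t) = s / t by field_simp] at this
  have hta : σ t * a ∈ F₀ := D.mem_of_skew fun l hl => by
    have := (key (σ l) (D.sig _ hl)).2
    rw [map_mul, map_mul, D.ss, D.ss] at this
    rw [map_mul, D.ss]
    rwa [show σ t * a * σ l - t * σ a * l = σ t * σ l * a - t * l * σ a by ring]
  obtain ⟨m, hm⟩ : ∃ m, m = a / (t * f e e) := ⟨_, rfl⟩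
  have hmR : m ∈ F₀ := by
    have := div_mem (div_mem hta hNt) D.eeR
    rwa [show σ t * a / (t * σ t) / f e e = m by rw [hm]; field_simp] at this
  obtain ⟨s₁, hs₁R, hs₁⟩ := D.trace_onto (-(σ m * σ (σ m) * f e e))
    (neg_mem (mul_mem (mul_mem (D.sig _ hmR) (D.sig _ (D.sig _ hmR))) D.eeR))
    (by rw [map_neg, map_mul, map_mul, D.ss, D.ee_fix]; ring)
  obtain ⟨E, hEs, hE, hEr⟩ := D.exists_E hs₁
  have hEM := D.mem_rat S hEs (hEr (D.sig _ hmR) hs₁R)
  obtain ⟨g₁, hg₁⟩ : ∃ g₁, g₁ = g * E := ⟨_, rfl⟩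
  have hg₁M : g₁ ∈ M := hg₁ ▸ mul_mem hg hEM
  obtain ⟨hg₁I, hg₁d⟩ := S.ins g₁ hg₁M
  have hu₁ : ap g₁ u = t • u := by
    rw [hg₁, ap_mul, hE u, D.uu, D.smul_right, D.ue, zero_smul, add_zero, mul_zero, mul_zero, sub_zero, zero_smul,
      add_zero, ht]
  have he₁ : ap g₁ e = s • e := by
    have h1 : ap E e = e - (m * f e e) • u := by
      rw [hE, D.eu, D.smul_right, D.ss, zero_smul, mul_zero, zero_sub, add_zero, neg_smul, ← sub_eq_add_neg]
    rw [hg₁, ap_mul, h1, ap_sub, ap_smul, hge, ht, smul_smul,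
      show m * f e e * t = a by
        rw [hm]
        have := D.ee
        field_simp]
    abel
  obtain ⟨ν, hν⟩ : ∃ ν, ν = f (ap g₁ v) v := ⟨_, rfl⟩
  have hv₁ : ap g₁ v = ν • u + (σ t)⁻¹ • v := by
    have h1 : σ t * f (ap g₁ v) u = 1 := by rw [← D.smul_right, ← hu₁, hg₁I, D.vu]
    have h2 : σ s * f (ap g₁ v) e = 0 := by rw [← D.smul_right, ← he₁, hg₁I, D.ve]
    have hd := D.expand (ap g₁ v)
    rw [(mul_eq_zero.1 h2).resolve_left ((map_ne_zero σ).2 hs0), zero_div, zero_smul, add_zero,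
      eq_inv_of_mul_eq_one_right h1, ← hν] at hd
    exact hd
  obtain ⟨G, hG, hGu, hGv, hGe⟩ := D.exists_lin (a := t • u) (b := (σ t)⁻¹ • v) (c := s • e)
    (by rw [D.smul_left, D.smul_right, D.uu, mul_zero, mul_zero])
    (by rw [D.smul_left, D.smul_right, D.vv, mul_zero, mul_zero])
    (by rw [D.smul_left, D.smul_right, D.uv, map_inv₀, D.ss, mul_one, mul_inv_cancel₀ ht0])
    (by rw [D.smul_left, D.smul_right, D.ue, mul_zero, mul_zero])
    (by rw [D.smul_left, D.smul_right, D.ve, mul_zero, mul_zero])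
    (by rw [D.smul_left, D.smul_right, ← mul_assoc, hNs, one_mul])
  have hνt : ν / t + σ (ν / t) = 0 := by
    have h1 := hg₁I v v
    rw [hv₁] at h1
    simp only [D.add_left, D.add_right, D.smul_left, D.smul_right, D.uu, D.vv, D.uv, D.vu, map_inv₀, D.ss] at h1
    rw [map_div₀]
    linear_combination h1
  obtain ⟨T, hTs, hT, -⟩ := D.exists_T hνt
  have e1 : G * T = g₁ := by
    refine D.ext_frame ?_ ?_ ?_
    · rw [ap_mul, hT, D.uu, D.zero_right, smul_zero, add_zero, mul_zero, sub_zero, zero_smul, add_zero, hGu, hu₁]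
    · rw [ap_mul, hT, D.vu, D.zero_right, smul_zero, add_zero, mul_one, sub_zero, ap_add, ap_smul, hGu, hGv, hv₁,
        smul_smul, div_mul_cancel₀ _ ht0, add_comm]
    · rw [ap_mul, hT, D.eu, D.zero_right, smul_zero, add_zero, mul_zero, sub_zero, zero_smul, add_zero, hGe, he₁]
  have hGS : InS f G := ⟨hG, by
    have := hg₁d
    rw [← e1, Units.val_mul, det_mul, hTs.2, mul_one] at this
    exact this⟩
  have hGC : Com f F₀ u v e G := D.com_of_frame (c := t⁻¹) (inv_ne_zero ht0)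
    (by rw [hGu, inv_smul_smul₀ ht0]; exact D.rt_u)
    (by rw [hGv, smul_smul, ← mul_inv]; exact D.rt_smul (inv_mem hNt) D.rt_v)
    (by rw [hGe, smul_smul, inv_mul_eq_div]; exact D.rt_smul hst D.rt_e)
  have hTM : T ∈ M := by
    rw [eq_inv_mul_of_mul_eq e1]
    exact mul_mem (inv_mem (S.incl G hGS hGC)) hg₁M
  obtain ⟨T', -, hT', hT'r⟩ := D.exists_T hνt
  have hk := hno T hTM _ hT
  have e2 : T' = T := IsE.uniq hT' hT
  rw [← mul_inv_cancel_right g E, ← hg₁, ← e1, ← e2]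
  exact D.com_mul (D.com_mul hGC (D.com_of_rat (hT'r hk))) (D.com_inv (D.com_of_rat (hEr (D.sig _ hmR) hs₁R)))

/-- without irrational transvections, elements sending `u` to a rational point are rational up to a scalar -/
theorem com_of_point {M : Subgroup (GL (Fin 3) F)} (S : Sub f F₀ u v e M) (hno : NoTv f F₀ M u)
    {g : GL (Fin 3) F} (hg : g ∈ M) {l : F} (hl : l ≠ 0) (hgu : Rt f F₀ u v e (l • ap g u)) :
    Com f F₀ u v e g := by
  obtain ⟨p, hp⟩ : ∃ p, p = l • ap g u := ⟨_, rfl⟩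
  have hpp : f p p = 0 := by rw [hp, D.smul_left, D.smul_right, (S.ins g hg).1, D.uu, mul_zero, mul_zero]
  obtain ⟨b, c, hb, hc, hbb, hpb, hpc, hbc, hcc⟩ :=
    D.exists_frame (hp ▸ hgu) (hp ▸ smul_ne_zero hl (ap_ne_zero g D.u_ne)) hpp
  obtain ⟨h, hhs, hhr, hhu, -, -⟩ := D.exists_map (hp ▸ hgu) hb hc hpp hbb hpb hpc hbc hcc
  have h1 : ap (h⁻¹ * g) u = l⁻¹ • u := by
    rw [ap_mul, show ap g u = l⁻¹ • ap h u by rw [hhu, hp, inv_smul_smul₀ hl], ap_smul, inv_ap]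
  have h2 := D.com_of_fix S hno (mul_mem (inv_mem (D.mem_rat S hhs hhr)) hg) h1
  have h3 := D.com_mul (D.com_of_rat hhr) h2
  rwa [mul_inv_cancel_left] at h3

/-! ### pairs of transvections -/

theorem plane_decomp {w : Fin 3 → F} (hww : f w w = 0) (hb : f u w ≠ 0) (x : Fin 3 → F) :
    ∃ (α β : F) (z : Fin 3 → F), x = α • u + β • w + z ∧ f z u = 0 ∧ f z w = 0 := by
  have hb' : f w u ≠ 0 := fun h => hb (D.perp_symm h)
  refine ⟨f x w / f u w, f x u / f w u, x - (f x w / f u w) • u - (f x u / f w u) • w, by abel, ?_, ?_⟩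
  · rw [D.sub_left, D.sub_left, D.smul_left, D.smul_left, D.uu, div_mul_cancel₀ _ hb']; ring
  · rw [D.sub_left, D.sub_left, D.smul_left, D.smul_left, hww, div_mul_cancel₀ _ hb]; ring

/-- two non-commuting transvections in odd characteristic -/
theorem pair_odd (h2 : (2 : F) ≠ 0) {M : Subgroup (GL (Fin 3) F)} {w : Fin 3 → F} (hww : f w w = 0)
    (hb : f u w ≠ 0) {θ k : F} (hθ : θ ≠ 0) (hk : k ≠ 0) {T T' : GL (Fin 3) F} (hTM : T ∈ M)
    (hT'M : T' ∈ M) (hT : IsE f T u 0 θ) (hT' : IsE f T' w 0 k) :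
    (∃ m ∈ M, ap m u = -u ∧ ap m w = -w ∧ ∀ z, f z u = 0 → f z w = 0 → ap m z = z) ∧
      (θ * k * (f u w * σ (f u w)) ∈ F₀ ∨
        ((∃ m ∈ M, IsE f m u 0 (θ * (θ * k * (f u w * σ (f u w))))) ∧
          ∃ m ∈ M, ap m u = (-(θ * k * (f u w * σ (f u w)))⁻¹ * (k * f u w)) • w)) := by
  classical
  obtain ⟨b, hbd⟩ : ∃ b, b = f u w := ⟨_, rfl⟩
  obtain ⟨y, hy⟩ : ∃ y, y = (k * b) • w := ⟨_, rfl⟩
  obtain ⟨μ, hμd⟩ : ∃ μ, μ = θ * k * (b * σ b) := ⟨_, rfl⟩
  rw [← hbd] at hb ⊢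
  rw [← hμd]
  have hkb : k * b ≠ 0 := mul_ne_zero hk hb
  have hσb : σ b ≠ 0 := (map_ne_zero σ).2 hb
  have hμ0 : μ ≠ 0 := hμd ▸ mul_ne_zero (mul_ne_zero hθ hk) (mul_ne_zero hb hσb)
  have hwu : f w u = σ b := by rw [D.form.herm, ← hbd]
  have hTx : ∀ x, ap T x = x + (θ * f x u) • u := fun x => by
    rw [hT, D.zero_right, smul_zero, add_zero, sub_zero]
  have hT'x : ∀ x, ap T' x = x + (k * f x w) • w := fun x => by
    rw [hT', D.zero_right, smul_zero, add_zero, sub_zero]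
  obtain ⟨L, hL⟩ : ∃ L, L = Subfield.closure ({μ} : Set F) := ⟨_, rfl⟩
  have hμL : μ ∈ L := hL ▸ Subfield.subset_closure rfl
  obtain ⟨Rep, hRep⟩ : ∃ Rep : Matrix.SpecialLinearGroup (Fin 2) L → GL (Fin 3) F → Prop,
      Rep = fun (X : Matrix.SpecialLinearGroup (Fin 2) L) (m : GL (Fin 3) F) =>
      ap m u = ((X.1 0 0 : L) : F) • u + ((X.1 1 0 : L) : F) • y ∧
      ap m y = ((X.1 0 1 : L) : F) • u + ((X.1 1 1 : L) : F) • y ∧
      ∀ z, f z u = 0 → f z w = 0 → ap m z = z := ⟨_, rfl⟩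
  let S : Submonoid SL(2, L) :=
    { carrier := {X | ∃ m ∈ M, Rep X m}
      one_mem' := ⟨1, one_mem M, by rw [hRep]; simp [ap_one]⟩
      mul_mem' := by
        rintro X X' ⟨m, hm, h⟩ ⟨m', hm', h'⟩
        rw [hRep] at h h'
        obtain ⟨h1, h2', h3⟩ := h
        obtain ⟨h1', h2'', h3'⟩ := h'
        refine ⟨m * m', mul_mem hm hm', ?_⟩
        rw [hRep]
        refine ⟨?_, ?_, fun z hz1 hz2 => by rw [ap_mul, h3' z hz1 hz2, h3 z hz1 hz2]⟩
        · rw [ap_mul, h1', ap_add, ap_smul, ap_smul, h1, h2']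
          simp only [Matrix.SpecialLinearGroup.coe_mul, Matrix.mul_apply, Fin.sum_univ_two]
          push_cast
          module
        · rw [ap_mul, h2'', ap_add, ap_smul, ap_smul, h1, h2']
          simp only [Matrix.SpecialLinearGroup.coe_mul, Matrix.mul_apply, Fin.sum_univ_two]
          push_cast
          module }
  have hsub : {g : SL(2, L) | (g : Matrix (Fin 2) (Fin 2) L) = !![1, 0; 1, 1] ∨
      (g : Matrix (Fin 2) (Fin 2) L) = !![1, ⟨μ, hμL⟩; 0, 1]} ⊆ S := by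
    rintro X (hX | hX)
    · refine ⟨T', hT'M, ?_⟩
      rw [hRep]
      refine ⟨?_, ?_, fun z _ hz => by rw [hT'x, hz, mul_zero, zero_smul, add_zero]⟩
      · rw [hT'x, ← hbd, hy, hX]; simp
      · rw [hT'x, hy, D.smul_left, hww, mul_zero, mul_zero, zero_smul, add_zero, hX]; simp
    · refine ⟨T, hTM, ?_⟩
      rw [hRep]
      refine ⟨?_, ?_, fun z hz _ => by rw [hTx, hz, mul_zero, zero_smul, add_zero]⟩
      · rw [hTx, D.uu, mul_zero, zero_smul, add_zero, hX]; simp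
      · rw [hTx, hy, D.smul_left, hwu, hX]
        simp only [Matrix.of_apply, Matrix.cons_val', Matrix.cons_val_zero, Matrix.cons_val_one,
          Matrix.empty_val', Matrix.cons_val_fin_one, OneMemClass.coe_one, one_smul, hμd]
        module
  have hmem : ∀ X : SL(2, L), X ∈ Subgroup.closure {g : SL(2, L) | (g : Matrix (Fin 2) (Fin 2) L) = !![1, 0; 1, 1] ∨
      (g : Matrix (Fin 2) (Fin 2) L) = !![1, ⟨μ, hμL⟩; 0, 1]} → ∃ m ∈ M, Rep X m := fun X hX => by
    rw [← Subgroup.mem_toSubmonoid, Subgroup.closure_toSubmonoid_of_finite] at hX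
    exact Submonoid.closure_le.2 hsub hX
  have hneg : ∀ {m : GL (Fin 3) F}, Rep (-1) m →
      ap m u = -u ∧ ap m w = -w ∧ ∀ z, f z u = 0 → f z w = 0 → ap m z = z := fun {m} hm => by
    rw [hRep] at hm
    obtain ⟨h1, h2', h3⟩ := hm
    simp at h1 h2'
    refine ⟨h1, ?_, h3⟩
    rw [show w = (k * b)⁻¹ • y by rw [hy, inv_smul_smul₀ hkb], ap_smul, h2', smul_neg]
  have h2L : (2 : L) ≠ 0 := fun h => h2 (by simpa [map_ofNat] using congrArg L.subtype h)
  letI := Fintype.ofFinite L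
  have hgen : Subfield.closure ({(⟨μ, hμL⟩ : L)} : Set L) = ⊤ := by
    refine eq_top_iff.2 fun z _ => ?_
    have hle : L ≤ (Subfield.closure ({(⟨μ, hμL⟩ : L)} : Set L)).map L.subtype := by
      conv_lhs => rw [hL]
      rw [Subfield.closure_le, Set.singleton_subset_iff]
      exact ⟨⟨μ, hμL⟩, Subfield.subset_closure rfl, rfl⟩
    obtain ⟨w', hw', he⟩ := hle z.2
    rwa [← Subtype.ext he]
  rcases Cfsg.Agent.S0801.result (F := L) h2L ⟨μ, hμL⟩ (fun h => hμ0 (congrArg Subtype.val h)) hgen with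
    ⟨htop, -⟩ | ⟨-, hsq, hcard⟩
  · have hall : ∀ X : SL(2, L), ∃ m ∈ M, Rep X m := fun X => hmem X (by rw [htop]; exact Subgroup.mem_top X)
    obtain ⟨m, hm, hmr⟩ := hall (-1)
    refine ⟨⟨m, hm, hneg hmr⟩, Or.inr ⟨?_, ?_⟩⟩
    · obtain ⟨m', hm', hmr'⟩ := hall ⟨!![1, ⟨μ * μ, mul_mem hμL hμL⟩; 0, 1], by simp [Matrix.det_fin_two_of]⟩
      rw [hRep] at hmr'
      obtain ⟨h1, h2', h3⟩ := hmr'
      simp at h1 h2'
      refine ⟨m', hm', fun x => ?_⟩
      obtain ⟨α, β, z, rfl, hzu, hzw⟩ := D.plane_decomp hww (hbd ▸ hb) x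
      have hwy : w = (k * b)⁻¹ • y := by rw [hy, inv_smul_smul₀ hkb]
      simp only [ap_add, ap_smul, h1, h3 z hzu hzw]
      rw [show ap m' w = (k * b)⁻¹ • ap m' y by rw [← ap_smul, ← hwy], h2', hy]
      simp only [D.zero_right, D.add_left, D.smul_left, D.uu, hwu, hzu]
      match_scalars <;> field_simp
      rw [hμd]; ring
    · obtain ⟨m', hm', hmr'⟩ := hall ⟨!![0, ⟨μ, hμL⟩; -⟨μ, hμL⟩⁻¹, 0], by
        rw [Matrix.det_fin_two_of, mul_neg, mul_inv_cancel₀ (fun h => hμ0 (congrArg Subtype.val h))]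
        ring⟩
      rw [hRep] at hmr'
      obtain ⟨h1, -, -⟩ := hmr'
      simp at h1
      refine ⟨m', hm', ?_⟩
      rw [h1, hy]
      module
  · haveI : Fact (Nat.Prime 2) := ⟨Nat.prime_two⟩
    obtain ⟨X, hX⟩ := exists_prime_orderOf_dvd_card' (G := Subgroup.closure {g : SL(2, L) |
      (g : Matrix (Fin 2) (Fin 2) L) = !![1, 0; 1, 1] ∨ (g : Matrix (Fin 2) (Fin 2) L) = !![1, ⟨μ, hμL⟩; 0, 1]}) 2
      (by rw [hcard]; decide)
    have hXX : (X : SL(2, L)) * X = 1 := by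
      have h := pow_orderOf_eq_one X
      rw [hX, sq] at h
      exact congrArg Subtype.val h
    obtain ⟨m, hm, hmr⟩ : ∃ m ∈ M, Rep (-1) m := by
      rcases CfsgLib.Geom.SL2Anti.eq_or_eq_neg_of_sq_one h2L hXX with h | h
      · rw [show X = 1 from Subtype.ext h, orderOf_one] at hX
        norm_num at hX
      · exact h ▸ hmem _ X.2
    refine ⟨⟨m, hm, hneg hmr⟩, Or.inl ?_⟩
    refine D.quad μ 0 (-1) (zero_mem _) (neg_mem (one_mem _)) ?_
    have := congrArg Subtype.val hsq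
    simpa [sq] using this

/-- two non-commuting transvections in characteristic two -/
theorem pair_even (h2 : (2 : F) = 0) {M : Subgroup (GL (Fin 3) F)} (hM : ∀ g ∈ M, InS f g) {w : Fin 3 → F}
    (hww : f w w = 0) (hb : f u w ≠ 0) {θ k : F} (hθ : θ ≠ 0) (hk : k ≠ 0) {T T' : GL (Fin 3) F} (hTM : T ∈ M)
    (hT'M : T' ∈ M) (hT : IsE f T u 0 θ) (hT' : IsE f T' w 0 k) :
    ∃ j ∈ M, ∃ c : F, c ≠ 0 ∧ ap j u = c • w ∧ ap j w = c⁻¹ • u ∧ k = c * σ c * θ ∧
      ∀ z, f z u = 0 → f z w = 0 → ap j z = z := by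
  classical
  have hw0 : w ≠ 0 := fun h => hb (by rw [h, D.zero_right])
  have sq1 : ∀ {g : GL (Fin 3) F} {a : Fin 3 → F} {s : F}, f a a = 0 → IsE f g a 0 s → g * g = 1 :=
    fun {g a s} haa hg => ap_ext fun x => by
      rw [D.isE_mul hg hg haa (D.zero_right a) (D.zero_left a) x, ap_one, D.zero_right,
        show s + s = 0 by linear_combination s * h2]
      simp [D.zero_right]
  have hTT := sq1 D.uu hT
  have hT'T' := sq1 hww hT'
  obtain ⟨ρ, hρ⟩ : ∃ ρ, ρ = T * T' := ⟨_, rfl⟩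
  have hρM : ρ ∈ M := hρ ▸ mul_mem hTM hT'M
  have hfix : ∀ n : ℕ, ∀ z, f z u = 0 → f z w = 0 → ap (ρ ^ n) z = z := by
    intro n z hz1 hz2
    induction n with
    | zero => rw [pow_zero, ap_one]
    | succ n ih =>
      rw [pow_succ, ap_mul, hρ, ap_mul, hT', hz2, D.zero_right, smul_zero, add_zero, mul_zero, sub_zero, zero_smul,
        add_zero, hT, hz1, D.zero_right, smul_zero, add_zero, mul_zero, sub_zero, zero_smul, add_zero]
      rw [hρ] at ih
      exact ih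
  have hsemi : ∀ n : ℕ, T * ρ ^ n * T = (ρ ^ n)⁻¹ := fun n => by
    have h1 : T⁻¹ = T := inv_eq_of_mul_eq_one_right hTT
    have h3 : T'⁻¹ = T' := inv_eq_of_mul_eq_one_right hT'T'
    have h4 : T * ρ * T⁻¹ = ρ⁻¹ := by
      rw [hρ, _root_.mul_inv_rev, h3, h1, ← mul_assoc, hTT, one_mul]
    calc T * ρ ^ n * T = T * ρ ^ n * T⁻¹ := by rw [h1]
      _ = (T * ρ * T⁻¹) ^ n := conj_pow.symm
      _ = (ρ ^ n)⁻¹ := by rw [h4, inv_pow]
  have hodd : Odd (orderOf ρ) := by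
    rw [← Nat.not_even_iff_odd]
    rintro ⟨i, hi⟩
    have hpos := orderOf_pos ρ
    obtain ⟨z0, hz0⟩ : ∃ z0, z0 = ρ ^ i := ⟨_, rfl⟩
    have hne : z0 ≠ 1 := hz0 ▸ pow_ne_one_of_lt_orderOf (by omega) (by omega)
    have hzz : z0 * z0 = 1 := by rw [hz0, ← pow_add, ← hi, pow_orderOf_eq_one]
    have hzi : z0⁻¹ = z0 := inv_eq_of_mul_eq_one_right hzz
    have c1 : T * z0 = z0 * T := by
      have := hsemi i
      rw [← hz0, hzi] at this
      calc T * z0 = T * z0 * T * T := by rw [mul_assoc (T * z0), hTT, mul_one]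
        _ = z0 * T := by rw [this]
    have hTρ : T * ρ = T' := by rw [hρ, ← mul_assoc, hTT, one_mul]
    have c2 : T' * z0 = z0 * T' := by
      rw [← hTρ, mul_assoc, show ρ * z0 = z0 * ρ by rw [hz0, ← pow_succ, ← pow_succ'], ← mul_assoc, c1, mul_assoc]
    have hzI := (hM z0 (hz0 ▸ pow_mem hρM i)).1
    have hline : ∀ {g : GL (Fin 3) F} {a : Fin 3 → F} {s : F}, a ≠ 0 → s ≠ 0 → IsE f g a 0 s → g * z0 = z0 * g →
        ap z0 a = a := fun {g a s} ha hs hg hc => by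
      have h1 := isE_conj_zero hg hzI
      rw [← hc, mul_inv_cancel_right] at h1
      obtain ⟨c, -, hca, -⟩ := D.tv_unique h1 hg (ap_ne_zero z0 ha) ha hs
      have h3 := congrArg (ap z0) hca
      rw [← ap_mul, hzz, ap_one, ap_smul, hca, smul_smul] at h3
      have h4 : c * c = 1 := smul_left_injective F ha (h3.symm.trans (one_smul F a).symm)
      rw [hca, sub_eq_zero.1 (mul_self_eq_zero.1 (show (c - 1) * (c - 1) = 0 by
        linear_combination h4 + (1 - c) * h2)), one_smul]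
    refine hne (ap_ext fun x => ?_)
    obtain ⟨α, β, z, rfl, hzu, hzw⟩ := D.plane_decomp hww hb x
    rw [ap_add, ap_add, ap_smul, ap_smul, hline D.u_ne hθ hT c1, hline hw0 hk hT' c2, hz0, hfix i z hzu hzw, ap_one]
  obtain ⟨i, hi⟩ := hodd
  obtain ⟨j, hj⟩ : ∃ j, j = ρ ^ i * T := ⟨_, rfl⟩
  have hjM : j ∈ M := hj ▸ mul_mem (pow_mem hρM i) hTM
  have hjj : j * j = 1 := by
    rw [hj, show ρ ^ i * T * (ρ ^ i * T) = ρ ^ i * (T * ρ ^ i * T) by group, hsemi, mul_inv_cancel]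
  have hTi : (ρ ^ i)⁻¹ = ρ ^ (i + 1) :=
    inv_eq_of_mul_eq_one_right (by rw [← pow_add, show i + (i + 1) = orderOf ρ by omega, pow_orderOf_eq_one])
  have hconj : j * T * j = T' := by
    have h1 : ρ ^ i * ρ ^ i * ρ = 1 := by
      rw [← pow_add, ← pow_succ, show i + i + 1 = orderOf ρ by omega, pow_orderOf_eq_one]
    calc j * T * j = ρ ^ i * (T * T) * ρ ^ i * T := by rw [hj]; group
      _ = ρ ^ i * ρ ^ i * T := by rw [hTT, mul_one]
      _ = ρ⁻¹ * T := by rw [eq_inv_of_mul_eq_one_left h1]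
      _ = T' := by
        rw [hρ, _root_.mul_inv_rev, inv_eq_of_mul_eq_one_right hTT, mul_assoc, hTT, mul_one,
          inv_eq_of_mul_eq_one_right hT'T']
  have h1 := isE_conj_zero hT (hM j hjM).1
  rw [inv_eq_of_mul_eq_one_right hjj, hconj] at h1
  obtain ⟨c, hc, hcw, hck⟩ := D.tv_unique h1 hT' (ap_ne_zero j D.u_ne) hw0 hθ
  refine ⟨j, hjM, c, hc, hcw, ?_, hck, fun z hz1 hz2 => ?_⟩
  · have h3 := congrArg (ap j) hcw
    rw [← ap_mul, hjj, ap_one, ap_smul] at h3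
    rw [h3, inv_smul_smul₀ hc]
  · rw [hj, ap_mul, hT, hz1, D.zero_right, smul_zero, add_zero, mul_zero, sub_zero, zero_smul, add_zero,
      hfix i z hz1 hz2]

/-- one irrational transvection gives three independent full points -/
theorem full_of_tv {M : Subgroup (GL (Fin 3) F)} (S : Sub f F₀ u v e M) (htv : ¬NoTv f F₀ M u) :
    ∃ a b c, UFull σ f M a ∧ UFull σ f M b ∧ UFull σ f M c ∧ LinearIndependent F ![a, b, c] := by
  classical
  unfold NoTv at htv
  push Not at htv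
  obtain ⟨T, hT, k, hTE, hk⟩ := htv
  have hk0 : k ≠ 0 := fun h => hk (h ▸ zero_mem _)
  have hkt : k + σ k = 0 := D.trace_of_isE hTE (S.ins T hT).1
  obtain ⟨W, hWs, hWr, hWu, hWv⟩ := D.exists_swap
  have hWM := D.mem_rat S hWs hWr
  obtain ⟨θ, hθR, hθ0, hθ⟩ := D.exists_theta
  obtain ⟨T₀, hT₀s, hT₀, hT₀r⟩ := D.exists_T (k := θ) (by rw [hθ, add_neg_cancel])
  have hT' : IsE f (W * T₀ * W⁻¹) v 0 θ := hWu ▸ isE_conj_zero hT₀ hWs.1
  have hT'M : W * T₀ * W⁻¹ ∈ M := mul_mem (mul_mem hWM (D.mem_rat S hT₀s (hT₀r hθR))) (inv_mem hWM)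
  have huv : f u v ≠ 0 := by rw [D.uv]; exact one_ne_zero
  obtain ⟨m, hm, c, hmc, hc⟩ : ∃ m ∈ M, ∃ c : F, ap m u = c • v ∧ c * σ c ∉ F₀ := by
    by_cases h2 : (2 : F) = 0
    · obtain ⟨j, hj, c, -, hju, -, hθk, -⟩ := D.pair_even h2 S.ins D.vv huv hk0 hθ0 hT hT'M hTE hT'
      refine ⟨j, hj, c, hju, fun h => hk ?_⟩
      have h1 := div_mem hθR h
      rwa [hθk, mul_comm, mul_div_cancel_right₀] at h1
      intro h0
      rw [h0, zero_mul] at hθk
      exact hθ0 hθk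
    · obtain ⟨-, h | ⟨-, j, hj, hju⟩⟩ := D.pair_odd h2 D.vv huv hk0 hθ0 hT hT'M hTE hT'
      · rw [D.uv, map_one, mul_one, mul_one] at h
        exact absurd (by simpa [mul_div_cancel_right₀ _ hθ0] using div_mem h hθR) hk
      · refine ⟨j, hj, _, hju, fun h => hk ?_⟩
        rw [D.uv, map_one, mul_one, mul_one, mul_one] at h
        refine D.quad k 0 (k * k) (zero_mem _) ?_ (by rw [zero_mul, zero_add])
        have h1 := neg_mem (inv_mem h)
        convert h1 using 1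
        have hσk : σ k = -k := by linear_combination hkt
        simp only [map_neg, map_mul, map_inv₀, hσk, hθ]
        field_simp
  obtain ⟨R, hR⟩ : ∃ R : Subring F, ∀ x, x ∈ R ↔ σ x = x ∧
      ∀ y, (∃ g ∈ M, IsE f g u 0 y) → ∃ g ∈ M, IsE f g u 0 (x * y) := by
    have h0 : ∃ g ∈ M, IsE f g u 0 0 :=
      ⟨1, one_mem M, fun x => by rw [ap_one, D.zero_right]; simp⟩
    have hadd : ∀ {x y : F}, (∃ g ∈ M, IsE f g u 0 x) → (∃ g ∈ M, IsE f g u 0 y) → ∃ g ∈ M, IsE f g u 0 (x + y) := by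
      rintro x y ⟨g, hg, hgE⟩ ⟨g', hg', hgE'⟩
      refine ⟨g * g', mul_mem hg hg', ?_⟩
      have := D.isE_mul hgE hgE' D.uu (D.zero_right u) (D.zero_left u)
      rwa [add_zero, D.zero_right, sub_zero] at this
    have hneg : ∀ {x : F}, (∃ g ∈ M, IsE f g u 0 x) → ∃ g ∈ M, IsE f g u 0 (-x) := by
      rintro x ⟨g, hg, hgE⟩
      refine ⟨g⁻¹, inv_mem hg, fun z => ?_⟩
      conv_rhs => rw [← inv_ap g (z + _ + _)]
      congr 1
      simp only [D.zero_right, smul_zero, add_zero, sub_zero]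
      rw [hgE, D.zero_right, smul_zero, add_zero, sub_zero, D.add_left, D.smul_left, D.uu, mul_zero, add_zero]
      module
    exact ⟨{ carrier := {x | σ x = x ∧ ∀ y, (∃ g ∈ M, IsE f g u 0 y) → ∃ g ∈ M, IsE f g u 0 (x * y)}
             one_mem' := ⟨map_one σ, fun y hy => by rwa [one_mul]⟩
             zero_mem' := ⟨map_zero σ, fun y _ => by rw [zero_mul]; exact h0⟩
             mul_mem' := fun {x y} hx hy => ⟨by rw [map_mul, hx.1, hy.1], fun z hz => by
               rw [mul_assoc]; exact hx.2 _ (hy.2 z hz)⟩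
             add_mem' := fun {x y} hx hy => ⟨by rw [map_add, hx.1, hy.1], fun z hz => by
               rw [add_mul]; exact hadd (hx.2 z hz) (hy.2 z hz)⟩
             neg_mem' := fun {x} hx => ⟨by rw [map_neg, hx.1], fun z hz => by
               rw [neg_mul]; exact hneg (hx.2 z hz)⟩ }, fun x => Iff.rfl⟩
  have hnorm : ∀ h ∈ M, ∀ t : F, ap h u = t • u → t * σ t ∈ R := fun h hh t ht => by
    refine (hR _).2 ⟨by rw [map_mul, D.ss, mul_comm], ?_⟩
    rintro y ⟨g, hg, hgE⟩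
    refine ⟨h * g * h⁻¹, mul_mem (mul_mem hh hg) (inv_mem hh), ?_⟩
    have h1 := isE_conj_zero hgE (S.ins h hh).1
    rw [ht] at h1
    have h2 := D.isE_scale h1
    rwa [smul_zero] at h2
  have hK : ∀ x ∈ F₀, σ x = x → x ∈ R := fun x hx hσx => by
    rcases eq_or_ne x 0 with rfl | hx0
    · exact zero_mem R
    obtain ⟨l, hl, rfl⟩ := D.norm_onto x hx hσx
    have hl0 : l ≠ 0 := left_ne_zero_of_mul hx0
    obtain ⟨h, hhs, hhr, hhu, -, -⟩ := D.exists_map (D.rt_smul hl D.rt_u)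
      (D.rt_smul (inv_mem (D.sig _ hl)) D.rt_v) D.rt_e
      (by rw [D.smul_left, D.smul_right, D.uu, mul_zero, mul_zero])
      (by rw [D.smul_left, D.smul_right, D.vv, mul_zero, mul_zero])
      (by rw [D.smul_left, D.smul_right, D.uv, map_inv₀, D.ss, mul_one, mul_inv_cancel₀ hl0])
      (by rw [D.smul_left, D.ue, mul_zero]) (by rw [D.smul_left, D.ve, mul_zero]) rfl
    exact hnorm h (D.mem_rat S hhs hhr) l hhu
  have hcR : c * σ c ∈ R := hnorm (W * m) (mul_mem hWM hm) c (by rw [ap_mul, hmc, ap_smul, hWv])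
  obtain ⟨a₀, ha₀, ha₀σ⟩ := D.moved
  have hd : a₀ - σ a₀ ≠ 0 := sub_ne_zero.2 (Ne.symm ha₀σ)
  have hall : ∀ x, σ x = x → x ∈ R := by
    obtain ⟨L, hL⟩ : ∃ L : Subring F, ∀ x, x ∈ L ↔ ∃ a ∈ R, ∃ b ∈ R, x = a + b * a₀ :=
      ⟨{ carrier := {x | ∃ a ∈ R, ∃ b ∈ R, x = a + b * a₀}
         one_mem' := ⟨1, one_mem R, 0, zero_mem R, by ring⟩
         zero_mem' := ⟨0, zero_mem R, 0, zero_mem R, by ring⟩
         mul_mem' := by
           rintro _ _ ⟨a, ha, b, hb, rfl⟩ ⟨a', ha', b', hb', rfl⟩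
           have hs : a₀ + σ a₀ ∈ R := hK _ (add_mem ha₀ (D.sig _ ha₀)) (by rw [map_add, D.ss, add_comm])
           have hp : a₀ * σ a₀ ∈ R := hK _ (mul_mem ha₀ (D.sig _ ha₀)) (by rw [map_mul, D.ss, mul_comm])
           exact ⟨a * a' - b * b' * (a₀ * σ a₀), sub_mem (mul_mem ha ha') (mul_mem (mul_mem hb hb') hp),
             a * b' + b * a' + b * b' * (a₀ + σ a₀),
             add_mem (add_mem (mul_mem ha hb') (mul_mem hb ha')) (mul_mem (mul_mem hb hb') hs), by ring⟩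
         add_mem' := by
           rintro _ _ ⟨a, ha, b, hb, rfl⟩ ⟨a', ha', b', hb', rfl⟩
           exact ⟨a + a', add_mem ha ha', b + b', add_mem hb hb', by ring⟩
         neg_mem' := by
           rintro _ ⟨a, ha, b, hb, rfl⟩
           exact ⟨-a, neg_mem ha, -b, neg_mem hb, by ring⟩ }, fun x => Iff.rfl⟩
    have htop := D.top L (fun x hx => (hL x).2 ⟨x - (x - σ x) / (a₀ - σ a₀) * a₀, hK _
      (sub_mem hx (mul_mem (div_mem (sub_mem hx (D.sig _ hx)) (sub_mem ha₀ (D.sig _ ha₀))) ha₀)) (by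
        rw [map_sub, map_mul, map_div₀, map_sub, map_sub, D.ss, D.ss, show σ a₀ - a₀ = -(a₀ - σ a₀) by ring,
          div_neg]
        field_simp
        ring), (x - σ x) / (a₀ - σ a₀), hK _
        (div_mem (sub_mem hx (D.sig _ hx)) (sub_mem ha₀ (D.sig _ ha₀))) (by
          rw [map_div₀, map_sub, map_sub, D.ss, D.ss, ← neg_div_neg_eq, neg_sub, neg_sub]), by ring⟩)
      (c * σ c) ((hL _).2 ⟨_, hcR, 0, zero_mem R, by ring⟩) hc
    intro x hx
    obtain ⟨a, ha, b, hb, he⟩ := (hL x).1 (htop x)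
    have hσa := ((hR a).1 ha).1
    have hσb := ((hR b).1 hb).1
    have hb0 : b = 0 := by
      have h1 := congrArg σ he
      rw [hx, map_add, map_mul, hσa, hσb, he] at h1
      exact (mul_eq_zero.1 (show b * (a₀ - σ a₀) = 0 by linear_combination h1)).resolve_right hd
    rw [he, hb0, zero_mul, add_zero]; exact ha
  have hu : UFull σ f M u := by
    refine ⟨D.uu, fun x hx => ?_⟩
    have hσ : σ (x / k) = x / k := by
      rw [map_div₀, eq_neg_of_add_eq_zero_right hx, eq_neg_of_add_eq_zero_right hkt, neg_div_neg_eq]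
    obtain ⟨g, hg, hgE⟩ := ((hR _).1 (hall _ hσ)).2 k ⟨T, hT, hTE⟩
    rw [div_mul_cancel₀ _ hk0] at hgE
    refine ⟨by rw [smul_dotProduct, hDual_dot D.form, D.uu, smul_zero], g, hg,
      Matrix.ext_of_mulVec_single fun i => ?_⟩
    rw [uTv_mulVec D.form]
    refine (hgE _).trans ?_
    simp only [D.zero_right, smul_zero, add_zero, sub_zero]
  have hv : UFull σ f M v := hWu ▸ hu.conj D.form hWM hWs.1
  obtain ⟨s, hsR, hs⟩ := D.trace_onto (-(1 * σ 1 * f e e))
    (by rw [map_one, one_mul, one_mul]; exact neg_mem D.eeR)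
    (by rw [map_one, one_mul, one_mul, map_neg, D.ee_fix])
  obtain ⟨E, hEs, hE, hEr⟩ := D.exists_E hs
  refine ⟨u, v, ap E v, hu, hv, hv.conj D.form (D.mem_rat S hEs (hEr (one_mem _) hsR)) hEs.1, ?_⟩
  rw [hE, D.vu, D.smul_right, D.ve, one_smul, Fintype.linearIndependent_iff]
  intro a ha
  rw [Fin.sum_univ_three] at ha
  simp only [Matrix.cons_val] at ha
  have h1 := congrArg (f · u) ha
  have h2 := congrArg (f · v) ha
  have h3 := congrArg (f · e) ha
  simp only [D.add_left, D.smul_left, D.zero_left, D.uu, D.vv, D.uv, D.vu, D.ue, D.eu, D.ve, D.ev,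
    mul_zero, mul_one, add_zero, zero_add, one_mul, mul_eq_zero, D.ee, one_ne_zero, or_false] at h1 h2 h3
  rw [h3, add_zero] at h1
  rw [h3, zero_mul, add_zero] at h2
  intro i
  fin_cases i <;> assumption

end Dat

end CfsgLib.MaxSub.SuThree.SubF
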