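import Cfsg.Agent.Lib.MaxSub.SuThree.SubfieldFix
import Cfsg.Agent.Lib.Coprime.Sylow
import Cfsg.Agent.Lib.Invol.BrauerSuzuki

/-!
The subfield of four elements: transvections of an overgroup are rational, by the `Z*`-theorem.
-/

set_option autoImplicit false
set_option linter.unusedSectionVars false
set_option linter.unusedSimpArgs false
set_option linter.style.haveILetI false

namespace CfsgLib.MaxSub.SuThree.SubF

open Matrix CfsgLib.MaxSub
open CfsgLib.MaxSub.SuThree.Orth (ap ap_mul ap_one ap_inv inv_ap ap_ext ap_add ap_sub ap_smul ap_ne_zero Isom InS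
  IsE Span3 span3_of_indep)
open scoped MatrixGroups

universe w

variable {F : Type w} [Field F] [Fintype F]
variable {σ : F ≃+* F} {f : (Fin 3 → F) → (Fin 3 → F) → F} {F₀ : Subfield F} {u v e : Fin 3 → F}

/-- scalar elements -/
def Sc (g : GL (Fin 3) F) : Prop := ∃ t : F, ∀ x, ap g x = t • x

theorem Sc.commute {g : GL (Fin 3) F} (hg : Sc g) (h : GL (Fin 3) F) : g * h = h * g := by
  obtain ⟨t, ht⟩ := hg
  exact ap_ext fun x => by rw [ap_mul, ap_mul, ht, ht, ap_smul]

theorem Sc.pow {g : GL (Fin 3) F} (hg : Sc g) (m : ℕ) : Sc (g ^ m) := by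
  obtain ⟨t, ht⟩ := hg
  refine ⟨t ^ m, ?_⟩
  induction m with
  | zero => intro x; rw [pow_zero, pow_zero, ap_one, one_smul]
  | succ m ih => intro x; rw [pow_succ, ap_mul, ht, ap_smul, ih, smul_smul, pow_succ']

/-- the scalar of a determinant one scalar is a cube root of unity -/
theorem Sc.cube {g : GL (Fin 3) F} (hd : (g : Matrix (Fin 3) (Fin 3) F).det = 1) {t : F}
    (ht : ∀ x, ap g x = t • x) : t ^ 3 = 1 := by
  have : (g : Matrix (Fin 3) (Fin 3) F) = t • 1 := Matrix.ext_of_mulVec_single fun i => by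
    rw [smul_mulVec, one_mulVec]; exact ht _
  rwa [this, det_smul, det_one, mul_one, Fintype.card_fin] at hd

/-- a subgroup of scalars of determinant one has at most three elements -/
theorem card_le_three {H : Subgroup (GL (Fin 3) F)} (hd : ∀ g ∈ H, (g : Matrix (Fin 3) (Fin 3) F).det = 1)
    (hsc : ∀ g ∈ H, Sc g) : Nat.card H ≤ 3 := by
  classical
  choose t ht using fun g : H => hsc g.1 g.2
  have hmem : ∀ g : H, t g ∈ (Polynomial.nthRoots 3 (1 : F)).toFinset := fun g => by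
    rw [Multiset.mem_toFinset, Polynomial.mem_nthRoots (by norm_num)]
    exact Sc.cube (hd g.1 g.2) (ht g)
  have hinj : Function.Injective fun g : H => (⟨t g, hmem g⟩ : (Polynomial.nthRoots 3 (1 : F)).toFinset) :=
    fun g g' h => Subtype.ext (ap_ext fun x => by
      simp only [Subtype.mk.injEq] at h
      rw [ht g, ht g', h])
  refine (Nat.card_le_card_of_injective _ hinj).trans ?_
  rw [Nat.card_eq_fintype_card, Fintype.card_coe]
  exact (Multiset.toFinset_card_le _).trans (Polynomial.card_nthRoots _ _)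

/-- a homomorphism with values among cube roots of unity -/
theorem card_le_three_mul {H : Subgroup (GL (Fin 3) F)} (χ : H →* Fˣ) (hχ : ∀ g, χ g ^ 3 = 1) :
    Nat.card H ≤ 3 * Nat.card χ.ker := by
  classical
  have h1 := χ.ker.card_mul_index
  rw [Subgroup.index_ker] at h1
  have h2 : Nat.card χ.range ≤ 3 := by
    have hmem : ∀ c : χ.range, ((c : Fˣ) : F) ∈ (Polynomial.nthRoots 3 (1 : F)).toFinset := by
      rintro ⟨c, g, rfl⟩
      rw [Multiset.mem_toFinset, Polynomial.mem_nthRoots (by norm_num), ← Units.val_pow_eq_pow_val, hχ,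
        Units.val_one]
    have hinj : Function.Injective fun c : χ.range => (⟨_, hmem c⟩ : (Polynomial.nthRoots 3 (1 : F)).toFinset) :=
      fun c c' h => Subtype.ext (Units.ext (congrArg Subtype.val h :))
    refine (Nat.card_le_card_of_injective _ hinj).trans ?_
    rw [Nat.card_eq_fintype_card, Fintype.card_coe]
    exact (Multiset.toFinset_card_le _).trans (Polynomial.card_nthRoots _ _)
  rw [← h1, mul_comm]
  exact Nat.mul_le_mul h2 le_rfl

/-- an element conjugate to a scalar multiple of itself: its centraliser is commutative -/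
theorem commute_of_omega (h2 : (2 : F) = 0) {n a : GL (Fin 3) F} (hd : (a : Matrix (Fin 3) (Fin 3) F).det = 1)
    {ω : F} (hω : ω ≠ 1) (hω3 : ω ^ 3 = 1) (h : ∀ x, ap (n * a * n⁻¹) x = ω • ap a x) {c d : GL (Fin 3) F}
    (hc : c * a = a * c) (hd' : d * a = a * d) : c * d = d * c := by
  obtain ⟨A, hA⟩ : ∃ A : Matrix (Fin 3) (Fin 3) F, A = (a : Matrix (Fin 3) (Fin 3) F) := ⟨_, rfl⟩
  rw [← hA] at hd
  have hω0 : ω ≠ 0 := fun e => by rw [e] at hω3; simp at hω3
  have hω2 : ω ^ 2 + ω + 1 = 0 := (mul_eq_zero.1 (show (ω - 1) * (ω ^ 2 + ω + 1) = 0 by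
    linear_combination hω3)).resolve_left (sub_ne_zero.2 hω)
  have hnn : (n : Matrix (Fin 3) (Fin 3) F) * ((n⁻¹ : GL (Fin 3) F) : Matrix (Fin 3) (Fin 3) F) = 1 := by
    rw [← Units.val_mul, mul_inv_cancel, Units.val_one]
  have hnn' : ((n⁻¹ : GL (Fin 3) F) : Matrix (Fin 3) (Fin 3) F) * (n : Matrix (Fin 3) (Fin 3) F) = 1 := by
    rw [← Units.val_mul, inv_mul_cancel, Units.val_one]
  have hm : (n : Matrix (Fin 3) (Fin 3) F) * A * ((n⁻¹ : GL (Fin 3) F) : Matrix (Fin 3) (Fin 3) F) = ω • A :=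
    Matrix.ext_of_mulVec_single fun i => by
      rw [smul_mulVec, hA, ← Units.val_mul, ← Units.val_mul]
      exact h _
  have htr : A 0 0 + A 1 1 + A 2 2 = 0 := by
    have h1 := congrArg Matrix.trace hm
    rw [Matrix.trace_mul_comm, ← mul_assoc, hnn', one_mul, Matrix.trace_smul, Matrix.trace_fin_three,
      smul_eq_mul] at h1
    exact (mul_eq_zero.1 (show (ω - 1) * (A 0 0 + A 1 1 + A 2 2) = 0 by linear_combination -h1)).resolve_left
      (sub_ne_zero.2 hω)
  have hdd : (ω • A - 1).det = (A - 1).det := by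
    rw [← hm, show (n : Matrix (Fin 3) (Fin 3) F) * A * ((n⁻¹ : GL (Fin 3) F) : Matrix (Fin 3) (Fin 3) F) - 1 =
      (n : Matrix (Fin 3) (Fin 3) F) * (A - 1) * ((n⁻¹ : GL (Fin 3) F) : Matrix (Fin 3) (Fin 3) F) by
        rw [mul_sub, sub_mul, mul_one, hnn], det_mul, det_mul, mul_right_comm, ← det_mul, hnn, det_one, one_mul]
  have h0 : (A - 1).det = 0 := by
    simp only [Matrix.det_fin_three] at hd hdd ⊢
    simp only [Matrix.smul_apply, Matrix.sub_apply, smul_eq_mul, Matrix.one_apply_eq,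
      Matrix.one_apply_ne (show (0 : Fin 3) ≠ 1 by decide), Matrix.one_apply_ne (show (0 : Fin 3) ≠ 2 by decide),
      Matrix.one_apply_ne (show (1 : Fin 3) ≠ 0 by decide), Matrix.one_apply_ne (show (1 : Fin 3) ≠ 2 by decide),
      Matrix.one_apply_ne (show (2 : Fin 3) ≠ 0 by decide), Matrix.one_apply_ne (show (2 : Fin 3) ≠ 1 by decide),
      sub_zero] at hdd ⊢
    obtain ⟨Q, hQ⟩ : ∃ Q, Q = A 0 0 * A 1 1 + A 0 0 * A 2 2 + A 1 1 * A 2 2 - A 0 1 * A 1 0 - A 0 2 * A 2 0 -
      A 1 2 * A 2 1 := ⟨_, rfl⟩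
    have hQ0 : Q = 0 := by
      refine (mul_eq_zero.1 (show (ω ^ 2 - 1) * Q = 0 by
        rw [hQ]; linear_combination -hdd + (ω - 1) * htr + (ω ^ 3 - 1) * hd + hω3)).resolve_left fun e => ?_
      exact hω (sub_eq_zero.1 (mul_self_eq_zero.1 (show (ω - 1) * (ω - 1) = 0 by
        linear_combination e + (1 - ω) * h2)))
    rw [hQ] at hQ0
    linear_combination hd - hQ0 + htr
  obtain ⟨x, hx0, hx⟩ := Matrix.exists_mulVec_eq_zero_iff.2 h0
  rw [sub_mulVec, one_mulVec, sub_eq_zero] at hx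
  replace hx : ap a x = x := by rw [ap, ← hA]; exact hx
  have hna : ∀ y, ap a (ap n y) = ω ^ 2 • ap n (ap a y) := fun y => by
    have h1 := h (ap n y)
    rw [ap_mul, ap_mul, inv_ap] at h1
    rw [h1, smul_smul, show ω ^ 2 * ω = 1 by linear_combination hω3, one_smul]
  obtain ⟨x₁, hx₁⟩ : ∃ x₁, x₁ = ap n x := ⟨_, rfl⟩
  obtain ⟨x₂, hx₂⟩ : ∃ x₂, x₂ = ap n x₁ := ⟨_, rfl⟩
  have e1 : ap a x₁ = ω ^ 2 • x₁ := by rw [hx₁, hna, hx]
  have e2 : ap a x₂ = ω • x₂ := by
    rw [hx₂, hna, e1, ap_smul, smul_smul, show ω ^ 2 * ω ^ 2 = ω by linear_combination ω * hω3]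
  have hx₁0 : x₁ ≠ 0 := hx₁ ▸ ap_ne_zero n hx0
  have hx₂0 : x₂ ≠ 0 := hx₂ ▸ ap_ne_zero n hx₁0
  have hind : ∀ l m p : F, l • x + m • x₁ + p • x₂ = 0 → l = 0 ∧ m = 0 ∧ p = 0 := by
    intro l m p h1
    have h1' := congrArg (ap a) h1
    rw [ap_add, ap_add, ap_smul, ap_smul, ap_smul, hx, e1, e2, show ap a (0 : Fin 3 → F) = 0 from mulVec_zero _]
      at h1'
    have h1'' := congrArg (ap a) h1'
    rw [ap_add, ap_add, ap_smul, ap_smul, ap_smul, ap_smul, ap_smul, hx, e1, e2,
      show ap a (0 : Fin 3 → F) = 0 from mulVec_zero _] at h1''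
    have h3 : (3 : F) = 1 := by linear_combination h2
    have hl : l • x = 0 := by
      have : (l * 3) • x + (m * (1 + ω ^ 2 + ω ^ 2 * ω ^ 2)) • x₁ + (p * (1 + ω + ω * ω)) • x₂ = 0 := by
        linear_combination (norm := module) h1 + h1' + h1''
      rw [show ω ^ 2 * ω ^ 2 = ω by linear_combination ω * hω3, h3, show 1 + ω ^ 2 + ω = 0 by linear_combination hω2,
        show 1 + ω + ω * ω = 0 by linear_combination hω2, mul_zero, mul_zero, zero_smul, zero_smul, add_zero,
        add_zero, mul_one] at this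
      exact this
    rw [hl, zero_add] at h1
    rw [hl, zero_add] at h1'
    have hd0 : ω ^ 2 - ω ≠ 0 := fun e => hω (mul_left_cancel₀ hω0 (by linear_combination e))
    have hm0 : (m * (ω ^ 2 - ω)) • x₁ = 0 := by linear_combination (norm := module) h1' - ω • h1
    have hm' := (mul_eq_zero.1 ((smul_eq_zero.1 hm0).resolve_right hx₁0)).resolve_right hd0
    rw [hm', zero_smul, zero_add] at h1
    exact ⟨(smul_eq_zero.1 hl).resolve_right hx0, hm', (smul_eq_zero.1 h1).resolve_right hx₂0⟩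
  have hsp := span3_of_indep hind
  have heig : ∀ {g : GL (Fin 3) F}, g * a = a * g →
      (∃ l : F, ap g x = l • x) ∧ (∃ l : F, ap g x₁ = l • x₁) ∧ ∃ l : F, ap g x₂ = l • x₂ := fun {g} hg => by
    have key : ∀ y (c : F), ap a y = c • y → ap a (ap g y) = c • ap g y := fun y c hy => by
      rw [← ap_mul, ← hg, ap_mul, hy, ap_smul]
    have dec : ∀ y (c : F), ap a y = c • y → ∃ l m p : F, y = l • x + m • x₁ + p • x₂ ∧
        l * (1 - c) = 0 ∧ m * (ω ^ 2 - c) = 0 ∧ p * (ω - c) = 0 := fun y c hy => by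
      obtain ⟨l, m, p, rfl⟩ := hsp y
      refine ⟨l, m, p, rfl, hind _ _ _ ?_⟩
      rw [ap_add, ap_add, ap_smul, ap_smul, ap_smul, hx, e1, e2] at hy
      linear_combination (norm := module) hy
    have hω21 : ω ^ 2 - 1 ≠ 0 := fun e => hω (sub_eq_zero.1 (mul_self_eq_zero.1
      (show (ω - 1) * (ω - 1) = 0 by linear_combination e + (1 - ω) * h2)))
    have hd0 : ω ^ 2 - ω ≠ 0 := fun e => hω (mul_left_cancel₀ hω0 (by linear_combination e))
    have h1 : (1 : F) - ω ^ 2 ≠ 0 := fun e => hω21 (by linear_combination -e)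
    have h1' : (1 : F) - ω ≠ 0 := sub_ne_zero.2 (Ne.symm hω)
    have h1'' : ω - ω ^ 2 ≠ 0 := fun e => hd0 (by linear_combination -e)
    refine ⟨?_, ?_, ?_⟩
    · obtain ⟨l, m, p, he, -, hm', hp⟩ := dec _ 1 (key x 1 (by rw [hx, one_smul]))
      rw [(mul_eq_zero.1 hm').resolve_right hω21, (mul_eq_zero.1 hp).resolve_right (sub_ne_zero.2 hω), zero_smul,
        zero_smul, add_zero, add_zero] at he
      exact ⟨l, he⟩
    · obtain ⟨l, m, p, he, hl', -, hp⟩ := dec _ (ω ^ 2) (key x₁ _ e1)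
      rw [(mul_eq_zero.1 hl').resolve_right h1, (mul_eq_zero.1 hp).resolve_right h1'', zero_smul, zero_smul,
        zero_add, add_zero] at he
      exact ⟨m, he⟩
    · obtain ⟨l, m, p, he, hl', hm', -⟩ := dec _ ω (key x₂ _ e2)
      rw [(mul_eq_zero.1 hl').resolve_right h1', (mul_eq_zero.1 hm').resolve_right hd0, zero_smul, zero_smul,
        zero_add, zero_add] at he
      exact ⟨p, he⟩
  obtain ⟨⟨c0, hc0⟩, ⟨c1, hc1⟩, ⟨c2, hc2⟩⟩ := heig hc
  obtain ⟨⟨d0, hd0⟩, ⟨d1, hd1⟩, ⟨d2, hd2⟩⟩ := heig hd'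
  refine ap_ext fun y => ?_
  obtain ⟨l, m, p, rfl⟩ := hsp y
  simp only [ap_add, ap_smul, ap_mul, hc0, hc1, hc2, hd0, hd1, hd2]
  module

/-- the standing hypotheses for the subfield of four elements -/
structure Two (σ : F ≃+* F) (f : (Fin 3 → F) → (Fin 3 → F) → F) (F₀ : Subfield F) (u v e : Fin 3 → F)
    (M N : Subgroup (GL (Fin 3) F)) (T E : GL (Fin 3) F) (s₁ : F) : Prop where
  D : Dat σ f F₀ u v e
  S : Sub f F₀ u v e M
  hno : NoTv f F₀ M u
  two : (2 : F) = 0
  hT : IsE f T u 0 1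
  hE : IsE f E u ((1 : F) • e) s₁
  ee1 : f e e = 1
  TR : Rat f F₀ u v e T
  ER : Rat f F₀ u v e E
  TM : T ∈ M
  EM : E ∈ M
  EE : E * E = T
  le : N ≤ M
  conj : ∀ g ∈ M, ∀ n ∈ N, g * n * g⁻¹ ∈ N
  odd : Odd (Nat.card N)
  zst : ∀ g ∈ M, T * g * T⁻¹ * g⁻¹ ∈ N

namespace Two

variable {M N : Subgroup (GL (Fin 3) F)} {T E : GL (Fin 3) F} {s₁ : F} (K : Two σ f F₀ u v e M N T E s₁)
include K

theorem TT : T * T = 1 := ap_ext fun x => by
  have h2 := K.two
  rw [K.D.isE_mul K.hT K.hT K.D.uu (K.D.zero_right u) (K.D.zero_left u) x, ap_one, K.D.zero_right,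
    show (1 : F) + 1 = 0 by linear_combination h2]
  simp [K.D.zero_right]

theorem T_inv : T⁻¹ = T := inv_eq_of_mul_eq_one_right K.TT

theorem odd_order {n : GL (Fin 3) F} (hn : n ∈ N) : Odd (orderOf n) :=
  K.odd.of_dvd_nat (Subgroup.orderOf_dvd_natCard N hn)

theorem eq_one_of_pow_four {n : GL (Fin 3) F} (hn : n ∈ N) (h : n ^ 4 = 1) : n = 1 := by
  rw [← orderOf_eq_one_iff]
  have h1 : orderOf n ∣ 2 ^ 2 := orderOf_dvd_of_pow_eq_one h
  have hc : Nat.Coprime (orderOf n) (2 ^ 2) := Nat.Coprime.pow_right 2 (Nat.coprime_two_right.2 (K.odd_order hn))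
  exact Nat.eq_one_of_dvd_coprimes hc dvd_rfl h1

/-- the centraliser of the transvection in the core consists of scalars -/
theorem sc_of_commute {n : GL (Fin 3) F} (hn : n ∈ N) (hc : n * T = T * n) : Sc n := by
  have D := K.D
  have h2 := K.two
  have hnI := (K.S.ins n (K.le hn)).1
  obtain ⟨t, ht, -⟩ : ∃ t : F, ap n u = t • u ∧ True := by
    have h1 := isE_conj_zero K.hT hnI
    rw [hc, mul_inv_cancel_right] at h1
    obtain ⟨c, -, hcu, -⟩ := D.tv_unique h1 K.hT (ap_ne_zero n D.u_ne) D.u_ne one_ne_zero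
    exact ⟨c, hcu, trivial⟩
  have ht0 : t ≠ 0 := fun h => ap_ne_zero n D.u_ne (by rw [ht, h, zero_smul])
  obtain ⟨a, ha⟩ : ∃ a, a = f (ap n e) v := ⟨_, rfl⟩
  obtain ⟨s, hs⟩ : ∃ s, s = f (ap n e) e / f e e := ⟨_, rfl⟩
  have hne : ap n e = a • u + s • e := by
    have h : σ t * f (ap n e) u = 0 := by rw [← D.smul_right, ← ht, hnI, D.eu]
    have hd := D.expand (ap n e)
    rw [(mul_eq_zero.1 h).resolve_left ((map_ne_zero σ).2 ht0), zero_smul, add_zero, ← ha, ← hs] at hd
    exact hd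
  have hEy : f u ((1 : F) • e) = 0 := by rw [one_smul, D.ue]
  have hcomm : n * E = E * n := by
    obtain ⟨X, hX⟩ : ∃ X, X = n * E * n⁻¹ * E⁻¹ := ⟨_, rfl⟩
    have hXN : X ∈ N := by
      rw [hX, show n * E * n⁻¹ * E⁻¹ = n * (E * n⁻¹ * E⁻¹) by group]
      exact mul_mem hn (K.conj E K.EM _ (inv_mem hn))
    have h := K.hE.conj hnI (h := n)
    rw [ht, one_smul] at h
    have h1 := D.isE_scale h
    rw [hne, smul_add, smul_smul, smul_smul, add_comm ((σ t * a) • u)] at h1
    have h3 := D.isE_shift h1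
    have hEi : E⁻¹ = E * T := by
      refine inv_eq_of_mul_eq_one_right ?_
      rw [← mul_assoc, K.EE, K.TT]
    have h4 := D.isE_mul K.hE K.hT D.uu hEy (D.zero_left u)
    rw [← hEi, add_zero] at h4
    have h5 := D.isE_mul h3 h4 D.uu (by rw [D.smul_right, D.ue, mul_zero]) (by rw [D.smul_left, D.eu, mul_zero])
    rw [← hX, ← add_smul] at h5
    obtain ⟨η, hη⟩ : ∃ η, η = σ t * s + 1 := ⟨_, rfl⟩
    rw [← hη] at h5
    have hy1 : f u (η • e) = 0 := by rw [D.smul_right, D.ue, mul_zero]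
    have hy2 : f (η • e) u = 0 := by rw [D.smul_left, D.eu, mul_zero]
    have h6 := D.isE_mul h5 h5 D.uu hy1 hy2
    rw [← add_smul, show η + η = 0 by linear_combination η * h2, zero_smul] at h6
    have h7 := D.isE_mul h6 h6 D.uu (D.zero_right u) (D.zero_left u)
    have hX4 : X ^ 4 = 1 := by
      rw [show X ^ 4 = X * X * (X * X) by simp only [pow_succ, pow_zero, one_mul, mul_assoc]]
      refine ap_ext fun x => ?_
      rw [h7 x, ap_one]
      simp only [D.zero_right, add_zero, smul_zero, sub_zero]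
      rw [show ∀ k : F, k + k = 0 from fun k => by linear_combination k * h2, zero_mul, zero_smul, add_zero]
    have := K.eq_one_of_pow_four hXN hX4
    rw [hX, mul_inv_eq_one, mul_inv_eq_iff_eq_mul] at this
    exact this
  have hEe : ap E e = e + u := by
    rw [K.hE, D.eu, D.smul_right, map_one, one_mul, K.ee1, zero_smul, add_zero, mul_zero, zero_sub,
      show (-1 : F) = 1 by linear_combination -h2, one_smul]
  have hEv : ap E v = v + e + s₁ • u := by
    rw [K.hE, D.vu, D.smul_right, D.ve, mul_zero, sub_zero, mul_one, one_smul, one_smul]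
  have hEu : ap E u = u := by
    rw [K.hE, D.uu, D.smul_right, D.ue, mul_zero, mul_zero, sub_zero, zero_smul, add_zero, zero_smul, add_zero]
  have hst : s = t := by
    have h1 := congrArg (fun g => f (ap g e) v) hcomm
    simp only [ap_mul, hEe, hne, ap_add, ap_smul, hEu, ht, D.add_left, D.smul_left, D.uv, D.ev] at h1
    linear_combination -h1
  obtain ⟨ν, hν⟩ : ∃ ν, ν = f (ap n v) v := ⟨_, rfl⟩
  obtain ⟨μ, hμ⟩ : ∃ μ, μ = f (ap n v) e / f e e := ⟨_, rfl⟩
  obtain ⟨κ, hκ⟩ : ∃ κ, κ = f (ap n v) u := ⟨_, rfl⟩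
  have hnv : ap n v = ν • u + κ • v + μ • e := by rw [hν, hκ, hμ]; exact D.expand _
  have hκt : κ = t := by
    have h1 := congrArg (fun g => f (ap g v) e) hcomm
    simp only [ap_mul, hEv, hEe, hne, hnv, ap_add, ap_smul, hEu, ht, hst, D.add_left, D.smul_left, D.ue, D.ve,
      K.ee1] at h1
    linear_combination -h1
  rw [hκt] at hnv
  rw [hst] at hne
  have h4 : ∀ x, ap (n ^ 4) x = (t ^ 4) • x := fun x => by
    rw [D.expand x, show n ^ 4 = n * n * (n * n) by simp only [pow_succ, pow_zero, one_mul, mul_assoc]]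
    simp only [ap_mul, ap_add, ap_smul, ht, hne, hnv, smul_add]
    match_scalars
    all_goals first
      | ring1
      | linear_combination (3 * t ^ 2 * f x u * μ * a + 2 * t ^ 3 * f x u * ν + 2 * t ^ 3 * a * f x e * (f e e)⁻¹) * h2
      | linear_combination (2 * t ^ 3 * μ * f x u) * h2
  obtain ⟨m, hm⟩ := exists_pow_eq_self_of_coprime (x := n) (n := 4)
    (Nat.Coprime.pow_left 2 (Nat.coprime_two_left.2 (K.odd_order hn)))
  rw [← hm]
  exact Sc.pow ⟨_, h4⟩ m

/-- an inverted element of the core that commutes with its conjugate is trivial -/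
theorem eq_one_of_inverted {a : GL (Fin 3) F} (ha : a ∈ N) (hinv : T * a * T = a⁻¹)
    (hab : a * (E * a * E⁻¹) = E * a * E⁻¹ * a) : a = 1 := by
  classical
  by_contra ha1
  have D := K.D
  have h2 := K.two
  have hTu : ap T u = u := by rw [K.hT, D.uu, D.zero_right]; simp
  -- the fixed space of an inverted element is a line
  have line : ∀ {b : GL (Fin 3) F}, b ∈ N → b ≠ 1 → ∀ {x y : Fin 3 → F}, x ≠ 0 → ap b x = x → ap b y = y →
      ∃ l : F, y = l • x := by
    intro b hb hb1 x y hx0 hx hy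
    by_contra hno
    push Not at hno
    obtain ⟨z, hz⟩ : ∃ z, z ∉ Submodule.span F (Set.range ![x, y]) := by
      by_contra hall
      push Not at hall
      have h1 : Module.finrank F (Submodule.span F (Set.range ![x, y])) ≤ 2 := by
        simpa [Set.finrank] using finrank_range_le_card (R := F) ![x, y]
      rw [(Submodule.eq_top_iff').2 hall, finrank_top, Module.finrank_fin_fun] at h1
      omega
    have hli : LinearIndependent F ![x, y, z] := by
      refine Fintype.linearIndependent_iff.2 fun c hc => ?_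
      rw [Fin.sum_univ_three] at hc
      simp only [Matrix.cons_val] at hc
      have c2 : c 2 = 0 := by
        by_contra h
        refine hz ?_
        rw [show z = (-(c 0) / c 2) • x + (-(c 1) / c 2) • y from by
          refine smul_right_injective _ h ?_
          show c 2 • z = c 2 • ((-(c 0) / c 2) • x + (-(c 1) / c 2) • y)
          rw [smul_add, smul_smul, smul_smul, mul_div_cancel₀ _ h, mul_div_cancel₀ _ h]
          linear_combination (norm := module) hc]
        exact add_mem (Submodule.smul_mem _ _ (Submodule.subset_span ⟨0, rfl⟩))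
          (Submodule.smul_mem _ _ (Submodule.subset_span ⟨1, rfl⟩))
      rw [c2, zero_smul, add_zero] at hc
      have h01 := (LinearIndependent.pair_iff.1 ((LinearIndependent.pair_iff' hx0).2
        fun a' ha' => hno a' ha'.symm)) _ _ hc
      intro i
      fin_cases i
      · exact h01.1
      · exact h01.2
      · exact c2
    have hsp : Span3 x y z := span3_of_indep fun l m p h => by
      have := Fintype.linearIndependent_iff.1 hli ![l, m, p] (by simpa [Fin.sum_univ_three] using h)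
      exact ⟨this 0, this 1, this 2⟩
    obtain ⟨α, β, γ, hbz⟩ := hsp (ap b z)
    obtain ⟨B, hB⟩ : ∃ B : Matrix (Fin 3) (Fin 3) F, B = Matrix.of fun i j => ![x, y, z] j i := ⟨_, rfl⟩
    have hBu : IsUnit B := by
      rw [← Matrix.linearIndependent_cols_iff_isUnit]
      exact hB ▸ hli
    have hbB : (b : Matrix (Fin 3) (Fin 3) F) * B = B * !![1, 0, α; 0, 1, β; 0, 0, γ] := by
      ext i j
      have e1 : ((b : Matrix (Fin 3) (Fin 3) F) * B) i j = ap b (![x, y, z] j) i := by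
        simp only [ap, Matrix.mul_apply, mulVec, dotProduct, hB, of_apply]
      rw [e1]
      fin_cases j <;> simp [hx, hy, hbz, hB, Matrix.mul_apply, Fin.sum_univ_three, mul_comm]
    have hγ : γ = 1 := by
      have h1 := congrArg Matrix.det hbB
      have h3 : (!![1, 0, α; 0, 1, β; 0, 0, γ] : Matrix (Fin 3) (Fin 3) F).det = γ := by
        simp [Matrix.det_fin_three]
      rw [det_mul, det_mul, (K.S.ins b (K.le hb)).2, one_mul, h3] at h1
      have h0 : B.det ≠ 0 := ((Matrix.isUnit_iff_isUnit_det B).1 hBu).ne_zero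
      refine mul_left_cancel₀ h0 ?_
      linear_combination -h1
    rw [hγ, one_smul] at hbz
    have hsq : b * b = 1 := ap_ext fun w => by
      obtain ⟨l, m, p, rfl⟩ := hsp w
      simp only [ap_mul, ap_one, ap_add, ap_smul, hx, hy, hbz]
      linear_combination (norm := module) (p * α) • congrArg (fun c : F => c • x) h2 +
        (p * β) • congrArg (fun c : F => c • y) h2
    exact hb1 (K.eq_one_of_pow_four hb (by rw [show b ^ 4 = b * b * (b * b) by simp only [pow_succ, pow_zero, one_mul, mul_assoc], hsq, one_mul]))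
  have hai : ∀ x, ap a⁻¹ x = ap T (ap a (ap T x)) := fun x => by rw [← hinv, ap_mul, ap_mul]
  -- a fixed vector
  obtain ⟨x, hx0, hx⟩ : ∃ x, x ≠ 0 ∧ ap a x = x := by
    obtain ⟨Φ, hΦ⟩ : ∃ Φ : Matrix (Fin 3) (Fin 3) F,
        Φ = ((a⁻¹ : GL (Fin 3) F) : Matrix (Fin 3) (Fin 3) F) - (a : Matrix (Fin 3) (Fin 3) F) := ⟨_, rfl⟩
    have himg : ∀ x, Φ *ᵥ x ∈ Submodule.span F (Set.range ![ap a u, u]) := fun x => by
      rw [hΦ, sub_mulVec]
      show ap a⁻¹ x - ap a x ∈ _
      rw [hai, K.hT x]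
      simp only [D.zero_right, smul_zero, add_zero, sub_zero, one_mul, ap_add, ap_smul, hTu]
      rw [K.hT (ap a x), K.hT (ap a u)]
      simp only [D.zero_right, smul_zero, add_zero, sub_zero, one_mul]
      rw [Matrix.range_cons_cons_empty, Submodule.mem_span_pair]
      exact ⟨f x u, f (ap a x) u + f x u * f (ap a u) u, by module⟩
    have hd : Φ.det = 0 := by
      by_contra hd
      have hsurj : Function.Surjective Φ.mulVec :=
        Matrix.mulVec_surjective_iff_isUnit.2 ((Matrix.isUnit_iff_isUnit_det Φ).2 (isUnit_iff_ne_zero.2 hd))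
      have h1 : Module.finrank F (Submodule.span F (Set.range ![ap a u, u])) ≤ 2 := by
        simpa [Set.finrank] using finrank_range_le_card (R := F) ![ap a u, u]
      have htop : Submodule.span F (Set.range ![ap a u, u]) = ⊤ :=
        (Submodule.eq_top_iff').2 fun y => by obtain ⟨z, rfl⟩ := hsurj y; exact himg z
      rw [htop, finrank_top, Module.finrank_fin_fun] at h1
      omega
    obtain ⟨x, hx0, hx⟩ := Matrix.exists_mulVec_eq_zero_iff.2 hd
    rw [hΦ, sub_mulVec, sub_eq_zero] at hx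
    refine ⟨x, hx0, ?_⟩
    have haa : ap a (ap a x) = x := by
      have := congrArg (ap a) hx
      rw [show ap a ((((a⁻¹ : GL (Fin 3) F)) : Matrix (Fin 3) (Fin 3) F) *ᵥ x) = x from ap_inv a x] at this
      exact this.symm
    obtain ⟨i, hi⟩ := K.odd_order ha
    have hpow : ∀ i : ℕ, ap (a ^ (2 * i)) x = x := fun i => by
      induction i with
      | zero => rw [mul_zero, pow_zero, ap_one]
      | succ i ih => rw [show 2 * (i + 1) = 2 * i + 1 + 1 by ring, pow_succ, pow_succ, ap_mul, ap_mul, haa, ih]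
    have h1 := congrArg (fun g => ap g x) (pow_orderOf_eq_one a)
    simp only [hi, pow_succ', ap_mul, hpow, ap_one] at h1
    exact h1
  have hTT := K.TT
  have hTE : T * E = E * T := by rw [← K.EE, mul_assoc]
  obtain ⟨b, hb⟩ : ∃ b, b = E * a * E⁻¹ := ⟨_, rfl⟩
  rw [← hb] at hab
  have hbN : b ∈ N := hb ▸ K.conj E K.EM a ha
  have hb1 : b ≠ 1 := fun h => ha1 (by rw [hb, mul_inv_eq_one, mul_eq_left] at h; exact h)
  obtain ⟨y, hy⟩ : ∃ y, y = ap E x := ⟨_, rfl⟩
  have hy0 : y ≠ 0 := hy ▸ ap_ne_zero E hx0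
  have hby : ap b y = y := by rw [hy, hb, ap_mul, ap_mul, inv_ap, hx]
  obtain ⟨ν, hν⟩ : ∃ ν : F, ap a y = ν • y :=
    line hbN hb1 hy0 hby (by rw [← ap_mul, ← hab, ap_mul, hby])
  have hsx : ap T x = x := by
    have h1 : ap a (ap T x) = ap T x := by
      have h := hai x
      rw [show ap a⁻¹ x = x from by conv_lhs => rw [← hx, inv_ap]] at h
      have h' := congrArg (ap T) h
      rw [← ap_mul T T, hTT, ap_one] at h'
      exact h'.symm
    obtain ⟨l, hl⟩ := line ha ha1 hx0 hx h1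
    have h3 := congrArg (ap T) hl
    rw [← ap_mul, hTT, ap_one, ap_smul, hl, smul_smul] at h3
    have h4 : l * l = 1 := smul_left_injective F hx0 (h3.symm.trans (one_smul F x).symm)
    rw [hl, sub_eq_zero.1 (mul_self_eq_zero.1 (show (l - 1) * (l - 1) = 0 by
      linear_combination h4 + (1 - l) * h2)), one_smul]
  have hsy : ap T y = y := by rw [hy, ← ap_mul, hTE, ap_mul, hsx]
  have hν1 : ν = 1 := by
    have h := hai y
    rw [hsy, hν, ap_smul, hsy] at h
    have h' := congrArg (ap a) h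
    rw [ap_inv, ap_smul, hν, smul_smul] at h'
    have h4 : ν * ν = 1 := smul_left_injective F hy0 (h'.symm.trans (one_smul F y).symm)
    exact sub_eq_zero.1 (mul_self_eq_zero.1 (show (ν - 1) * (ν - 1) = 0 by linear_combination h4 + (1 - ν) * h2))
  rw [hν1, one_smul] at hν
  obtain ⟨ε, hε⟩ := line ha ha1 hx0 hx hν
  rw [hy] at hε
  have hEx : ap E x = x := by
    have h1 : ε ^ 4 = 1 := by
      have h := congrArg (fun g => ap g x) (show E * E * (E * E) = 1 by rw [K.EE, hTT])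
      simp only [ap_mul, hε, ap_smul, smul_smul, ap_one] at h
      refine smul_left_injective F hx0 ?_
      show ε ^ 4 • x = (1 : F) • x
      rw [one_smul, show ε ^ 4 = ε * (ε * (ε * ε)) by ring]
      convert h using 2
      ring
    have h3 : ε * ε = 1 := sub_eq_zero.1 (mul_self_eq_zero.1 (show (ε * ε - 1) * (ε * ε - 1) = 0 by
      linear_combination h1 + (1 - ε * ε) * h2))
    rw [hε, sub_eq_zero.1 (mul_self_eq_zero.1 (show (ε - 1) * (ε - 1) = 0 by
      linear_combination h3 + (1 - ε) * h2)), one_smul]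
  rw [K.hE, D.smul_right, map_one, one_mul, one_smul, add_assoc, add_eq_left] at hEx
  have e1 := congrArg (f · e) hEx
  simp only [D.add_left, D.smul_left, D.ue, K.ee1, D.zero_left, mul_one, mul_zero, add_zero] at e1
  have e2 := congrArg (f · v) hEx
  simp only [D.add_left, D.smul_left, D.uv, D.ev, D.zero_left, mul_one, mul_zero, zero_add] at e2
  rw [e1, mul_zero, zero_sub, neg_eq_zero] at e2
  have hxu : x = f x v • u := by
    conv_lhs => rw [D.expand x]
    rw [e1, e2, zero_div, zero_smul, zero_smul, add_zero, add_zero]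
  have hau : ap a u = u := by
    have h0 : f x v ≠ 0 := fun h => hx0 (by rw [hxu, h, zero_smul])
    rw [hxu, ap_smul] at hx
    exact smul_right_injective _ h0 hx
  have hc : a * T = T * a := by
    have h1 := isE_conj_zero K.hT (K.S.ins a (K.le ha)).1
    rw [hau] at h1
    exact mul_inv_eq_iff_eq_mul.1 (IsE.uniq h1 K.hT)
  have h1 : a * a = 1 := by
    rw [← hc, mul_assoc, hTT, mul_one] at hinv
    nth_rewrite 1 [hinv]
    exact inv_mul_cancel a
  exact ha1 (K.eq_one_of_pow_four ha (by rw [show a ^ 4 = a * a * (a * a) by simp only [pow_succ, pow_zero, one_mul, mul_assoc], h1, one_mul]))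

/-- abelian subgroups of the core normalised by the element of order four consist of scalars -/
theorem sc_of_abelian {A : Subgroup (GL (Fin 3) F)} (hA : A ≤ N) (hcomm : ∀ a ∈ A, ∀ b ∈ A, a * b = b * a)
    (hEA : ∀ a ∈ A, E * a * E⁻¹ ∈ A) {a : GL (Fin 3) F} (ha : a ∈ A) : Sc a := by
  have hTA : ∀ a ∈ A, T * a * T ∈ A := fun a ha => by
    have h := hEA _ (hEA a ha)
    rwa [show E * (E * a * E⁻¹) * E⁻¹ = T * a * T⁻¹ by rw [← K.EE]; group, K.T_inv] at h
  obtain ⟨b, hb⟩ : ∃ b, b = a⁻¹ * (T * a * T) := ⟨_, rfl⟩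
  have hbA : b ∈ A := hb ▸ mul_mem (inv_mem ha) (hTA a ha)
  have hTT := K.TT
  have hbi : T * b * T = b⁻¹ := by
    rw [hb, _root_.mul_inv_rev, _root_.mul_inv_rev, _root_.mul_inv_rev, inv_inv, K.T_inv]
    calc T * (a⁻¹ * (T * a * T)) * T = T * (a⁻¹ * T) * a * (T * T) := by group
      _ = T * (a⁻¹ * T) * a := by rw [hTT, mul_one]
  have h1 := K.eq_one_of_inverted (hA hbA) hbi (hcomm b hbA _ (hEA b hbA))
  rw [hb, inv_mul_eq_one] at h1
  refine K.sc_of_commute (hA ha) ?_
  nth_rewrite 1 [h1]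
  rw [mul_assoc, hTT, mul_one]

/-- the core has order a power of three -/
theorem isPGroup_core : IsPGroup 3 N := by
  classical
  have hEN : Subgroup.zpowers E ≤ Subgroup.normalizer (N : Set (GL (Fin 3) F)) := by
    rw [Subgroup.zpowers_le, Subgroup.mem_normalizer_iff]
    intro n
    refine ⟨K.conj E K.EM n, fun h => ?_⟩
    have := K.conj E⁻¹ (inv_mem K.EM) _ h
    rwa [show E⁻¹ * (E * n * E⁻¹) * E⁻¹⁻¹ = n by group] at this
  have hE4 : E ^ 4 = 1 := by rw [show E ^ 4 = E * E * (E * E) by simp only [pow_succ, pow_zero, one_mul, mul_assoc], K.EE, K.TT]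
  have hcop : (Nat.card (Subgroup.zpowers E)).Coprime (Nat.card N) := by
    rw [Nat.card_zpowers]
    exact (Nat.Coprime.pow_left 2 (Nat.coprime_two_left.2 K.odd)).coprime_dvd_left
      (orderOf_dvd_of_pow_eq_one hE4)
  have hprime : ∀ p : ℕ, p.Prime → p ∣ Nat.card N → p = 3 := by
    intro p hp hdvd
    by_contra hp3
    haveI := Fact.mk hp
    obtain ⟨P, hP⟩ := CfsgLib.Coprime.exists_invariant_sylow hEN hcop (Or.inl inferInstance) p
    obtain ⟨P', hP'⟩ : ∃ P', P' = (P : Subgroup N).map N.subtype := ⟨_, rfl⟩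
    rw [← hP'] at hP
    haveI : Nontrivial (P : Subgroup N) := Subgroup.nontrivial_iff_ne_bot _ |>.2 (P.ne_bot_of_dvd_card hdvd)
    haveI := P.2.center_nontrivial
    obtain ⟨⟨⟨z, hzP⟩, hzc⟩, hz1⟩ := exists_ne (1 : Subgroup.center (P : Subgroup N))
    obtain ⟨A, hA⟩ : ∃ A, A = P' ⊓ Subgroup.centralizer (P' : Set (GL (Fin 3) F)) := ⟨_, rfl⟩
    have hPN : P' ≤ N := hP' ▸ Subgroup.map_subtype_le _
    have hzA : (z : GL (Fin 3) F) ∈ A := by
      rw [hA, hP']
      refine ⟨⟨z, hzP, rfl⟩, Subgroup.mem_centralizer_iff.2 ?_⟩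
      rintro _ ⟨y, hy, rfl⟩
      exact congrArg (fun k : (P : Subgroup N) => ((k : N) : GL (Fin 3) F))
        (Subgroup.mem_center_iff.1 hzc ⟨y, hy⟩)
    obtain ⟨t, ht⟩ := K.sc_of_abelian (A := A) (hA ▸ inf_le_left.trans hPN)
      (fun a ha b hb => by
        rw [hA] at ha hb
        exact Subgroup.mem_centralizer_iff.1 hb.2 a ha.1)
      (fun a ha => by
        rw [hA] at ha ⊢
        have hn := Subgroup.mem_normalizer_iff.1 (hP (Subgroup.mem_zpowers E))
        refine ⟨(hn a).1 ha.1, Subgroup.mem_centralizer_iff.2 fun y hy => ?_⟩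
        have h := Subgroup.mem_centralizer_iff.1 ha.2 (E⁻¹ * y * E)
          ((hn _).2 (by rw [show E * (E⁻¹ * y * E) * E⁻¹ = y by group]; exact hy))
        calc y * (E * a * E⁻¹) = E * (E⁻¹ * y * E * a) * E⁻¹ := by group
          _ = E * (a * (E⁻¹ * y * E)) * E⁻¹ := by rw [h]
          _ = E * a * E⁻¹ * y := by group) hzA
    have h3 : (z : GL (Fin 3) F) ^ 3 = 1 := by
      have h0 : ∀ x, ap ((z : GL (Fin 3) F) ^ 3) x = x := fun x => by
        rw [show (z : GL (Fin 3) F) ^ 3 = z * z * z by simp only [pow_succ, pow_zero, one_mul], ap_mul, ap_mul, ht, ht, ht, smul_smul, smul_smul,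
          show t * t * t = t ^ 3 by ring, Sc.cube (K.S.ins _ (K.le z.2)).2 ht, one_smul]
      exact ap_ext fun x => by rw [h0, ap_one]
    obtain ⟨k, hk⟩ := P.2 ⟨z, hzP⟩
    have hk' : (z : GL (Fin 3) F) ^ p ^ k = 1 := by
      simpa using congrArg (fun w : (P : Subgroup N) => ((w : N) : GL (Fin 3) F)) hk
    have h1 : orderOf (z : GL (Fin 3) F) = 1 := Nat.eq_one_of_dvd_coprimes
      (Nat.Coprime.pow_right k ((Nat.coprime_primes Nat.prime_three hp).2 (Ne.symm hp3)))
      (orderOf_dvd_of_pow_eq_one h3) (orderOf_dvd_of_pow_eq_one hk')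
    exact hz1 (Subtype.ext (Subtype.ext (Subtype.ext (orderOf_eq_one_iff.1 h1))))
  exact IsPGroup.of_card (Nat.eq_prime_pow_of_unique_prime_dvd Nat.card_pos.ne' (fun {d} hd => hprime d hd))

/-- the core has at most 27 elements unless it is commutative -/
theorem card_core : Nat.card N ≤ 27 := by
  classical
  haveI : Fact (Nat.Prime 3) := ⟨Nat.prime_three⟩
  have h2 := K.two
  have hdet : ∀ g ∈ N, (g : Matrix (Fin 3) (Fin 3) F).det = 1 := fun g hg => (K.S.ins g (K.le hg)).2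
  have hZ : ∀ a ∈ N, (∀ n ∈ N, n * a = a * n) → Sc a := fun a ha hc => by
    refine K.sc_of_abelian (A := N ⊓ Subgroup.centralizer (N : Set (GL (Fin 3) F))) inf_le_left
      (fun a ha b hb => Subgroup.mem_centralizer_iff.1 hb.2 a ha.1) (fun a ha => ?_)
      ⟨ha, Subgroup.mem_centralizer_iff.2 hc⟩
    refine ⟨K.conj E K.EM a ha.1, Subgroup.mem_centralizer_iff.2 fun y hy => ?_⟩
    have h := Subgroup.mem_centralizer_iff.1 ha.2 (E⁻¹ * y * E) (by
      have := K.conj E⁻¹ (inv_mem K.EM) y hy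
      rwa [inv_inv] at this)
    calc y * (E * a * E⁻¹) = E * (E⁻¹ * y * E * a) * E⁻¹ := by group
      _ = E * (a * (E⁻¹ * y * E)) * E⁻¹ := by rw [h]
      _ = E * a * E⁻¹ * y := by group
  by_cases hall : ∀ a ∈ N, Sc a
  · exact (card_le_three hdet hall).trans (by norm_num)
  have hcentre : Subgroup.center N ≠ ⊤ := fun h => hall fun a ha => hZ a ha fun n hn => by
    have := Subgroup.mem_center_iff.1 (show (⟨a, ha⟩ : N) ∈ Subgroup.center N by rw [h]; trivial) ⟨n, hn⟩
    exact congrArg Subtype.val this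
  haveI : Nontrivial (N ⧸ Subgroup.center N) := QuotientGroup.nontrivial_iff.2 hcentre
  haveI := (K.isPGroup_core.to_quotient (Subgroup.center N)).center_nontrivial
  obtain ⟨⟨q, hq⟩, hq1⟩ := exists_ne (1 : Subgroup.center (N ⧸ Subgroup.center N))
  obtain ⟨⟨a, ha⟩, rfl⟩ := QuotientGroup.mk_surjective q
  have hnsc : ¬Sc a := fun h => hq1 (Subtype.ext ((QuotientGroup.eq_one_iff _).2 (Subgroup.mem_center_iff.2
    fun g => Subtype.ext (h.commute (g : GL (Fin 3) F)).symm)))
  have hω : ∀ n : N, ∃ ω : Fˣ, ω ^ 3 = 1 ∧ ∀ x, ap ((n : GL (Fin 3) F) * a * (n : GL (Fin 3) F)⁻¹) x =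
      (ω : F) • ap a x := fun n => by
    have h := Subgroup.mem_center_iff.1 hq (QuotientGroup.mk n)
    rw [← QuotientGroup.mk_mul, ← QuotientGroup.mk_mul, QuotientGroup.eq] at h
    have hs := hZ _ (show (((n * ⟨a, ha⟩)⁻¹ * (⟨a, ha⟩ * n) : N) : GL (Fin 3) F) ∈ N from SetLike.coe_mem _)
      fun m hm => congrArg Subtype.val (Subgroup.mem_center_iff.1 h ⟨m, hm⟩)
    obtain ⟨t, ht⟩ := hs
    have ht3 := Sc.cube (hdet _ (SetLike.coe_mem _)) ht
    have ht0 : t ≠ 0 := fun e => by rw [e] at ht3; simp at ht3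
    refine ⟨(Units.mk0 t ht0)⁻¹, ?_, fun x => ?_⟩
    · ext; simp [ht3]
    have h3 := congrArg (ap ((n : GL (Fin 3) F) * a)) (ht (ap (n : GL (Fin 3) F)⁻¹ x))
    rw [← ap_mul] at h3
    simp only [Subgroup.coe_mul, Subgroup.coe_inv, mul_inv_cancel_left] at h3
    rw [ap_mul a, ap_inv, ap_smul, ← ap_mul] at h3
    rw [Units.val_inv_eq_inv_val, Units.val_mk0, h3, inv_smul_smul₀ ht0]
  choose ω hω3 hωa using hω
  have ha0 : ∃ x, ap a x ≠ 0 := ⟨u, ap_ne_zero a K.D.u_ne⟩
  obtain ⟨x₀, hx₀⟩ := ha0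
  obtain ⟨χ, hχ⟩ : ∃ χ : N →* Fˣ, ∀ n, χ n = ω n := by
    refine ⟨MonoidHom.mk' ω fun n m => Units.ext (smul_left_injective F hx₀ ?_), fun _ => rfl⟩
    show (ω (n * m) : F) • ap a x₀ = ((ω n * ω m : Fˣ) : F) • ap a x₀
    have hm : ∀ x, ap (m : GL (Fin 3) F) (ap a (ap (m : GL (Fin 3) F)⁻¹ x)) = (ω m : F) • ap a x := fun x => by
      rw [← hωa, ap_mul, ap_mul]
    have hn : ∀ x, ap (n : GL (Fin 3) F) (ap a (ap (n : GL (Fin 3) F)⁻¹ x)) = (ω n : F) • ap a x := fun x => by
      rw [← hωa, ap_mul, ap_mul]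
    rw [← hωa, Subgroup.coe_mul, _root_.mul_inv_rev]
    simp only [ap_mul]
    rw [hm, ap_smul, hn, smul_smul, Units.val_mul, mul_comm]
  have hker : ∀ n : N, χ n = 1 ↔ (n : GL (Fin 3) F) * a = a * n := fun n => by
    rw [hχ]
    constructor
    · intro h
      refine mul_inv_eq_iff_eq_mul.1 (ap_ext fun x => ?_)
      rw [hωa, h, Units.val_one, one_smul]
    · intro h
      refine Units.ext (smul_left_injective F hx₀ ?_)
      show (ω n : F) • ap a x₀ = ((1 : Fˣ) : F) • ap a x₀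
      rw [← hωa, h, mul_inv_cancel_right, Units.val_one, one_smul]
  obtain ⟨n₁, hn₁⟩ : ∃ n : N, ω n ≠ 1 := by
    by_contra hno
    push Not at hno
    exact hnsc (hZ a ha fun n hn => (hker ⟨n, hn⟩).1 (by rw [hχ, hno]))
  have hcomm : ∀ {c d : GL (Fin 3) F}, c * a = a * c → d * a = a * d → c * d = d * c := fun hc hd =>
    commute_of_omega h2 (hdet a ha) (fun h => hn₁ (Units.ext h)) (by rw [← Units.val_pow_eq_pow_val, hω3]; rfl)
      (hωa n₁) hc hd
  obtain ⟨Dk, hDk⟩ : ∃ Dk, Dk = N ⊓ Subgroup.centralizer ({a} : Set (GL (Fin 3) F)) := ⟨_, rfl⟩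
  have hmemD : ∀ n, n ∈ Dk ↔ n ∈ N ∧ n * a = a * n := fun n => by
    rw [hDk, Subgroup.mem_inf, Subgroup.mem_centralizer_singleton_iff]
  have hkerD : Nat.card χ.ker = Nat.card Dk := Nat.card_congr
    { toFun := fun n => ⟨n.1.1, (hmemD _).2 ⟨n.1.2, (hker n.1).1 n.2⟩⟩
      invFun := fun n => ⟨⟨n.1, ((hmemD _).1 n.2).1⟩, (hker _).2 ((hmemD _).1 n.2).2⟩
      left_inv := fun n => rfl
      right_inv := fun n => rfl }
  have hND : Nat.card N ≤ 3 * Nat.card Dk := hkerD ▸ card_le_three_mul χ fun n => by rw [hχ, hω3]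
  obtain ⟨D', hD'⟩ : ∃ D', D' = Dk.map (MulAut.conj E).toMonoidHom := ⟨_, rfl⟩
  have hmemD' : ∀ n, n ∈ D' ↔ E⁻¹ * n * E ∈ Dk := fun n => by
    rw [hD', Subgroup.mem_map_equiv, MulAut.conj_symm_apply]
  have hI : Nat.card (Dk ⊓ D' : Subgroup (GL (Fin 3) F)) ≤ 3 := by
    refine card_le_three (fun g hg => hdet g ((hmemD g).1 hg.1).1) fun z hz => ?_
    by_cases hle : D' ≤ Dk
    · have heq : D' = Dk := Subgroup.eq_of_le_of_card_ge hle (by
        rw [hD', Subgroup.card_map_of_injective (MulAut.conj E).injective])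
      refine K.sc_of_abelian (A := Dk) (fun n hn => ((hmemD n).1 hn).1)
        (fun c hc d hd => hcomm ((hmemD c).1 hc).2 ((hmemD d).1 hd).2) (fun c hc => ?_) hz.1
      rw [← heq, hmemD']
      rwa [show E⁻¹ * (E * c * E⁻¹) * E = c by group]
    · obtain ⟨y, hyD', hyD⟩ := SetLike.not_le_iff_exists.1 hle
      have hy := (hmemD' y).1 hyD'
      have hyN : y ∈ N := by
        have := K.conj E K.EM _ ((hmemD _).1 hy).1
        rwa [show E * (E⁻¹ * y * E) * E⁻¹ = y by group] at this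
      have hzy : z * y = y * z := by
        have h := hcomm ((hmemD _).1 ((hmemD' z).1 hz.2)).2 ((hmemD _).1 hy).2
        calc z * y = E * (E⁻¹ * z * E * (E⁻¹ * y * E)) * E⁻¹ := by group
          _ = E * (E⁻¹ * y * E * (E⁻¹ * z * E)) * E⁻¹ := by rw [h]
          _ = y * z := by group
      refine hZ z ((hmemD z).1 hz.1).1 fun n hn => ?_
      have hζ : χ ⟨y, hyN⟩ ≠ 1 := fun h => hyD ((hmemD y).2 ⟨hyN, (hker _).1 h⟩)
      obtain ⟨i, hi⟩ : ∃ i : ℕ, χ ⟨n, hn⟩ = χ ⟨y, hyN⟩ ^ i := by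
        have hr := congrArg Units.val (hω3 ⟨n, hn⟩)
        have hz' := congrArg Units.val (hω3 ⟨y, hyN⟩)
        rw [Units.val_pow_eq_pow_val, Units.val_one] at hr hz'
        obtain ⟨c, hc⟩ : ∃ c : F, c = (ω ⟨y, hyN⟩ : F) := ⟨_, rfl⟩
        have hc1 : c ≠ 1 := fun h => hζ (by rw [hχ]; exact Units.ext (hc ▸ h))
        rw [← hc] at hz'
        have hc2 : c ^ 2 + c + 1 = 0 := (mul_eq_zero.1 (show (c - 1) * (c ^ 2 + c + 1) = 0 by
          linear_combination hz')).resolve_left (sub_ne_zero.2 hc1)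
        obtain ⟨r, hr'⟩ : ∃ r : F, r = (ω ⟨n, hn⟩ : F) := ⟨_, rfl⟩
        rw [← hr'] at hr
        rcases mul_eq_zero.1 (show ((r - 1) * (r - c)) * (r - c ^ 2) = 0 by
          linear_combination (-(r ^ 2) + r * c) * hc2 + hr - hz') with h | h
        · rcases mul_eq_zero.1 h with h | h
          · exact ⟨0, by rw [pow_zero, hχ]; exact Units.ext (hr' ▸ sub_eq_zero.1 h)⟩
          · exact ⟨1, by rw [pow_one, hχ, hχ]; exact Units.ext (hr' ▸ hc ▸ sub_eq_zero.1 h)⟩
        · exact ⟨2, by rw [hχ, hχ]; exact Units.ext (by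
            rw [Units.val_pow_eq_pow_val, ← hr', ← hc]; exact sub_eq_zero.1 h)⟩
      have hd : n * (y ^ i)⁻¹ ∈ Dk := (hmemD _).2 ⟨mul_mem hn (inv_mem (pow_mem hyN i)), (hker
        ⟨_, mul_mem hn (inv_mem (pow_mem hyN i))⟩).1 (by
          show χ (⟨n, hn⟩ * (⟨y, hyN⟩ ^ i)⁻¹) = 1
          rw [map_mul, map_inv, map_pow, hi, mul_inv_cancel])⟩
      have h1 := hcomm ((hmemD _).1 hz.1).2 ((hmemD _).1 hd).2
      have h3 : Commute z (y ^ i) := (show Commute z y from hzy).pow_right i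
      have h4 : Commute z (n * (y ^ i)⁻¹ * y ^ i) := Commute.mul_right h1 h3
      rw [inv_mul_cancel_right] at h4
      exact h4.eq.symm
  -- the second centraliser cuts the first in index at most three
  obtain ⟨a', ha'⟩ : ∃ a', a' = E * a * E⁻¹ := ⟨_, rfl⟩
  have hDN : Dk ≤ N := hDk ▸ inf_le_left
  have hk : ∀ n : Dk, E⁻¹ * (n : GL (Fin 3) F) * E ∈ N := fun n => by
    have := K.conj E⁻¹ (inv_mem K.EM) _ (hDN n.2)
    rwa [inv_inv] at this
  obtain ⟨ψ, hψ⟩ : ∃ ψ : Dk →* Fˣ, ∀ n, ψ n = χ ⟨_, hk n⟩ :=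
    ⟨MonoidHom.mk' (fun n => χ ⟨_, hk n⟩) fun n m => by
      rw [← map_mul]; congr 1; ext1; simp only [Subgroup.coe_mul]; group, fun _ => rfl⟩
  have hψker : Nat.card ψ.ker = Nat.card (Dk ⊓ D' : Subgroup (GL (Fin 3) F)) := Nat.card_congr
    { toFun := fun n => ⟨n.1.1, n.1.2, (hmemD' _).2 ((hmemD _).2 ⟨hk n.1, (hker _).1 ((hψ n.1).symm.trans n.2)⟩)⟩
      invFun := fun n => ⟨⟨n.1, n.2.1⟩, by
        rw [MonoidHom.mem_ker, hψ]; exact (hker _).2 ((hmemD _).1 ((hmemD' _).1 n.2.2)).2⟩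
      left_inv := fun n => rfl
      right_inv := fun n => rfl }
  have h9 := card_le_three_mul ψ fun n => by rw [hψ, hχ, hω3]
  omega

/-- elements commute with the conjugation up to scalars -/
theorem com {g : GL (Fin 3) F} (hg : g ∈ M) : Com f F₀ u v e g := by
  classical
  have D := K.D
  have h2 := K.two
  haveI : Fact (Nat.Prime 3) := ⟨Nat.prime_three⟩
  obtain ⟨R, hR⟩ : ∃ R : Subgroup (GL (Fin 3) F), ∀ n, n ∈ R ↔ n ∈ N ∧ Com f F₀ u v e n :=
    ⟨{ carrier := {n | n ∈ N ∧ Com f F₀ u v e n}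
       one_mem' := ⟨one_mem N, D.com_one⟩
       mul_mem' := fun hx hy => ⟨mul_mem hx.1 hy.1, D.com_mul hx.2 hy.2⟩
       inv_mem' := fun hx => ⟨inv_mem hx.1, D.com_inv hx.2⟩ }, fun _ => Iff.rfl⟩
  have hTC := D.com_of_rat K.TR
  obtain ⟨W, hWs, hWr, hWu, hWv⟩ := D.exists_swap
  obtain ⟨x, hx⟩ : ∃ x, x = T * W * T⁻¹ * W⁻¹ := ⟨_, rfl⟩
  have hxR : x ∈ R := by
    rw [hR, hx]
    exact ⟨K.zst W (D.mem_rat K.S hWs hWr), D.com_mul (D.com_mul (D.com_mul hTC (D.com_of_rat hWr))
      (D.com_inv hTC)) (D.com_inv (D.com_of_rat hWr))⟩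
  have hxu : ap x u = v := by
    have hWi : ap W⁻¹ u = v := by conv_lhs => rw [← hWv, inv_ap]
    have hTv : ap T v = v + u := by
      rw [K.hT, D.vu, D.zero_right, smul_zero, add_zero, mul_one, sub_zero, one_smul]
    have hTu : ap T u = u := by rw [K.hT, D.uu, D.zero_right]; simp
    rw [hx, K.T_inv]
    simp only [ap_mul, hWi, hTv, ap_add, hWu, hWv, hTu]
    linear_combination (norm := module) congrArg (fun c : F => c • u) h2
  have hEC := D.com_of_rat K.ER
  have hRne : ¬∀ a ∈ R, ∀ b ∈ R, a * b = b * a := fun hcomm => by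
    obtain ⟨t, ht⟩ := K.sc_of_abelian (A := R) (fun n hn => ((hR n).1 hn).1) hcomm
      (fun a ha => (hR _).2 ⟨K.conj E K.EM a ((hR a).1 ha).1,
        D.com_mul (D.com_mul hEC ((hR a).1 ha).2) (D.com_inv hEC)⟩) hxR
    rw [ht] at hxu
    have := congrArg (f · u) hxu
    simp only [D.smul_left, D.uu, D.vu, mul_zero] at this
    exact zero_ne_one this
  have hRN : R = N := by
    refine Subgroup.eq_of_le_of_card_ge (fun n hn => ((hR n).1 hn).1) (K.card_core.trans ?_)
    obtain ⟨k, hk⟩ := (K.isPGroup_core.to_le (fun n hn => ((hR n).1 hn).1)).exists_card_eq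
    rw [hk]
    by_contra hlt
    refine hRne fun a ha b hb => ?_
    rcases Nat.lt_or_ge k 3 with hk3 | hk3
    · interval_cases k
      · haveI : Subsingleton R := (Nat.card_eq_one_iff_unique.1 (by simpa using hk)).1
        exact congrArg Subtype.val (Subsingleton.elim (⟨a, ha⟩ * ⟨b, hb⟩ : R) (⟨b, hb⟩ * ⟨a, ha⟩))
      · haveI := isCyclic_of_prime_card (α := R) (p := 3) (by simpa using hk)
        letI := IsCyclic.commGroup (α := R)
        exact congrArg Subtype.val (mul_comm (⟨a, ha⟩ : R) ⟨b, hb⟩)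
      · exact congrArg Subtype.val
          ((IsPGroup.isMulCommutative_of_card_eq_prime_sq hk).is_comm.comm (⟨a, ha⟩ : R) ⟨b, hb⟩)
    · exact absurd (Nat.pow_le_pow_right (show 1 ≤ 3 by norm_num) hk3) hlt
  obtain ⟨t, ht⟩ : ∃ t, t = g * T * g⁻¹ := ⟨_, rfl⟩
  have htC : Com f F₀ u v e t := by
    have h1 := K.zst g hg
    rw [← hRN, hR] at h1
    have h3 := D.com_mul (D.com_inv h1.2) hTC
    rwa [show (T * g * T⁻¹ * g⁻¹)⁻¹ * T = g * T * g⁻¹ * T⁻¹ * T by group, inv_mul_cancel_right, ← ht] at h3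
  have htt : t * t = 1 := by
    rw [ht, show g * T * g⁻¹ * (g * T * g⁻¹) = g * (T * T) * g⁻¹ by group, K.TT, mul_one, mul_inv_cancel]
  obtain ⟨w, hw⟩ : ∃ w, w = ap g u := ⟨_, rfl⟩
  have hgI := (K.S.ins g hg).1
  have htE : IsE f t w 0 1 := by rw [ht, hw]; exact isE_conj_zero K.hT hgI
  by_cases hb : f u w = 0
  · obtain ⟨l, hl⟩ := D.mem_span_of_orth D.u_ne D.uu (by rw [hw, hgI, D.uu]) hb
    exact D.com_of_fix K.S K.hno hg (hw ▸ hl)
  obtain ⟨c, hc, hct⟩ := htC
  have hcR : c ∈ F₀ := by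
    have h1 := hct _ (hct u D.rt_u)
    rw [ap_smul, ← ap_mul, htt, ap_one, smul_smul] at h1
    refine D.quad c 0 (c * c) (zero_mem _) ?_ (by rw [zero_mul, zero_add])
    have := D.rt_form h1 D.rt_v
    rwa [D.smul_left, D.uv, mul_one] at this
  refine D.com_of_point K.S K.hno hg hb ?_
  rw [← hw]
  have h1 := D.rt_sub (D.rt_smul (inv_mem hcR) (hct u D.rt_u)) D.rt_u
  rwa [inv_smul_smul₀ hc, htE, D.zero_right, smul_zero, add_zero, sub_zero, one_mul, add_sub_cancel_left] at h1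

end Two

namespace Dat

variable (D : Dat σ f F₀ u v e)
include D

/-- over the field of four elements an overgroup without irrational transvections is rational -/
theorem com_four (h2 : (2 : F) = 0) (hone : ∀ k ∈ F₀, σ k = k → k = 0 ∨ k = 1)
    {M : Subgroup (GL (Fin 3) F)} (S : Sub f F₀ u v e M) (hno : NoTv f F₀ M u) {g : GL (Fin 3) F} (hg : g ∈ M) :
    Com f F₀ u v e g := by
  classical
  have hee : f e e = 1 := (hone _ D.eeR D.ee_fix).resolve_left D.ee
  obtain ⟨T, hTs, hT, hTr⟩ := D.exists_T (k := 1) (by rw [map_one]; linear_combination h2)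
  obtain ⟨s₁, hs₁R, hs₁⟩ := D.trace_onto (-((1 : F) * σ 1 * f e e))
    (by rw [map_one, one_mul, one_mul]; exact neg_mem D.eeR)
    (by rw [map_one, one_mul, one_mul, map_neg, D.ee_fix])
  obtain ⟨E, hEs, hE, hEr⟩ := D.exists_E hs₁
  have hTM := D.mem_rat S hTs (hTr (one_mem _))
  have hEM := D.mem_rat S hEs (hEr (one_mem _) hs₁R)
  have hEE : E * E = T := IsE.uniq (D.isE_mul hE hE D.uu (by rw [one_smul, D.ue]) (by rw [one_smul, D.eu])) fun x => by
    rw [hT, one_smul, hee, D.zero_right, show e + e = (0 : Fin 3 → F) by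
      linear_combination (norm := module) congrArg (fun c : F => c • e) h2, D.zero_right,
      show s₁ + s₁ - 1 = (1 : F) by linear_combination (s₁ - 1) * h2]
  have hTne : T ≠ 1 := fun h => by
    have h1 := congrArg (fun g => f (ap g v) v) h
    simp only [hT v, ap_one, D.zero_right, smul_zero, add_zero, sub_zero, D.vu, mul_one, D.add_left, D.smul_left,
      D.vv, D.uv, zero_add] at h1
    exact one_ne_zero h1
  have hT2 : T * T = 1 := IsE.uniq (D.isE_mul hT hT D.uu (D.zero_right u) (D.zero_left u)) fun x => by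
    rw [ap_one, D.zero_right, show (1 : F) + 1 - 0 = 0 by linear_combination h2, add_zero, D.zero_right, smul_zero,
      zero_mul, sub_zero, zero_smul, add_zero, add_zero]
  have hiso : Cfsg.IsIsolatedInvolution (⟨T, hTM⟩ : M) := by
    refine ⟨orderOf_eq_prime (Subtype.ext (by rw [sq]; exact hT2)) (fun h => hTne (congrArg Subtype.val h)),
      fun k hk => Subtype.ext ?_⟩
    show (k : GL (Fin 3) F) * T * (k : GL (Fin 3) F)⁻¹ = T
    have hcom : T * ((k : GL (Fin 3) F) * T * (k : GL (Fin 3) F)⁻¹) =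
        (k : GL (Fin 3) F) * T * (k : GL (Fin 3) F)⁻¹ * T := congrArg Subtype.val hk.eq
    have hkI := (S.ins _ k.2).1
    have hT' : IsE f ((k : GL (Fin 3) F) * T * (k : GL (Fin 3) F)⁻¹) (ap (k : GL (Fin 3) F) u) 0 1 :=
      isE_conj_zero hT hkI
    obtain ⟨w, hw⟩ : ∃ w, w = ap (k : GL (Fin 3) F) u := ⟨_, rfl⟩
    rw [← hw] at hT'
    have hw0 : w ≠ 0 := hw ▸ ap_ne_zero _ D.u_ne
    have hww : f w w = 0 := by rw [hw, hkI, D.uu]
    have hb : f u w = 0 := by
      obtain ⟨T', hT'd⟩ : ∃ T', T' = (k : GL (Fin 3) F) * T * (k : GL (Fin 3) F)⁻¹ := ⟨_, rfl⟩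
      rw [← hT'd] at hcom hT'
      have h1 := congrArg (fun g => ap g w) hcom
      simp only [ap_mul] at h1
      rw [hT' w, hww, hT w] at h1
      simp only [D.zero_right, smul_zero, add_zero, sub_zero, mul_zero, zero_smul, one_mul] at h1
      rw [hT' (w + f w u • u)] at h1
      simp only [D.zero_right, smul_zero, add_zero, sub_zero, one_mul, D.add_left, D.smul_left, hww, zero_add] at h1
      rw [hT w] at h1
      simp only [D.zero_right, smul_zero, add_zero, sub_zero, one_mul] at h1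
      rcases mul_eq_zero.1 ((smul_eq_zero.1 (left_eq_add.1 h1)).resolve_right hw0) with h | h
      · exact D.perp_symm h
      · exact h
    obtain ⟨l, hl⟩ := D.mem_span_of_orth D.u_ne D.uu hww hb
    rw [hl] at hT'
    have h1 := D.isE_scale hT'
    rw [smul_zero, mul_one] at h1
    have h3 := hno _ (mul_mem (mul_mem k.2 hTM) (inv_mem k.2)) _ h1
    have hl0 : l * σ l ≠ 0 := mul_ne_zero (fun h => hw0 (by rw [hl, h, zero_smul]))
      ((map_ne_zero σ).2 fun h => hw0 (by rw [hl, h, zero_smul]))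
    rw [(hone _ h3 (by rw [map_mul, D.ss, mul_comm])).resolve_left hl0] at h1
    exact IsE.uniq h1 hT
  obtain ⟨N, hN⟩ : ∃ N, N = (Cfsg.oddCore M).map M.subtype := ⟨_, rfl⟩
  haveI : (Cfsg.oddCore M).Normal := CfsgLib.Solvable.pPrimeCore_normal 2 M
  have K : Two σ f F₀ u v e M N T E s₁ := by
    refine ⟨D, S, hno, h2, hT, hE, hee, hTr (one_mem _), hEr (one_mem _) hs₁R, hTM, hEM, hEE,
      hN ▸ Subgroup.map_subtype_le _, fun g hg n hn => ?_, ?_, fun g hg => ?_⟩
    · rw [hN] at hn ⊢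
      obtain ⟨n, hn, rfl⟩ := hn
      exact ⟨_, Subgroup.Normal.conj_mem inferInstance n hn ⟨g, hg⟩, rfl⟩
    · rw [hN, Subgroup.card_map_of_injective M.subtype_injective]
      exact CfsgLib.Invol.odd_card_oddCore M
    · rw [hN]
      exact ⟨_, CfsgLib.Invol.zstar M hiso ⟨g, hg⟩, rfl⟩
  exact K.com hg

end Dat

end CfsgLib.MaxSub.SuThree.SubF
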